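import Groth.Agent.DefLift.CechSplit
import Groth.Agent.SerrePn.SheafHomExt
import Groth.Agent.ExtShX.HomTilde
import Groth.Agent.ExtShX.AffineTilde
import Groth.Agent.SiteCoh.Basic
import Groth.Agent.QC.Local
import Groth.Agent.DQCoh.LocLift
import Mathlib

/-!
# The terms of the Čech resolution by affine opens have no first Ext against locally free modules
-/

set_option autoImplicit false
set_option linter.style.haveILetI false
set_option backward.isDefEq.respectTransparency false
universe u

open CategoryTheory CategoryTheory.Limits AlgebraicGeometry Opposite TopologicalSpace Abelian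

noncomputable section

namespace Groth.Agent.DefLift

open Groth.Agent.QC

theorem ext_one_affine {W : Scheme.{u}} [IsAffine W] [HasExt.{u} W.Modules] {D N : W.Modules}
    (hD : FlatMod.IsFinLocFree D) (hN : Coh.IsQCoh N) : Subsingleton (Ext D N 1) := by
  letI : W.Over (Spec (CommRingCat.of Γ(W, (⊤ : W.Opens)))) := ⟨W.toSpecΓ⟩
  haveI : DCoh.HasSheafHom D := W7Hull.hasSheafHom_sch D
  let A : Type u := Γ(W, (⊤ : W.Opens))
  obtain ⟨e⟩ := SerrePn.ext_equiv_hh A D hD 1 N
  haveI := ExtShX.subsingleton_hh_qcoh ((DCoh.sheafHom D).obj N) (ExtShX.isQCoh_sheafHom_locFree hD hN) 0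
  exact e.toEquiv.subsingleton

section Abstract

variable {A B : Type*} [Category A] [Category B] [Abelian A] [Abelian B] [HasExt.{u} A] [HasExt.{u} B]

/-- First Ext into the image of a right adjoint whose left adjoint is exact. -/
theorem ext_one_adjoint {L : A ⥤ B} {R : B ⥤ A} (adj : L ⊣ R) [R.Additive] [L.PreservesMonomorphisms]
    [EnoughInjectives B] {F : A} {N : B} (h : Subsingleton (Ext (L.obj F) N 1)) : Subsingleton (Ext F (R.obj N) 1) := by
  haveI : Injective (R.obj (Injective.under N)) := Injective.injective_of_adjoint adj _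
  haveI : Mono (R.map (Injective.ι N)) := by
    haveI := adj.isRightAdjoint
    infer_instance
  let S : ShortComplex A :=
    ShortComplex.mk (R.map (Injective.ι N)) (cokernel.π (R.map (Injective.ι N))) (cokernel.condition _)
  have hS : S.ShortExact := { exact := ShortComplex.exact_cokernel _ }
  haveI : Subsingleton (Ext F S.X₂ 1) := SiteCoh.subsingleton_ext_injective F (R.obj (Injective.under N)) 0
  refine SiteCoh.subsingleton_ext_one_of_lift hS F fun φ => ?_
  let T := SiteCoh.embedSeq N
  have hT : T.ShortExact := SiteCoh.embedSeq_shortExact N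
  let m : S.X₃ ⟶ R.obj T.X₃ := cokernel.desc _ (R.map T.g) (by rw [← R.map_comp, T.zero, R.map_zero])
  haveI : Mono m := by
    haveI : PreservesLimitsOfSize.{0, 0} R := adj.rightAdjoint_preservesLimits
    refine Preadditive.mono_of_cancel_zero m fun {P} g hg => ?_
    obtain ⟨A', π, hπ, y, hy⟩ := surjective_up_to_refinements_of_epi S.g g
    have h0 : y ≫ R.map T.g = 0 := by
      have : S.g ≫ m = R.map T.g := cokernel.π_desc _ _ _
      rw [← this, ← Category.assoc, ← hy, Category.assoc, hg, comp_zero]
    haveI : Mono (R.map T.f) := inferInstanceAs (Mono (R.map (Injective.ι N)))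
    haveI : Mono (T.map R).f := inferInstanceAs (Mono (R.map (Injective.ι N)))
    have hk := (hT.exact.map_of_mono_of_preservesKernel R hT.mono_f inferInstance).fIsKernel
    obtain ⟨l, hl⟩ := KernelFork.IsLimit.lift' hk y h0
    rw [← cancel_epi π, hy, ← hl, comp_zero]
    change (l ≫ R.map T.f) ≫ S.g = 0
    rw [Category.assoc]
    exact (congrArg (l ≫ ·) S.zero).trans comp_zero
  haveI : Subsingleton (Ext (L.obj F) T.X₁ 1) := h
  obtain ⟨ψ, hψ⟩ := SiteCoh.exists_lift_of_subsingleton_ext_one hT (L.obj F) ((adj.homEquiv _ _).symm (φ ≫ m))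
  refine ⟨adj.homEquiv _ _ ψ, ?_⟩
  rw [← cancel_mono m, Category.assoc, show S.g ≫ m = R.map T.g from cokernel.π_desc _ _ _,
    ← adj.homEquiv_naturality_right, hψ, Equiv.apply_symm_apply]

/-- First Ext into a product. -/
theorem ext_one_pi {κ : Type u} [HasProductsOfShape κ A] [EnoughInjectives A] {F : A} (T : κ → A)
    (h : ∀ i, Subsingleton (Ext F (T i) 1)) : Subsingleton (Ext F (∏ᶜ T) 1) := by
  let j : ∏ᶜ T ⟶ ∏ᶜ fun i => Injective.under (T i) := Limits.Pi.map fun i => Injective.ι (T i)
  let S : ShortComplex A := ShortComplex.mk j (cokernel.π j) (cokernel.condition _)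
  have hS : S.ShortExact := { exact := ShortComplex.exact_cokernel _ }
  haveI : Subsingleton (Ext F S.X₂ 1) := SiteCoh.subsingleton_ext_injective F (∏ᶜ fun i => Injective.under (T i)) 0
  refine SiteCoh.subsingleton_ext_one_of_lift hS F fun φ => ?_
  let m : ∀ i, S.X₃ ⟶ cokernel (Injective.ι (T i)) := fun i =>
    cokernel.desc _ (Pi.π _ i ≫ cokernel.π _) (by simp [j])
  have hl : ∀ i, ∃ ψ, ψ ≫ cokernel.π (Injective.ι (T i)) = φ ≫ m i := fun i => by
    haveI : Subsingleton (Ext F (SiteCoh.embedSeq (T i)).X₁ 1) := h i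
    exact SiteCoh.exists_lift_of_subsingleton_ext_one (SiteCoh.embedSeq_shortExact (T i)) F (φ ≫ m i)
  choose ψ hψ using hl
  refine ⟨Pi.lift ψ, ?_⟩
  rw [← sub_eq_zero]
  refine (show ∀ g : F ⟶ S.X₃, (∀ i, g ≫ m i = 0) → g = 0 from fun g hg => ?_) _ fun i => ?_
  · obtain ⟨A', π, hπ, y, hy⟩ := surjective_up_to_refinements_of_epi S.g g
    have h0 : ∀ i, (y ≫ Pi.π _ i) ≫ cokernel.π (Injective.ι (T i)) = 0 := fun i => by
      have : S.g ≫ m i = Pi.π (fun i => Injective.under (T i)) i ≫ cokernel.π _ := cokernel.π_desc _ _ _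
      rw [Category.assoc, ← this, ← Category.assoc, ← hy, Category.assoc, hg, comp_zero]
    haveI : ∀ i, Mono (SiteCoh.embedSeq (T i)).f := fun i => inferInstanceAs (Mono (Injective.ι (T i)))
    let lk := fun i => KernelFork.IsLimit.lift' ((SiteCoh.embedSeq_shortExact (T i)).exact.fIsKernel) _ (h0 i)
    let l := fun i => (lk i).1
    have hl := fun i => (lk i).2
    have hy' : Pi.lift l ≫ j = y := Pi.hom_ext _ _ fun i => by
      simp only [j, Category.assoc, Pi.map_π]
      exact (Pi.lift_π_assoc (f := T) l i _).trans (hl i)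
    rw [← cancel_epi π, hy, ← hy', comp_zero, Category.assoc]
    exact (congrArg (Pi.lift l ≫ ·) S.zero).trans comp_zero
  · rw [Preadditive.sub_comp, Category.assoc, show S.g ≫ m i = Pi.π _ i ≫ cokernel.π _ from cokernel.π_desc _ _ _,
      Pi.lift_π_assoc, hψ, sub_self]

end Abstract

variable {X : Scheme.{u}} {F G : X.Modules}

/-- The zeroth term of the Čech resolution for affine opens is acyclic for a locally free module. -/
theorem ext_one_cech_zero [HasExt.{u} X.Modules] (hF : FlatMod.IsFinLocFree F) (hG : Coh.IsQCoh G) {ι : Type u}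
    (U : ι → X.Opens) (hU : ∀ i, IsAffineOpen (U i)) :
    Subsingleton (Ext F (((CechOX.cechSh U).obj G).X 0) 1) := by
  haveI := SerrePn.enoughInjectives (X := X)
  refine ext_one_pi (CechShRes.term U G) fun a => ?_
  let V : X.Opens := ∏ᶜ (U ∘ a)
  haveI : IsAffine V.toScheme := by
    have e : V = U (a 0) := by
      change (∏ᶜ (U ∘ a) : X.Opens) = _
      refine (SiteCoh.tupleProd_eq_iInf U a).trans ?_
      exact iInf_unique (ι := Fin 1) (f := fun k => U (a k))
    rw [e]; exact hU _
  haveI := SerrePn.enoughInjectives (X := V.toScheme)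
  haveI : HasExt.{u} V.toScheme.Modules := hasExt_of_enoughInjectives _
  exact ext_one_adjoint (Scheme.Modules.restrictAdjunction V.ι)
    (ext_one_affine (DQCoh.isFinLocFree_restrict V.ι hF) (QC.isQCoh_restrict V.ι hG))

end Groth.Agent.DefLift
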