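import Groth.Agent.DefLift.RingFam
import Mathlib

/-!
# The obstruction to gluing local thickenings
-/

set_option autoImplicit false
set_option linter.style.haveILetI false
set_option backward.isDefEq.respectTransparency false
universe u

open CategoryTheory CategoryTheory.Limits AlgebraicGeometry Opposite TopologicalSpace Abelian

noncomputable section

namespace Groth.Agent.DefLift

open Groth.Agent.QC

variable {S S₀ X₀ : Scheme.{u}} {ι : S₀ ⟶ S} [IsClosedImmersion ι] (hι : IsSqZero ι) {f₀ : X₀ ⟶ S₀}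
  {O₁ O₂ O₃ : X₀.Opens} {P : Piece ι f₀ O₁} {P' : Piece ι f₀ O₂} {P'' : Piece ι f₀ O₃} {O : X₀.Opens}

/-- Composition of families of maps. -/
def MapFam.comp (F : MapFam P P' O) (G : MapFam P' P'' O) : MapFam P P'' O where
  le := F.le
  le' := G.le'
  φ W hW := F.φ W hW ≫ G.φ W hW
  isMap W hW := (F.isMap W hW).comp (G.isMap W hW)
  res_φ hW h := by rw [← Category.assoc, F.res_φ hW h, Category.assoc, G.res_φ hW h, Category.assoc]

include hι in
/-- A family of maps changed by a derivation. -/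
theorem exists_sub (F : MapFam P P' O) (E : LocDer f₀ (coeff ι f₀) O) :
    ∃ G : MapFam P P' O, ∀ W (hW : W.1 ≤ O) a,
      G.φ W hW a = F.φ W hW a - P'.tau (hW.trans F.le') hι (E.app W hW (P.red W (hW.trans F.le) a)) := by
  let δ : ∀ W (hW : W.1 ≤ O), P.A W (hW.trans F.le) → P'.A W (hW.trans F.le') := fun W hW a =>
    P'.tau (hW.trans F.le') hι (E.app W hW (P.red W (hW.trans F.le) a))
  have hred : ∀ W hW a, P'.red W (hW.trans F.le') (F.φ W hW a) = P.red W (hW.trans F.le) a :=
    fun W hW a => congr($((F.isMap W hW).red) a)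
  have hmul : ∀ W hW a b, δ W hW (a * b) = F.φ W hW a * δ W hW b + F.φ W hW b * δ W hW a := fun W hW a b => by
    simp only [δ]
    rw [map_mul, E.app_mul, map_add, ← hred W hW a, ← hred W hW b, P'.tau_smul, P'.tau_smul]
  have h1 : ∀ W hW, δ W hW 1 = 0 := fun W hW => by
    have := hmul W hW 1 1
    rwa [mul_one, map_one, one_mul, left_eq_add] at this
  have hzero : ∀ W hW a b, δ W hW a * δ W hW b = 0 := fun W hW a b =>
    P'.sqZero hι _ _ _ (P'.red_tau _ hι _) (P'.red_tau _ hι _)
  let g : ∀ W (hW : W.1 ≤ O), P.A W (hW.trans F.le) ⟶ P'.A W (hW.trans F.le') := fun W hW => CommRingCat.ofHom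
    { toFun := fun a => F.φ W hW a - δ W hW a
      map_one' := by rw [h1, map_one, sub_zero]
      map_mul' := fun a b => by
        rw [hmul, map_mul, sub_mul, mul_sub, mul_sub, hzero]
        ring
      map_zero' := by simp only [δ, map_zero, sub_zero]
      map_add' := fun a b => by
        simp only [δ, map_add]
        abel }
  refine ⟨⟨F.le, F.le', g, fun W hW => ?_, fun {W W'} hW h => ?_⟩, fun W hW a => rfl⟩
  · refine Piece.IsMap.of_str ?_ P.base ((hW.trans F.le).trans P.base_le) ?_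
    · ext a
      change P'.red W _ (F.φ W hW a - δ W hW a) = _
      rw [map_sub, hred, P'.red_tau, sub_zero]
    · ext c
      have e : W.1 ≤ f₀ ⁻¹ᵁ (ι ⁻¹ᵁ P.base.1) := (hW.trans F.le).trans P.base_le
      change F.φ W hW (P.str W (hW.trans F.le) P.base e c) - δ W hW (P.str W (hW.trans F.le) P.base e c) = _
      have hx : P.red W (hW.trans F.le) (P.str W _ P.base e c) = f₀.appLE (ι ⁻¹ᵁ P.base.1) W.1 e (ι.app P.base.1 c) := by
        refine (congr($(P.red_str W (hW.trans F.le) P.base e) c)).trans ?_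
        rw [Scheme.Hom.app_eq_appLE]
        exact congr($((Scheme.Hom.appLE_comp_appLE f₀ ι P.base.1 (ι ⁻¹ᵁ P.base.1) W.1 le_rfl e).symm) c)
      simp only [δ]
      rw [hx, E.app_base W hW ⟨_, P.base.2.preimage ι⟩ e, map_zero, sub_zero]
      exact congr($((F.isMap W hW).str P.base e) c)
  · ext a
    change F.φ W' _ (P.res _ h a) - δ W' _ (P.res _ h a) = P'.res _ h (F.φ W hW a - δ W hW a)
    simp only [δ]
    rw [map_sub, P'.res_tau, E.res_app W W' hW h]
    refine congrArg₂ (· - ·) (congr($(F.res_φ hW h) a)) ?_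
    exact congrArg (fun x => P'.tau _ hι (E.app W' (h.trans hW) x)) (congr($(P.res_red (hW.trans F.le) h) a))

variable {J : Type u} {U : J → X₀.Opens}

/-- Two cocycles of derivations with values in `G` on a cover split. -/
def SplitsTwo (f : X₀ ⟶ S₀) (G : X₀.Modules) (U : J → X₀.Opens) : Prop :=
  ∀ D : ∀ i j l, LocDer f G (U i ⊓ U j ⊓ U l),
    (∀ (i j l m : J) (W : X₀.affineOpens) (hi : W.1 ≤ U i) (hj : W.1 ≤ U j) (hl : W.1 ≤ U l) (hm : W.1 ≤ U m)
      (a : Γ(X₀, W.1)),
      (D j l m).app W (le_inf (le_inf hj hl) hm) a - (D i l m).app W (le_inf (le_inf hi hl) hm) a +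
        (D i j m).app W (le_inf (le_inf hi hj) hm) a - (D i j l).app W (le_inf (le_inf hi hj) hl) a = 0) →
    ∃ E : ∀ i j, LocDer f G (U i ⊓ U j), ∀ (i j l : J) (W : X₀.affineOpens) (hi : W.1 ≤ U i) (hj : W.1 ≤ U j)
      (hl : W.1 ≤ U l) (a : Γ(X₀, W.1)),
      (D i j l).app W (le_inf (le_inf hi hj) hl) a =
        (E j l).app W (le_inf hj hl) a - (E i l).app W (le_inf hi hl) a + (E i j).app W (le_inf hi hj) a

include hι in
/-- Local thickenings glue to a system when two cocycles of derivations split. -/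
theorem exists_thickSystem_of_splits (P : ∀ a, Piece ι f₀ (U a))
    (hU2 : ∀ a b, IsAffineOpen (U a ⊓ U b)) (hcov : ⨆ a, U a = ⊤) (hsplit : SplitsTwo f₀ (coeff ι f₀) U) :
    Nonempty (ThickSystem ι f₀) := by
  let Φ := fun a b => (exists_mapFam hι (P := P a) (P' := P b) (hU2 a b) inf_le_left inf_le_right).some
  have l1 : ∀ a b c, U a ⊓ U b ⊓ U c ≤ U a ⊓ U b := fun a b c => inf_le_left
  have l2 : ∀ a b c, U a ⊓ U b ⊓ U c ≤ U b ⊓ U c := fun a b c => le_inf (inf_le_left.trans inf_le_right) inf_le_right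
  have l3 : ∀ a b c, U a ⊓ U b ⊓ U c ≤ U a ⊓ U c := fun a b c => le_inf (inf_le_left.trans inf_le_left) inf_le_right
  choose D hD using fun a b c => exists_diff hι (((Φ a b).restrict (l1 a b c)).comp ((Φ b c).restrict (l2 a b c)))
    ((Φ a c).restrict (l3 a b c))
  have hD' : ∀ a b c W (hW : W.1 ≤ U a ⊓ U b ⊓ U c) (x : (P a).A W (hW.trans (inf_le_left.trans inf_le_left))),
      (P c).tau (hW.trans inf_le_right) hι ((D a b c).app W hW ((P a).red W _ x)) =
        (Φ b c).φ W (hW.trans (l2 a b c)) ((Φ a b).φ W (hW.trans (l1 a b c)) x) -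
          (Φ a c).φ W (hW.trans (l3 a b c)) x := fun a b c W hW x => hD a b c W hW x
  obtain ⟨E, hE⟩ := hsplit D fun a b c d W ha hb hc hd x => by
      refine (P d).tau_injective hd hι ?_
      obtain ⟨s, rfl⟩ := (P a).red_surjective W ha x
      let t := (Φ a b).φ W (le_inf ha hb) s
      have ht : (P b).red W hb t = (P a).red W ha s := congr($(((Φ a b).isMap W (le_inf ha hb)).red) s)
      rw [map_zero, map_sub, map_add, map_sub]
      have e1 := hD' b c d W (le_inf (le_inf hb hc) hd) t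
      rw [show (P b).red W _ t = (P a).red W ha s from ht] at e1
      have e2 := hD' a c d W (le_inf (le_inf ha hc) hd) s
      have e3 := hD' a b d W (le_inf (le_inf ha hb) hd) s
      have e4 := congrArg ((Φ c d).φ W (le_inf hc hd)) (hD' a b c W (le_inf (le_inf ha hb) hc) s)
      rw [((Φ c d).isMap W (le_inf hc hd)).tau hι, map_sub] at e4
      linear_combination e1 - e2 + e3 - e4
  choose Ψ hΨ using fun a b => exists_sub hι (Φ a b) (E a b)
  have hcoc : ∀ a b c W (ha : W.1 ≤ U a) (hb : W.1 ≤ U b) (hc : W.1 ≤ U c),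
      (Ψ a b).φ W (le_inf ha hb) ≫ (Ψ b c).φ W (le_inf hb hc) = (Ψ a c).φ W (le_inf ha hc) := by
    intro a b c W ha hb hc
    ext s
    change (Ψ b c).φ W _ ((Ψ a b).φ W _ s) = (Ψ a c).φ W _ s
    have ht : (P b).red W hb ((Φ a b).φ W (le_inf ha hb) s) = (P a).red W ha s :=
      congr($(((Φ a b).isMap W (le_inf ha hb)).red) s)
    have hm : (Φ b c).φ W (le_inf hb hc) ((P b).tau hb hι ((E a b).app W (le_inf ha hb) ((P a).red W ha s))) =
        (P c).tau hc hι ((E a b).app W (le_inf ha hb) ((P a).red W ha s)) :=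
      ((Φ b c).isMap W (le_inf hb hc)).tau hι _
    have e := congrArg ((P c).tau hc hι) (hE a b c W ha hb hc ((P a).red W ha s))
    rw [hD' a b c W (le_inf (le_inf ha hb) hc) s, map_add, map_sub] at e
    rw [hΨ, hΨ, hΨ, map_sub, map_sub, map_sub, map_sub, ht, (P b).red_tau, map_zero, map_zero, sub_zero, hm]
    linear_combination e
  have hid : ∀ a W (ha : W.1 ≤ U a), (Ψ a a).φ W (le_inf ha ha) = 𝟙 _ := by
    intro a W ha
    ext s
    obtain ⟨m, hm⟩ := ((P a).red_eq_zero_iff ha hι ((Ψ a a).φ W (le_inf ha ha) s - s)).1 (by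
      rw [map_sub, show (P a).red W _ ((Ψ a a).φ W (le_inf ha ha) s) = (P a).red W ha s from
        congr($(((Ψ a a).isMap W (le_inf ha ha)).red) s), sub_self])
    have h1 := congrArg ((Ψ a a).φ W (le_inf ha ha)) hm
    rw [((Ψ a a).isMap W (le_inf ha ha)).tau hι, map_sub] at h1
    have h3 : (Ψ a a).φ W (le_inf ha ha) ((Ψ a a).φ W (le_inf ha ha) s) = (Ψ a a).φ W (le_inf ha ha) s :=
      congr($(hcoc a a a W ha ha ha) s)
    change (Ψ a a).φ W _ s = s
    linear_combination h1 - hm + h3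
  have hiso : ∀ a b W (ha : W.1 ≤ U a) (hb : W.1 ≤ U b), IsIso ((Ψ a b).φ W (le_inf ha hb)) := fun a b W ha hb =>
    ⟨(Ψ b a).φ W (le_inf hb ha), (hcoc a b a W ha hb ha).trans (hid a W ha),
      (hcoc b a b W hb ha hb).trans (hid b W hb)⟩
  let Jset : Set X₀.affineOpens := {W | ∃ a, W.1 ≤ U a}
  choose idx hidx using fun W : Jset => W.2
  refine ⟨{ J := Jset
            basis := fun x O hx => ?_
            R := fun W => (P (idx W)).A W.1 (hidx W)
            ρ := fun {W W'} h => (P (idx W)).res (hidx W) h ≫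
              (Ψ (idx W) (idx W')).φ W'.1 (le_inf (h.trans (hidx W)) (hidx W'))
            ρ_self := fun W => by rw [(P (idx W)).res_self, Category.id_comp]; exact hid _ _ (hidx W)
            ρ_trans := fun {W W' W''} h h' => ?_
            red := fun W => (P (idx W)).red W.1 (hidx W)
            red_surjective := fun W => (P (idx W)).red_surjective _ _
            red_nil := fun W => (P (idx W)).red_nil _ _
            ρ_red := fun {W W'} h => ?_
            isOpenImmersion := fun {W W'} h => ?_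
            toS := fun W => (P (idx W)).toS W.1 (hidx W)
            toS_ρ := fun {W W'} h => ?_
            smooth := fun W => (P (idx W)).smooth _ _
            cart := fun W => (P (idx W)).cart _ _ }⟩
  · obtain ⟨a, ha⟩ := Opens.mem_iSup.1 (hcov.ge (trivial : x ∈ (⊤ : X₀.Opens)))
    obtain ⟨W, hW, hle⟩ := KosExt.exists_affine_le (O := O ⊓ U a) (x := x) ⟨hx, ha⟩
    exact ⟨W, ⟨a, hle.trans inf_le_right⟩, hW, hle.trans inf_le_left⟩
  · simp only [Category.assoc]
    rw [← reassoc_of% ((Ψ (idx W) (idx W')).res_φ (le_inf (h.trans (hidx W)) (hidx W')) h'),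
      reassoc_of% ((P (idx W)).res_trans (hidx W) h h'),
      hcoc (idx W) (idx W') (idx W'') W''.1 ((h'.trans h).trans (hidx W)) (h'.trans (hidx W')) (hidx W'')]
  · rw [Category.assoc, ((Ψ (idx W) (idx W')).isMap _ _).red, (P (idx W)).res_red (hidx W) h]
  · haveI := (P (idx W)).isOpenImmersion (hidx W) h
    haveI := hiso (idx W) (idx W') W'.1 (h.trans (hidx W)) (hidx W')
    rw [Spec.map_comp]
    infer_instance
  · rw [Spec.map_comp, Category.assoc, (P (idx W)).toS_res (hidx W) h, ((Ψ (idx W) (idx W')).isMap _ _).toS]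

include hι in
/-- Local thickenings glue to a system when the obstruction group vanishes. -/
theorem exists_thickSystem [QuasiSeparated f₀] [HasExt.{u} X₀.Modules] (P : ∀ a, Piece ι f₀ (U a))
    (hU : ∀ a, IsAffineOpen (U a)) (hU2 : ∀ a b, IsAffineOpen (U a ⊓ U b)) (hcov : ⨆ a, U a = ⊤)
    (hΩ : FlatMod.IsFinLocFree (Omega.sheaf f₀)) (hM : Coh.IsQCoh (coeff ι f₀))
    (h2 : Subsingleton (Ext (Omega.sheaf f₀) (coeff ι f₀) 2)) :
    Nonempty (ThickSystem ι f₀) :=
  exists_thickSystem_of_splits hι P hU2 hcov fun D hD => exists_der_split_two U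
    (fun a => ⟨ι ⁻¹ᵁ (P a).base.1, (P a).base.2.preimage ι⟩) (fun a => (P a).base_le) hU hcov hΩ hM h2 D hD

end Groth.Agent.DefLift
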