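import Groth.Agent.DefLift.PieceOf
import Groth.Agent.DefLift.Obstruction
import Groth.Agent.Hensel.SmoothQuotientLift
import Mathlib

/-!
# Thickenings of affine opens from a smooth deformation
-/

set_option autoImplicit false
set_option linter.style.haveILetI false
set_option backward.isDefEq.respectTransparency false
universe u

open CategoryTheory CategoryTheory.Limits AlgebraicGeometry Opposite TopologicalSpace

noncomputable section

namespace Groth.Agent.DefLift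

variable {S S₀ X₀ : Scheme.{u}} {ι : S₀ ⟶ S} [IsClosedImmersion ι] {f₀ : X₀ ⟶ S₀}

/-- Smooth morphisms lift over affine opens of any closed subscheme. -/
theorem exists_affine_lift [Smooth f₀] (U : X₀.affineOpens) (Q : S.affineOpens)
    (e : U.1 ≤ f₀ ⁻¹ᵁ (ι ⁻¹ᵁ Q.1)) :
    ∃ (V : Scheme.{u}) (g : V ⟶ S) (k : U.1.toScheme ⟶ V), (IsAffine V ∧ Smooth g) ∧ IsPullback k (U.1.ι ≫ f₀) g ι := by
  let J : Ideal Γ(S, Q.1) := RingHom.ker (ι.app Q.1).hom
  let e0 : (Γ(S, Q.1) ⧸ J) ≃+* Γ(S₀, ι ⁻¹ᵁ Q.1) := RingHom.quotientKerEquivOfSurjective (ι.app_surjective Q.1 Q.2)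
  let φ : (Γ(S, Q.1) ⧸ J) →+* Γ(X₀, U.1) := (f₀.appLE (ι ⁻¹ᵁ Q.1) U.1 e).hom.comp e0.toRingHom
  have hφ : φ.Smooth := RingHom.Smooth.respectsIso.2 _ e0
    (HasRingHomProperty.appLE (P := @Smooth) f₀ inferInstance ⟨_, Q.2.preimage ι⟩ U e)
  algebraize [φ]
  obtain ⟨B, _, _, hB, ⟨ε⟩⟩ := Hensel.exists_smooth_lift_quotient Γ(S, Q.1) J Γ(X₀, U.1)
  let π : B →+* Γ(X₀, U.1) := ε.toRingHom.comp (Ideal.Quotient.mk (J.map (algebraMap Γ(S, Q.1) B)))
  have hπ : Function.Surjective π := ε.surjective.comp Ideal.Quotient.mk_surjective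
  have hπc : CommRingCat.ofHom (algebraMap Γ(S, Q.1) B) ≫ CommRingCat.ofHom π = (f₀ ≫ ι).appLE Q.1 U.1 e := by
    ext a
    change ε (Ideal.Quotient.mk _ (algebraMap Γ(S, Q.1) B a)) = _
    refine (ε.commutes (Ideal.Quotient.mk J a)).trans ?_
    change f₀.appLE (ι ⁻¹ᵁ Q.1) U.1 e (ι.app Q.1 a) = _
    rw [Scheme.Hom.app_eq_appLE]
    exact congr($(Scheme.Hom.appLE_comp_appLE f₀ ι Q.1 (ι ⁻¹ᵁ Q.1) U.1 le_rfl e) a)
  let g : Spec (CommRingCat.of B) ⟶ S := Spec.map (CommRingCat.ofHom (algebraMap Γ(S, Q.1) B)) ≫ Q.2.fromSpec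
  let k : U.1.toScheme ⟶ Spec (CommRingCat.of B) := U.2.isoSpec.hom ≫ Spec.map (CommRingCat.ofHom π)
  have hsm : Smooth g := by
    haveI : Smooth (Spec.map (CommRingCat.ofHom (algebraMap Γ(S, Q.1) B))) :=
      (HasRingHomProperty.Spec_iff (P := @Smooth)).2 (RingHom.smooth_algebraMap.2 hB)
    infer_instance
  have w : k ≫ g = (U.1.ι ≫ f₀) ≫ ι := by
    have h1 : Spec.map (CommRingCat.ofHom π) ≫ g = U.2.fromSpec ≫ f₀ ≫ ι := by
      rw [← Category.assoc, ← Spec.map_comp, hπc, IsAffineOpen.SpecMap_appLE_fromSpec (f₀ ≫ ι) Q.2 U.2 e]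
    rw [Category.assoc, h1, IsAffineOpen.isoSpec_hom, IsAffineOpen.toSpecΓ_fromSpec_assoc, Category.assoc]
  refine ⟨Spec (CommRingCat.of B), g, k, ⟨inferInstance, hsm⟩, ?_⟩
  haveI : IsClosedImmersion k := by
    haveI : IsClosedImmersion (Spec.map (CommRingCat.ofHom π)) := IsClosedImmersion.spec_of_surjective _ hπ
    infer_instance
  let P := pullback g ι
  let l : U.1.toScheme ⟶ P := pullback.lift k (U.1.ι ≫ f₀) w
  have htop : ⊤ ≤ g ⁻¹ᵁ Q.1 := fun p _ => by
    have hp : Q.2.fromSpec (Spec.map (CommRingCat.ofHom (algebraMap Γ(S, Q.1) B)) p) ∈ Set.range Q.2.fromSpec :=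
      Set.mem_range_self _
    rw [Q.2.range_fromSpec] at hp
    exact hp
  have hg : g.appLE Q.1 ⊤ htop =
      CommRingCat.ofHom (algebraMap Γ(S, Q.1) B) ≫ (Scheme.ΓSpecIso (CommRingCat.of B)).inv := by
    refine Spec.map_injective ?_
    rw [← cancel_mono Q.2.fromSpec, IsAffineOpen.SpecMap_appLE_fromSpec g Q.2 (isAffineOpen_top _) htop, Spec.map_comp,
      IsAffineOpen.fromSpec_top]
    simp [g, Scheme.isoSpec_Spec]
  have hk : k.ker = (pullback.fst g ι).ker := by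
    refine Scheme.IdealSheafData.ext_of_isAffine ?_
    rw [Scheme.Hom.ker_apply, Scheme.Hom.ker_apply,
      (KoszulLib.ker_app_of_isPullback (IsPullback.of_hasPullback g ι).flip Q inferInstance ⟨⊤, isAffineOpen_top _⟩ htop).2,
      hg]
    have hkapp : k.app ⊤ = (Scheme.ΓSpecIso (CommRingCat.of B)).hom ≫ CommRingCat.ofHom π ≫
        ((Scheme.ΓSpecIso Γ(X₀, U.1)).inv ≫ U.2.isoSpec.hom.app ⊤) := by
      have h : (Spec.map (CommRingCat.ofHom π)).app ⊤ = (Scheme.ΓSpecIso (CommRingCat.of B)).hom ≫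
          CommRingCat.ofHom π ≫ (Scheme.ΓSpecIso Γ(X₀, U.1)).inv := by
        rw [← Category.assoc, Iso.eq_comp_inv]
        exact Scheme.ΓSpecIso_naturality (CommRingCat.ofHom π)
      rw [Scheme.Hom.comp_app]
      exact (congrArg (· ≫ U.2.isoSpec.hom.app ⊤) h).trans (by simp only [Category.assoc])
    have hb : Function.Bijective ((Scheme.ΓSpecIso Γ(X₀, U.1)).inv ≫ U.2.isoSpec.hom.app ⊤).hom :=
      ConcreteCategory.bijective_of_isIso _
    have hker : RingHom.ker π = J.map (algebraMap Γ(S, Q.1) B) := by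
      ext x
      simp only [RingHom.mem_ker, π, RingHom.comp_apply]
      exact (EmbeddingLike.map_eq_zero_iff (f := ε)).trans Ideal.Quotient.eq_zero_iff_mem
    simp only [hkapp, CommRingCat.hom_comp, CommRingCat.hom_ofHom, ← Ideal.map_map]
    rw [← hker]
    ext x
    simp only [RingHom.mem_ker, Ideal.mem_map_iff_of_surjective _ (ConcreteCategory.bijective_of_isIso
      (Scheme.ΓSpecIso (CommRingCat.of B)).inv).2, CommRingCat.comp_apply, CommRingCat.hom_comp, RingHom.comp_apply]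
    refine ⟨fun hx => ⟨(Scheme.ΓSpecIso _).hom x, hb.1 (hx.trans (map_zero _).symm), by simp⟩, ?_⟩
    rintro ⟨y, hy, rfl⟩
    simp [hy]
    exact map_zero _
  haveI : IsIso l := IsClosedImmersion.isIso_of_ker_eq k (pullback.fst g ι) l (pullback.lift_fst _ _ _) hk
  exact IsPullback.of_iso_pullback ⟨w⟩ (asIso l) (pullback.lift_fst _ _ _) (pullback.lift_snd _ _ _)

end Groth.Agent.DefLift
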