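import Groth.Agent.KosExt.Hom
import Mathlib

/-!
# Morphisms from natural families of maps of sections over affine opens
-/

set_option autoImplicit false
set_option linter.style.haveILetI false
set_option backward.isDefEq.respectTransparency false
universe u

open CategoryTheory CategoryTheory.Limits AlgebraicGeometry

noncomputable section

namespace Groth.Agent.DefLift

variable {Z X : Scheme.{u}} (pre : X.affineOpens → Z.Opens)

/-- A morphism is determined by the sections over a covering family of opens lying over affine opens. -/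
theorem hom_ext_of_sections {σ τ : Z ⟶ X} (hcov : ∀ z : Z, ∃ U, z ∈ pre U)
    (hσ : ∀ U : X.affineOpens, pre U ≤ σ ⁻¹ᵁ U.1) (hτ : ∀ U : X.affineOpens, pre U ≤ τ ⁻¹ᵁ U.1)
    (h : ∀ (U : X.affineOpens) s, σ.appLE U.1 (pre U) (hσ U) s = τ.appLE U.1 (pre U) (hτ U) s) : σ = τ := by
  have hZ : iSup pre = ⊤ := eq_top_iff.2 fun z _ => TopologicalSpace.Opens.mem_iSup.2 (hcov z)
  refine Scheme.Cover.hom_ext (Scheme.openCoverOfIsOpenCover Z pre hZ) _ _ fun (U : X.affineOpens) => ?_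
  change (pre U).ι ≫ σ = (pre U).ι ≫ τ
  rw [← Scheme.Hom.resLE_comp_ι σ (hσ U), ← Scheme.Hom.resLE_comp_ι τ (hτ U)]
  congr 1
  haveI : IsAffine U.1.toScheme := U.2
  refine ext_of_isAffine ?_
  rw [Scheme.Hom.appTop, Scheme.Hom.appTop, Scheme.Hom.resLE_app_top, Scheme.Hom.resLE_app_top,
    show σ.appLE U.1 (pre U) (hσ U) = τ.appLE U.1 (pre U) (hτ U) from CommRingCat.hom_ext (RingHom.ext (h U))]

/-- A natural family of maps of sections over affine opens is a morphism. -/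
theorem exists_hom_of_sections (hcov : ∀ z : Z, ∃ U, z ∈ pre U)
    (hpre : ∀ (U V : X.affineOpens) (z : Z), z ∈ pre U → z ∈ pre V → ∃ W : X.affineOpens, W.1 ≤ U.1 ∧ W.1 ≤ V.1 ∧ z ∈ pre W)
    (hmono : ∀ {U V : X.affineOpens}, V.1 ≤ U.1 → pre V ≤ pre U)
    (φ : ∀ U : X.affineOpens, Γ(X, U.1) ⟶ Γ(Z, pre U))
    (hφ : ∀ (U V : X.affineOpens) (h : V.1 ≤ U.1),
      X.presheaf.map (homOfLE h).op ≫ φ V = φ U ≫ Z.presheaf.map (homOfLE (hmono h)).op) :
    ∃ σ : Z ⟶ X, ∀ U : X.affineOpens, ∃ e : pre U ≤ σ ⁻¹ᵁ U.1, σ.appLE U.1 (pre U) e = φ U := by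
  let loc : ∀ U : X.affineOpens, (pre U).toScheme ⟶ X := fun U =>
    (pre U).toSpecΓ ≫ Spec.map (φ U) ≫ U.2.fromSpec
  have hnat : ∀ (U V : X.affineOpens) (h : V.1 ≤ U.1), Z.homOfLE (hmono h) ≫ loc U = loc V := fun U V h => by
    simp only [loc]
    rw [← Category.assoc, ← Scheme.Opens.toSpecΓ_SpecMap_presheaf_map, Category.assoc, ← Spec.map_comp_assoc,
      ← hφ U V h, Spec.map_comp_assoc]
    congr 2
    exact IsAffineOpen.map_fromSpec U.2 V.2 _
  have hZ : iSup pre = ⊤ := eq_top_iff.2 fun z _ => TopologicalSpace.Opens.mem_iSup.2 (hcov z)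
  let 𝒰 := Scheme.openCoverOfIsOpenCover Z pre hZ
  have agree : ∀ U V, pullback.fst (𝒰.f U) (𝒰.f V) ≫ loc U = pullback.snd (𝒰.f U) (𝒰.f V) ≫ loc V := by
    intro U V
    let P := pullback (𝒰.f U) (𝒰.f V)
    let r := pullback.fst (𝒰.f U) (𝒰.f V) ≫ 𝒰.f U
    let T := {W : X.affineOpens // W.1 ≤ U.1 ∧ W.1 ≤ V.1}
    let O : T → P.Opens := fun W => r ⁻¹ᵁ pre W.1
    have hO : iSup O = ⊤ := eq_top_iff.2 fun p _ => TopologicalSpace.Opens.mem_iSup.2 (by
      have h1 : r p ∈ pre U := (pullback.fst (𝒰.f U) (𝒰.f V) p).2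
      have h2 : r p ∈ pre V := by
        rw [show r = pullback.snd (𝒰.f U) (𝒰.f V) ≫ 𝒰.f V from pullback.condition]
        exact (pullback.snd (𝒰.f U) (𝒰.f V) p).2
      obtain ⟨W, hWU, hWV, hW⟩ := hpre U V _ h1 h2
      exact ⟨⟨W, hWU, hWV⟩, hW⟩)
    refine Scheme.Cover.hom_ext (Scheme.openCoverOfIsOpenCover P O hO) _ _ fun W => ?_
    change (O W).ι ≫ pullback.fst (𝒰.f U) (𝒰.f V) ≫ loc U = (O W).ι ≫ pullback.snd (𝒰.f U) (𝒰.f V) ≫ loc V
    let q := r.resLE (pre W.1) (O W) le_rfl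
    have h1 : (O W).ι ≫ pullback.fst (𝒰.f U) (𝒰.f V) = q ≫ Z.homOfLE (hmono W.2.1) := by
      rw [← cancel_mono (𝒰.f U)]
      change _ = (q ≫ Z.homOfLE _) ≫ (pre U).ι
      rw [Category.assoc, Category.assoc, Scheme.homOfLE_ι, Scheme.Hom.resLE_comp_ι]
    have h2 : (O W).ι ≫ pullback.snd (𝒰.f U) (𝒰.f V) = q ≫ Z.homOfLE (hmono W.2.2) := by
      rw [← cancel_mono (𝒰.f V)]
      change _ = (q ≫ Z.homOfLE _) ≫ (pre V).ι
      rw [Category.assoc, Category.assoc, Scheme.homOfLE_ι, Scheme.Hom.resLE_comp_ι, ← pullback.condition]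
    rw [reassoc_of% h1, reassoc_of% h2, hnat U W.1 W.2.1, hnat V W.1 W.2.2]
  let σ := 𝒰.glueMorphisms loc agree
  have hσ : ∀ U, (pre U).ι ≫ σ = loc U := fun U => 𝒰.ι_glueMorphisms loc agree U
  refine ⟨σ, fun U => ?_⟩
  have hle : pre U ≤ σ ⁻¹ᵁ U.1 := fun z hz => by
    change σ ((pre U).ι ⟨z, hz⟩) ∈ U.1
    rw [← Scheme.Hom.comp_apply, hσ]
    simp only [loc, Scheme.Hom.comp_apply]
    rw [← SetLike.mem_coe, ← U.2.range_fromSpec]
    exact Set.mem_range_self _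
  refine ⟨hle, ?_⟩
  have h1 : σ.resLE U.1 (pre U) hle = (pre U).toSpecΓ ≫ Spec.map (φ U) ≫ U.2.isoSpec.inv := by
    rw [← cancel_mono U.1.ι, Scheme.Hom.resLE_comp_ι, Category.assoc, Category.assoc, hσ]
    rfl
  have h2 : (σ.resLE U.1 (pre U) hle).appTop =
      U.1.topIso.hom ≫ φ U ≫ (pre U).topIso.inv := by
    rw [h1, Scheme.Hom.comp_appTop, Scheme.Hom.comp_appTop, Scheme.Opens.toSpecΓ_appTop,
      IsAffineOpen.isoSpec_inv_appTop, Category.assoc, Category.assoc, Scheme.ΓSpecIso_inv_naturality_assoc]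
    simp
  have h3 : σ.appLE U.1 (pre U) hle = U.1.topIso.inv ≫ (σ.resLE U.1 (pre U) hle).appTop ≫ (pre U).topIso.hom := by
    rw [Scheme.Hom.appTop, Scheme.Hom.resLE_app_top]
    simp
  rw [h3, h2]
  simp

end Groth.Agent.DefLift
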