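import Groth.Agent.DefLift.DerHom
import Groth.Agent.DefLift.GlueHom
import Groth.Agent.LHilb.ObstrAlg
import Groth.Agent.LHilb.Affine
import Groth.Agent.ArtKit.Basic
import Mathlib

/-!
# Infinitesimal automorphisms of deformations are derivations
-/

set_option autoImplicit false
set_option linter.style.haveILetI false
set_option backward.isDefEq.respectTransparency false
universe u

open CategoryTheory CategoryTheory.Limits AlgebraicGeometry ArtFun ArtFun.Art IsLocalRing TensorProduct

noncomputable section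

namespace Groth.Agent.DefLift

open Groth.Agent.QC

variable {k : Type u} [Field k] {X : Scheme.{u}} (x : X ⟶ specPt k) [QuasiSeparated x]

/-- An automorphism trivial modulo a line is trivial, without vector fields. -/
theorem aut_eq_id_of_lineExt (h0 : Subsingleton (Omega.sheaf x ⟶ Coh.structureModule X)) {A B : Art k k}
    {p : B ⟶ A} {t : B} (L : LHilb.LineExt p t) (ξ : DefSch X x B) (e : DefSch.Iso ξ ξ)
    (he : pullback.fst ξ.f (specMap p) ≫ e.iso.hom = pullback.fst ξ.f (specMap p)) : e.iso.hom = 𝟙 _ := by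
  let σ := e.iso.hom
  let c := DefFun.cartBase p ξ
  let η := ξ.baseChange p
  have hle : ∀ U : X.Opens, opn ξ U ≤ σ ⁻¹ᵁ opn ξ U := fun U => (iso_preimage_opn ξ e U).ge
  let ρ : ∀ U : X.Opens, Γ(ξ.total, opn ξ U) →+* Γ(ξ.total, opn ξ U) := fun U =>
    (σ.appLE (opn ξ U) (opn ξ U) (hle U)).hom
  let st : ∀ U : X.Opens, B →+* Γ(ξ.total, opn ξ U) := fun U => str ξ.f (opn ξ U)
  have hρc : ∀ (U : X.Opens) (a : B), ρ U (st U a) = st U a := fun U a =>
    str_comp (RingHom.id B) ξ.f ξ.f σ (by rw [e.hom_f]; simp) (hle U) a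
  have hρX : ∀ (U : X.Opens) s, toX ξ U (ρ U s) = toX ξ U s := fun U s => by
    change (σ.appLE (opn ξ U) (opn ξ U) _ ≫ ξ.i.appLE (opn ξ U) U _) s = ξ.i.appLE (opn ξ U) U _ s
    rw [Scheme.Hom.appLE_comp_appLE]
    simp only [σ, e.i_hom]
  have hker : ∀ (U : X.affineOpens) s, ∃ w, ρ U.1 s - s = st U.1 t * w := fun U s => by
    have h1 : ρ U.1 s - s ∈ RingHom.ker (c.m.appLE (opn ξ U.1) (opn η U.1) (preimage_opn_of_cart ξ c U.1).ge).hom := by
      rw [RingHom.mem_ker, map_sub, sub_eq_zero]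
      change (σ.appLE (opn ξ U.1) (opn ξ U.1) _ ≫ c.m.appLE (opn ξ U.1) (opn η U.1) _) s =
        c.m.appLE (opn ξ U.1) (opn η U.1) _ s
      rw [Scheme.Hom.appLE_comp_appLE]
      simp only [c, DefFun.cartBase, σ, he]
    rw [(cart_app ξ L.surj c U.2).1] at h1
    have h2 : RingHom.ker p.toAlgHom.toRingHom ≤ Ideal.span {(t : B.carrier)} := fun b hb => by
      obtain ⟨a, rfl⟩ := (L.ker_eq b).1 hb
      rw [Algebra.smul_def]
      exact Ideal.mul_mem_left _ _ (Ideal.mem_span_singleton_self _)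
    have h3 := Ideal.map_mono h2 h1
    rw [Ideal.map_span, Set.image_singleton, Ideal.mem_span_singleton] at h3
    exact h3
  choose w hw using hker
  have hann : ∀ (U : X.affineOpens) z, st U.1 t * z = 0 → toX ξ U.1 z = 0 := fun U z hz => by
    have h1 := exists_of_str_mul_eq_zero ξ U.2 t hz
    rw [← RingHom.mem_ker, ker_toX ξ U.2]
    refine Ideal.map_mono ?_ h1
    intro b hb
    rw [LinearMap.mem_ker, LinearMap.mulLeft_apply, mul_comm, L.mul_t, smul_eq_zero] at hb
    exact (mem_maximalIdeal_iff B b).2 (hb.resolve_right L.ne_zero)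
  have htm : ∀ (U : X.affineOpens) z, toX ξ U.1 z = 0 → st U.1 t * z = 0 := fun U z hz => by
    rw [← RingHom.mem_ker, ker_toX ξ U.2, Ideal.map] at hz
    induction hz using Submodule.span_induction with
    | mem y hy =>
      obtain ⟨b, hb, rfl⟩ := hy
      rw [← map_mul, mul_comm, L.mul_t, (mem_maximalIdeal_iff B b).1 hb, zero_smul, map_zero]
    | zero => rw [mul_zero]
    | add y y' _ _ hy hy' => rw [mul_add, hy, hy', add_zero]
    | smul r y _ hy => rw [smul_eq_mul, mul_left_comm, hy, mul_zero]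
  have hE : ∀ (U : X.affineOpens) s v, ρ U.1 s - s = st U.1 t * v → toX ξ U.1 (w U s) = toX ξ U.1 v := fun U s v h => by
    rw [← sub_eq_zero, ← map_sub]
    exact hann U _ (by rw [mul_sub, ← hw, h, sub_self])
  have hfix : ∀ (U : X.affineOpens) z, toX ξ U.1 z = 0 → ρ U.1 z = z := fun U z hz => by
    rw [← RingHom.mem_ker, ker_toX ξ U.2, Ideal.map] at hz
    induction hz using Submodule.span_induction with
    | mem y hy => obtain ⟨b, hb, rfl⟩ := hy; exact hρc U.1 b
    | zero => rw [map_zero]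
    | add y y' _ _ hy hy' => rw [map_add, hy, hy']
    | smul r y hym hy =>
      have hy0 : toX ξ U.1 y = 0 := by
        rw [← RingHom.mem_ker, ker_toX ξ U.2]
        exact hym
      rw [smul_eq_mul, map_mul, hy, ← sub_eq_zero, ← sub_mul, hw]
      rw [mul_comm (st U.1 t), mul_assoc, htm U y hy0, mul_zero]
  choose lift hlift using fun U : X.affineOpens => toX_surjective ξ U.2
  have hD : ∀ (U : X.affineOpens) a s, toX ξ U.1 s = a → toX ξ U.1 (w U (lift U a)) = toX ξ U.1 (w U s) :=
    fun U a s hs => hE U _ _ (by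
      rw [← hw U s, ← sub_eq_zero, sub_sub_sub_comm, ← map_sub, sub_eq_zero]
      exact hfix U _ (by rw [map_sub, hlift, hs, sub_self]))
  let D : ∀ U : X.affineOpens, Γ(X, U.1) →+ Γ(Coh.structureModule X, U.1) := fun U =>
    AddMonoidHom.mk' (fun a => (toX ξ U.1 (w U (lift U a)) : Γ(X, U.1))) fun a b => by
      rw [hD U _ (lift U a + lift U b) (by rw [map_add, hlift, hlift])]
      refine (hE U _ (w U (lift U a) + w U (lift U b)) ?_).trans (map_add _ _ _)
      rw [mul_add, ← hw, ← hw, map_add]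
      abel
  obtain ⟨α, hα⟩ := exists_hom_of_der x D (fun U a b => by
      change toX ξ U.1 (w U (lift U (a * b))) = _
      rw [hD U _ (lift U a * lift U b) (by rw [map_mul, hlift, hlift]),
        hE U _ (ρ U.1 (lift U a) * w U (lift U b) + lift U b * w U (lift U a)) (by
          rw [mul_add, mul_left_comm, ← hw, mul_left_comm (st U.1 t), ← hw, map_mul]
          ring),
        map_add, map_mul, map_mul, hρX, hlift, hlift]
      rfl)
    (fun U cc => by
      change toX ξ U.1 (w U (lift U _)) = 0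
      obtain ⟨b, rfl⟩ := B.res_surjective cc
      rw [hD U _ (st U.1 b) (toX_str ξ U.1 b), hE U _ 0 (by rw [hρc, sub_self, mul_zero]), map_zero])
    (fun U V h a => by
      have hn : ∀ s, ρ V.1 (resO ξ.total (opn_mono ξ h) s) = resO ξ.total (opn_mono ξ h) (ρ U.1 s) := fun s => by
        change (ξ.total.presheaf.map (homOfLE (opn_mono ξ h)).op ≫ σ.appLE (opn ξ V.1) (opn ξ V.1) _) s =
          (σ.appLE (opn ξ U.1) (opn ξ U.1) _ ≫ ξ.total.presheaf.map (homOfLE (opn_mono ξ h)).op) s
        rw [Scheme.Hom.map_appLE, Scheme.Hom.appLE_map]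
      change resO X h (toX ξ U.1 (w U (lift U a))) = toX ξ V.1 (w V (lift V (resO X h a)))
      rw [hD V _ (resO ξ.total (opn_mono ξ h) (lift U a)) ((toX_res ξ h _).symm.trans (congrArg _ (hlift U a))),
        hE V _ (resO ξ.total (opn_mono ξ h) (w U (lift U a))) (by
          rw [hn, ← map_sub, hw, map_mul]
          exact congrArg (· * _) (str_res ξ.f (opn_mono ξ h) t))]
      exact toX_res ξ h _)
  have hzero : ∀ (U : X.affineOpens) s, ρ U.1 s = s := fun U s => by
    have h1 := hα U (toX ξ U.1 s)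
    rw [Subsingleton.elim α 0] at h1
    have h2 : toX ξ U.1 (w U (lift U (toX ξ U.1 s))) = 0 := h1.symm
    rw [hD U _ s rfl] at h2
    rw [← sub_eq_zero, hw]
    exact htm U _ h2
  haveI := isClosedImmersion_i ξ
  refine hom_ext_of_sections (Z := ξ.total) (X := ξ.total) (fun V => V.1) (fun z => ?_)
    (fun V => ?_) (fun V => le_of_eq rfl) fun V s => ?_
  · obtain ⟨V, hzV, -⟩ := KosExt.exists_affine_le (O := (⊤ : ξ.total.Opens)) (x := z) trivial
    exact ⟨V, hzV⟩
  · rw [← opn_preimage ξ V.1]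
    exact hle _
  · let U : X.affineOpens := ⟨ξ.i ⁻¹ᵁ V.1, V.2.preimage _⟩
    have hV : V = ⟨opn ξ U.1, isAffineOpen_opn ξ U.2⟩ := Subtype.ext (opn_preimage ξ V.1).symm
    revert s
    rw [hV]
    intro s
    refine (hzero U s).trans ?_
    simp [Scheme.Hom.appLE]
    exact congr($((ξ.total.presheaf.map_id (Opposite.op (opn ξ U.1))).symm) s)

/-- Without vector fields deformations have no automorphisms. -/
theorem aut_eq_id (h0 : Subsingleton (Omega.sheaf x ⟶ Coh.structureModule X)) (A : Art k k) (ξ : DefSch X x A)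
    (e : DefSch.Iso ξ ξ) : e.iso.hom = 𝟙 _ := by
  suffices key : ∀ (ξ : DefSch X x A) (e : DefSch.Iso ξ ξ), e.iso.hom = 𝟙 _ from key ξ e
  refine ArtKit.surjective_induction
    (fun A B _ => (∀ (ξ : DefSch X x A) (e : DefSch.Iso ξ ξ), e.iso.hom = 𝟙 _) →
      ∀ (ξ : DefSch X x B) (e : DefSch.Iso ξ ξ), e.iso.hom = 𝟙 _) ?_ ?_ ?_ (toBase A) A.res_surjective
    fun ξ e => ?_
  · intro C D i hi hC ξ e
    haveI : IsIso (specMap i) := by
      refine ⟨specMap (inv i), ?_, ?_⟩ <;> simp [← specMap_comp]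
    rw [← cancel_epi (pullback.fst ξ.f (specMap i)), ← DefFun.baseChange_iso_fst e i, hC _ (e.baseChange i),
      Category.id_comp, Category.comp_id]
  · intro C D p hp hC ξ e
    obtain ⟨t, L⟩ := LHilb.exists_lineExt p hp
    refine aut_eq_id_of_lineExt x h0 L ξ e ?_
    rw [← DefFun.baseChange_iso_fst e p, hC _ (e.baseChange p), Category.id_comp]
  · intro C D E p q hp hq hC
    exact hp (hq hC)
  · haveI : IsIso (specRes (base k k)) := by
      change IsIso (Spec.map (CommRingCat.ofHom (RingHom.id k)))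
      rw [show CommRingCat.ofHom (RingHom.id k) = 𝟙 _ from rfl, Spec.map_id]
      infer_instance
    haveI : IsIso ξ.i := ξ.isPullback.isIso_fst_of_isIso
    rw [← cancel_epi ξ.i, e.i_hom, Category.comp_id]

end Groth.Agent.DefLift
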