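import Groth.Agent.DefLift.DerHom
import Groth.Agent.DefLift.GlueHom
import Groth.Agent.DefFun.Basic
import Groth.Agent.LHilb.Affine
import Mathlib

/-!
# Automorphisms of the trivial first order deformation from vector fields
-/

set_option autoImplicit false
set_option linter.style.haveILetI false
set_option backward.isDefEq.respectTransparency false
universe u

open CategoryTheory CategoryTheory.Limits AlgebraicGeometry ArtFun ArtFun.Art IsLocalRing TensorProduct

noncomputable section

namespace Groth.Agent.DefLift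

open Groth.Agent.QC
open Groth.Agent.LHilb (Sec preU chart chart_tmul chart_bijective fstMap sndMap secRes chart_secRes preU_mono
  le_XAincl chart_XAincl resT resT_tmul)

variable {k : Type u} [Field k] {X : Scheme.{u}} (x : X ⟶ specPt k)

/-- The trivial deformation. -/
abbrev trivDef (A : Art k k) : DefSch X x A where
  total := XA x A
  f := XApr x A
  flat := by
    haveI : Flat x := DefFun.flat_of_field x
    exact MorphismProperty.pullback_snd _ _ inferInstance
  i := XAincl x A
  isPullback := isPullback_XAincl x A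

theorem exists_preU_mem (A : Art k k) (z : XA x A) : ∃ U : X.affineOpens, z ∈ (preU x A U).1 := by
  obtain ⟨U, hU, -⟩ := KosExt.exists_affine_le (O := (⊤ : X.Opens)) (x := pullback.fst x (specOver A) z) trivial
  exact ⟨U, hU⟩

theorem exists_preU_refine (A : Art k k) (U V : X.affineOpens) (z : XA x A) (h₁ : z ∈ (preU x A U).1)
    (h₂ : z ∈ (preU x A V).1) : ∃ W : X.affineOpens, W.1 ≤ U.1 ∧ W.1 ≤ V.1 ∧ z ∈ (preU x A W).1 := by
  obtain ⟨W, hW, hle⟩ := KosExt.exists_affine_le (O := U.1 ⊓ V.1) (x := pullback.fst x (specOver A) z) ⟨h₁, h₂⟩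
  exact ⟨W, hle.trans inf_le_left, hle.trans inf_le_right, hW⟩

/-- A derivation from a vector field. -/
theorem app_dSect_props [QuasiSeparated x] (α : Omega.sheaf x ⟶ Coh.structureModule X) :
    ∃ D : ∀ U : X.affineOpens, Γ(X, U.1) → Γ(X, U.1),
      (∀ U a, D U a = α.app U.1 (OmegaSh.dSect x U.1 a)) ∧ (∀ U a b, D U (a + b) = D U a + D U b) ∧
      (∀ U a b, D U (a * b) = a * D U b + b * D U a) ∧ (∀ U c, D U (str x U.1 c) = 0) ∧
      (∀ (U V : X.affineOpens) (h : V.1 ≤ U.1) a, resO X h (D U a) = D V (resO X h a)) := by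
  refine ⟨fun U a => α.app U.1 (OmegaSh.dSect x U.1 a), fun U a => rfl, fun U a b => ?_, fun U a b => ?_,
    fun U c => ?_, fun U V h a => ?_⟩
  · refine (congrArg (α.app U.1) (OmegaSh.dSect_add x U.1 a b)).trans ?_
    exact map_add _ _ _
  · refine (congrArg (α.app U.1) (OmegaSh.dSect_mul x U.1 a b)).trans ?_
    rw [map_add, Scheme.Modules.Hom.app_smul, Scheme.Modules.Hom.app_smul]
    rfl
  · have h := OmegaLib.app_appLE (OmegaSh.dOmega x) (le_top : U.1 ≤ x ⁻¹ᵁ ⊤)
      ((Scheme.ΓSpecIso (CommRingCat.of k)).inv c)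
    refine (congrArg (α.app U.1) ?_).trans (map_zero _)
    refine Eq.trans ?_ h
    rfl
  · refine Eq.trans ?_ (congrArg (α.app V.1) (OmegaSh.dSect_map x h a)).symm
    exact app_res α h _

/-- The chart map of a derivation. -/
theorem exists_twist (D : ∀ U : X.affineOpens, Sec x U.1 → Sec x U.1)
    (hadd : ∀ U a b, D U (a + b) = D U a + D U b) (hmul : ∀ U a b, D U (a * b) = a * D U b + b * D U a)
    (hc : ∀ U c, D U (str x U.1 c) = 0)
    (hres : ∀ (U V : X.affineOpens) (h : V.1 ≤ U.1) a, secRes x h (D U a) = D V (secRes x h a)) :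
    ∃ σ : XA x (dual k k) ⟶ XA x (dual k k), σ ≫ XApr x (dual k k) = XApr x (dual k k) ∧
      XAincl x (dual k k) ≫ σ = XAincl x (dual k k) ∧
      ∀ U : X.affineOpens, ∃ e : (preU x (dual k k) U).1 ≤ (σ ≫ pullback.fst x (specOver (dual k k))) ⁻¹ᵁ U.1,
        ∀ a : Sec x U.1, (σ ≫ pullback.fst x (specOver (dual k k))).appLE U.1 _ e a =
          chart x (dual k k) U ((1 : (dual k k).carrier) ⊗ₜ a +
            (DualNumber.eps : (dual k k).carrier) ⊗ₜ D U a) := by
  let A := dual k k
  let ε : A.carrier := (DualNumber.eps : DualNumber k)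
  have hεε : ε * ε = 0 := DualNumber.eps_mul_eps
  have hε : A.res ε = 0 := TrivSqZeroExt.fst_inr (M := k) k (1 : k)
  have hD1 : ∀ U, D U 1 = 0 := fun U => by simpa using hc U 1
  have hD0 : ∀ U, D U 0 = 0 := fun U => by simpa using hadd U 0 0
  let tw : ∀ U : X.affineOpens, Sec x U.1 →+* A ⊗[k] Sec x U.1 := fun U =>
    { toFun := fun a => (1 : A.carrier) ⊗ₜ a + ε ⊗ₜ D U a
      map_one' := by
        change (1 : A.carrier) ⊗ₜ (1 : Sec x U.1) + ε ⊗ₜ D U 1 = _
        rw [hD1]
        exact (congrArg _ (tmul_zero _ _)).trans (add_zero _)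
      map_mul' := fun a b => by
        simp only [add_mul, mul_add, Algebra.TensorProduct.tmul_mul_tmul, one_mul, mul_one, hεε, zero_tmul, add_zero]
        rw [add_assoc, ← tmul_add, hmul U a b]
        refine congrArg (fun c : Sec x U.1 => _ + ε ⊗ₜ c) ?_
        change a * D U b + b * D U a = D U a * b + a * D U b
        ring
      map_zero' := by
        change (1 : A.carrier) ⊗ₜ (0 : Sec x U.1) + ε ⊗ₜ D U 0 = _
        rw [hD0, tmul_zero, zero_add]
        exact tmul_zero _ _
      map_add' := fun a b => by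
        rw [tmul_add, hadd U a b]
        refine (congrArg (_ + ·) (tmul_add ε (D U a) (D U b))).trans ?_
        abel }
  obtain ⟨σ, hσ⟩ := exists_hom_of_sections (Z := XA x A) (X := X) (fun U => (preU x A U).1)
    (exists_preU_mem x A) (exists_preU_refine x A) (fun {U V} h => preU_mono x A h)
    (fun U => CommRingCat.ofHom ((chart x A U).comp (tw U))) (fun U V h => by
      ext a₀
      let a : Sec x U.1 := a₀
      change chart x A V (tw V (secRes x h a)) =
        (XA x A).presheaf.map (homOfLE (preU_mono x A h)).op (chart x A U (tw U a))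
      rw [chart_secRes x A h]
      change chart x A V ((1 : A.carrier) ⊗ₜ secRes x h a + ε ⊗ₜ D V (secRes x h a)) =
        chart x A V (Algebra.TensorProduct.map (AlgHom.id k A.carrier) (secRes x h)
          ((1 : A.carrier) ⊗ₜ a + ε ⊗ₜ D U a))
      rw [← hres, map_add (Algebra.TensorProduct.map (AlgHom.id k A.carrier) (secRes x h)),
        Algebra.TensorProduct.map_tmul, Algebra.TensorProduct.map_tmul]
      rfl)
  choose e he using hσ
  have hx : σ ≫ x = XApr x A ≫ specOver A := by
    have hcov : iSup (fun U : X.affineOpens => (preU x A U).1) = ⊤ :=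
      eq_top_iff.2 fun z _ => TopologicalSpace.Opens.mem_iSup.2 (exists_preU_mem x A z)
    refine ext_of_isAffine (CommRingCat.hom_ext (RingHom.ext fun c => ?_))
    refine TopCat.Sheaf.eq_of_locally_eq' (XA x A).sheaf (fun U : X.affineOpens => (preU x A U).1) ⊤
      (fun U => homOfLE le_top) hcov.ge _ _ fun U => ?_
    obtain ⟨c, rfl⟩ := (ConcreteCategory.bijective_of_isIso (Scheme.ΓSpecIso (CommRingCat.of k)).inv).2 c
    change ((σ ≫ x).appTop ≫ (XA x A).presheaf.map (homOfLE le_top).op) _ =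
      ((XApr x A ≫ specOver A).appTop ≫ (XA x A).presheaf.map (homOfLE le_top).op) _
    simp only [Scheme.Hom.appTop, Scheme.Hom.app_eq_appLE, Scheme.Hom.appLE_map]
    have h1 : (XApr x A ≫ specOver A).appLE ⊤ (preU x A U).1 le_top ((Scheme.ΓSpecIso (CommRingCat.of k)).inv c) =
        chart x A U ((1 : A.carrier) ⊗ₜ (algebraMap k (Sec x U.1) c)) := by
      have h2 : (pullback.fst x (specOver A) ≫ x).appLE ⊤ (preU x A U).1 le_top =
          x.appLE ⊤ U.1 le_top ≫ (pullback.fst x (specOver A)).appLE U.1 (preU x A U).1 le_rfl :=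
        (Scheme.Hom.appLE_comp_appLE ..).symm
      rw [chart_tmul, map_one, one_mul]
      simp only [XApr, ← pullback.condition]
      rw [h2]
      rfl
    rw [h1, ← Scheme.Hom.appLE_comp_appLE σ x ⊤ U.1 (preU x A U).1 le_top (e U), CommRingCat.comp_apply, he]
    change chart x A U ((1 : A.carrier) ⊗ₜ (algebraMap k (Sec x U.1) c) + ε ⊗ₜ D U (str x U.1 c)) = _
    rw [hc]
    refine congrArg (chart x A U) ?_
    exact (congrArg _ (tmul_zero _ ε)).trans (add_zero _)
  let σ' : XA x A ⟶ XA x A := pullback.lift σ (XApr x A) hx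
  have hσ' : σ' ≫ pullback.fst x (specOver A) = σ := pullback.lift_fst _ _ _
  refine ⟨σ', pullback.lift_snd _ _ _, pullback.hom_ext ?_ ?_, fun U => ⟨by rw [hσ']; exact e U, fun a => ?_⟩⟩
  · rw [Category.assoc, hσ', XAincl_fst]
    refine hom_ext_of_sections (Z := X) (X := X) (fun U => U.1) (fun z => ?_)
      (fun U => (le_XAincl x A U).trans ((XAincl x A).preimage_mono (e U))) (fun U => le_rfl) fun U a => ?_
    · obtain ⟨U, hU, -⟩ := KosExt.exists_affine_le (O := (⊤ : X.Opens)) (x := z) trivial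
      exact ⟨U, hU⟩
    · rw [← Scheme.Hom.appLE_comp_appLE (XAincl x A) σ U.1 (preU x A U).1 U.1 (e U) (le_XAincl x A U),
        CommRingCat.comp_apply, he]
      refine (chart_XAincl x A U (tw U a)).trans ?_
      let a' : Sec x U.1 := a
      change resT (Sec x U.1) A ((1 : A.carrier) ⊗ₜ a' + ε ⊗ₜ D U a') = _
      rw [map_add (resT (Sec x U.1) A), resT_tmul, resT_tmul, map_one, one_smul, hε, zero_smul, add_zero]
      simp [Scheme.Hom.appLE]
      exact congr($((X.presheaf.map_id _).symm) a)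
  · rw [Category.assoc]
    exact congrArg (XAincl x A ≫ ·) (pullback.lift_snd _ _ _)
  · have he' := congr($(he U) a)
    have key : ∀ (g : XA x A ⟶ X) (_ : g = σ) e', g.appLE U.1 (preU x A U).1 e' a =
        σ.appLE U.1 (preU x A U).1 (e U) a := fun g hg e' => by subst hg; rfl
    exact (key _ hσ' _).trans he'

/-- A vector field gives a nontrivial automorphism of the trivial deformation over the dual numbers. -/
theorem subsingleton_hom_of_aut_trivial [QuasiSeparated x]
    (h : ∀ e : DefSch.Iso (trivDef x (dual k k)) (trivDef x (dual k k)), e.iso.hom = 𝟙 _) :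
    Subsingleton (Omega.sheaf x ⟶ Coh.structureModule X) := by
  suffices key : ∀ α : Omega.sheaf x ⟶ Coh.structureModule X, α = 0 from ⟨fun a b => (key a).trans (key b).symm⟩
  intro α
  let A := dual k k
  let ε : A.carrier := (DualNumber.eps : DualNumber k)
  obtain ⟨D₀, hDα, hadd₀, hmul₀, hc₀, hres₀⟩ := app_dSect_props x α
  let D : ∀ U : X.affineOpens, Sec x U.1 → Sec x U.1 := D₀
  have hadd : ∀ U a b, D U (a + b) = D U a + D U b := hadd₀
  have hmul : ∀ U a b, D U (a * b) = a * D U b + b * D U a := hmul₀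
  have hc : ∀ U c, D U (str x U.1 c) = 0 := hc₀
  have hres : ∀ (U V : X.affineOpens) (h : V.1 ≤ U.1) a, secRes x h (D U a) = D V (secRes x h a) := hres₀
  have hneg : ∀ U a b, -D U (a * b) = a * -D U b + b * -D U a := fun U a b => by rw [hmul]; ring
  obtain ⟨σ, hσ1, hσi, hσ⟩ := exists_twist x D hadd hmul hc hres
  obtain ⟨τ, hτ1, hτi, hτ⟩ := exists_twist x (fun U a => -D U a) (fun U a b => by rw [hadd]; ring) hneg
    (fun U c => by rw [hc, neg_zero]) (fun U V hh a => by rw [map_neg, hres])
  have comp : ∀ (E E' : ∀ U : X.affineOpens, Sec x U.1 → Sec x U.1) (s t : XA x A ⟶ XA x A),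
      (∀ U a, E' U a = -E U a) → s ≫ XApr x A = XApr x A → t ≫ XApr x A = XApr x A →
      (∀ U : X.affineOpens, ∃ e : (preU x A U).1 ≤ (s ≫ pullback.fst x (specOver A)) ⁻¹ᵁ U.1,
        ∀ a : Sec x U.1, (s ≫ pullback.fst x (specOver A)).appLE U.1 _ e a =
          chart x A U ((1 : A.carrier) ⊗ₜ a + ε ⊗ₜ E U a)) →
      (∀ U : X.affineOpens, ∃ e : (preU x A U).1 ≤ (t ≫ pullback.fst x (specOver A)) ⁻¹ᵁ U.1,
        ∀ a : Sec x U.1, (t ≫ pullback.fst x (specOver A)).appLE U.1 _ e a =
          chart x A U ((1 : A.carrier) ⊗ₜ a + ε ⊗ₜ E' U a)) →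
      s ≫ t = 𝟙 _ := by
    intro E E' s t hEE hs1 ht1 hs ht
    refine pullback.hom_ext ?_ (by
      change (s ≫ t) ≫ XApr x A = 𝟙 _ ≫ XApr x A
      rw [Category.assoc, ht1, hs1, Category.id_comp])
    rw [Category.assoc, Category.id_comp]
    choose es hs using hs
    choose et ht using ht
    have hsU : ∀ U : X.affineOpens, (preU x A U).1 ≤ s ⁻¹ᵁ (preU x A U).1 := fun U => es U
    refine hom_ext_of_sections (Z := XA x A) (X := X) (fun U => (preU x A U).1) (exists_preU_mem x A)
      (fun U => (hsU U).trans (s.preimage_mono (et U))) (fun U => le_rfl) fun U a => ?_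
    rw [← Scheme.Hom.appLE_comp_appLE s (t ≫ pullback.fst x (specOver A)) U.1 (preU x A U).1 (preU x A U).1 (et U)
      (hsU U), CommRingCat.comp_apply, ht]
    have hsn : ∀ b : A.carrier, s.appLE (preU x A U).1 (preU x A U).1 (hsU U) (sndMap x A (preU x A U).1 b) =
        sndMap x A (preU x A U).1 b := fun b =>
      str_comp (RingHom.id A.carrier) (XApr x A) (XApr x A) s (by rw [hs1]; simp) (hsU U) b
    have hfst : ∀ c : Sec x U.1, s.appLE (preU x A U).1 (preU x A U).1 (hsU U) (fstMap x A U c) =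
        chart x A U ((1 : A.carrier) ⊗ₜ c + ε ⊗ₜ E U c) := fun c => by
      rw [← hs U c]
      change ((pullback.fst x (specOver A)).appLE U.1 (preU x A U).1 le_rfl ≫ s.appLE _ _ _) c = _
      rw [Scheme.Hom.appLE_comp_appLE]
    have hεε : ε * ε = 0 := DualNumber.eps_mul_eps
    have hch : ∀ (b : A.carrier) (c : Sec x U.1),
        s.appLE (preU x A U).1 (preU x A U).1 (hsU U) (chart x A U (b ⊗ₜ c)) =
          chart x A U (b ⊗ₜ c + (b * ε) ⊗ₜ E U c) := fun b c => by
      rw [chart_tmul, map_mul, hsn, hfst, ← mul_one (sndMap x A (preU x A U).1 b),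
        ← map_one (fstMap x A U), ← chart_tmul, ← map_mul, mul_add, Algebra.TensorProduct.tmul_mul_tmul,
        Algebra.TensorProduct.tmul_mul_tmul, one_mul, mul_one, one_mul]
    rw [map_add, map_add, hch, hch, one_mul, hεε, zero_tmul, add_zero, ← map_add]
    refine (congrArg (chart x A U) ?_).trans (show chart x A U ((1 : A.carrier) ⊗ₜ a) = _ by
      rw [chart_tmul, map_one, one_mul]; rfl)
    rw [add_assoc, ← tmul_add, show E U a + E' U a = 0 from
      (congrArg (E U a + ·) (hEE U a)).trans (add_neg_cancel _)]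
    exact (congrArg _ (tmul_zero _ ε)).trans (add_zero _)
  let e : DefSch.Iso (trivDef x A) (trivDef x A) :=
    { iso := ⟨σ, τ, comp D _ σ τ (fun U a => rfl) hσ1 hτ1 hσ hτ,
        comp (fun U a => -D U a) D τ σ (fun U a => (neg_neg _).symm) hτ1 hσ1 hτ hσ⟩
      hom_f := hσ1
      i_hom := hσi }
  have hid : σ = 𝟙 _ := h e
  refine hom_ext_dSect x fun U a₀ => ?_
  rw [← hDα]
  let a : Sec x U.1 := a₀
  change D U a = _
  obtain ⟨eU, hU⟩ := hσ U
  have h1 : chart x A U ((1 : A.carrier) ⊗ₜ a + ε ⊗ₜ D U a) = chart x A U ((1 : A.carrier) ⊗ₜ a) := by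
    rw [← hU a]
    simp only [hid, Category.id_comp]
    rw [chart_tmul, map_one, one_mul]
    rfl
  have h2 := (chart_bijective x A U).1 h1
  rw [add_eq_left] at h2
  have h3 := congrArg ((TensorProduct.lid k (Sec x U.1)).toLinearMap ∘ₗ
    TensorProduct.map (TrivSqZeroExt.sndHom k k) LinearMap.id) h2
  simp [ε, A] at h3
  exact h3.trans rfl

end Groth.Agent.DefLift
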