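import Groth.Agent.DefLift.DerLoc
import Mathlib

/-!
# The first Ext group vanishes when cocycles split
-/

set_option autoImplicit false
set_option linter.style.haveILetI false
set_option backward.isDefEq.respectTransparency false
universe u

open CategoryTheory CategoryTheory.Limits AlgebraicGeometry Opposite TopologicalSpace Abelian

noncomputable section

namespace Groth.Agent.DefLift

open Groth.Agent.QC Groth.Agent.CechShRes

section Abelian

variable {C : Type*} [Category C] [CategoryTheory.Abelian C] [HasExt.{u} C]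

theorem subsingleton_ext_of_lifts {K : CochainComplex C ℕ} {G : C} (ε : G ⟶ K.X 0) (hε : ε ≫ K.d 0 1 = 0) [Mono ε]
    (h0 : (ShortComplex.mk _ _ hε).Exact) (h1 : K.ExactAt 1) {F : C} (hacyc : Subsingleton (Ext F (K.X 0) 1))
    (hsplit : ∀ c : F ⟶ K.X 1, c ≫ K.d 1 2 = 0 → ∃ b : F ⟶ K.X 0, b ≫ K.d 0 1 = c) :
    Subsingleton (Ext F G 1) := by
  rw [HomologicalComplex.exactAt_iff' _ 0 1 2 (by simp) (by simp)] at h1
  let p : K.X 0 ⟶ kernel (K.d 1 2) := kernel.lift _ (K.d 0 1) (K.d_comp_d 0 1 2)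
  haveI : Epi p := (ShortComplex.exact_iff_epi_kernel_lift (K.sc' 0 1 2)).1 h1
  have hp : ε ≫ p = 0 := by
    rw [← cancel_mono (kernel.ι (K.d 1 2))]
    simp [p, hε]
  let S : ShortComplex C := ShortComplex.mk ε p hp
  have hS : S.ShortExact :=
    { exact := by
        rw [← ShortComplex.exact_iff_of_epi_of_isIso_of_mono
          (φ := ({ τ₁ := 𝟙 _, τ₂ := 𝟙 _, τ₃ := kernel.ι (K.d 1 2), comm₁₂ := by simp [S],
                   comm₂₃ := by simp [S, p] } : S ⟶ ShortComplex.mk _ _ hε))] at h0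
        exact h0
      mono_f := inferInstanceAs (Mono ε)
      epi_g := inferInstanceAs (Epi p) }
  refine subsingleton_of_forall_eq 0 fun x => ?_
  obtain ⟨y, rfl⟩ := Ext.covariant_sequence_exact₁ F hS x (@Subsingleton.elim _ hacyc _ _) (zero_add 1)
  obtain ⟨c, rfl⟩ := Ext.addEquiv₀.symm.surjective y
  have hc : (c ≫ kernel.ι (K.d 1 2)) ≫ K.d 1 2 = 0 := by rw [Category.assoc, kernel.condition, comp_zero]
  obtain ⟨b, hb⟩ := hsplit _ hc
  have hb' : b ≫ p = c := by
    rw [← cancel_mono (kernel.ι (K.d 1 2)), Category.assoc, kernel.lift_ι, hb]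
  rw [Ext.addEquiv₀_symm_apply, ← hb', ← Ext.mk₀_comp_mk₀, Ext.comp_assoc_of_second_deg_zero,
    show (Ext.mk₀ p).comp hS.extClass (zero_add 1) = 0 from hS.comp_extClass, Ext.comp_zero]

end Abelian

variable {X : Scheme.{u}} {F G : X.Modules} {ι : Type u} (U : ι → X.Opens)

/-- The first Ext group vanishes when all one cocycles of local homomorphisms split. -/
theorem ext_one_of_split [HasExt.{u} X.Modules] (hF : FlatMod.IsFinLocFree F) (hG : Coh.IsQCoh G)
    (hU : ∀ i, IsAffineOpen (U i)) (hcov : ⨆ i, U i = ⊤)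
    (h : ∀ (ψ : ∀ i j, LocHom F G (U i ⊓ U j)),
      (∀ (i j l : ι) (W : X.affineOpens) (hi : W.1 ≤ U i) (hj : W.1 ≤ U j) (hl : W.1 ≤ U l) (s : Γ(F, W.1)),
        (ψ i l).app W (le_inf hi hl) s = (ψ i j).app W (le_inf hi hj) s + (ψ j l).app W (le_inf hj hl) s) →
      ∃ η : ∀ i, LocHom F G (U i), ∀ (i j : ι) (W : X.affineOpens) (hi : W.1 ≤ U i) (hj : W.1 ≤ U j) (s : Γ(F, W.1)),
        (ψ i j).app W (le_inf hi hj) s = (η j).app W hj s - (η i).app W hi s) :
    Subsingleton (Ext F G 1) := by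
  haveI := mono_aug U G hcov
  refine subsingleton_ext_of_lifts _ (aug_d U G) (exact_zero U G hcov) (exact_succ U G hcov 0)
    (ext_one_cech_zero hF hG U hU) fun c hc => ?_
  obtain ⟨η, hη⟩ := h (fun i j => (coordLoc U c ![i, j]).restrict (le_iInf_two U inf_le_left inf_le_right))
    fun i j l W hi hj hl s => by
      have hz : ∀ (a : Fin 3 → ι) (W : X.affineOpens) (hW : W.1 ≤ ⨅ k, U (a k)) (s : Γ(F, W.1)),
          (coordLoc U (0 : F ⟶ ((CechOX.cechSh U).obj G).X 2) a).app W hW s = 0 := fun a W hW s => by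
        change res G _ (coord U G ((0 : F ⟶ ((CechOX.cechSh U).obj G).X 2).app W.1 s) a) = 0
        rw [show (0 : F ⟶ ((CechOX.cechSh U).obj G).X 2).app W.1 s = 0 from rfl, coord_zero, map_zero]
      have h1 := hz ![i, j, l] W (le_iInf_three U hi hj hl) s
      rw [← hc, app_d, Fin.sum_univ_three] at h1
      simp only [Fin.val_zero, Fin.val_one, Fin.val_two, pow_zero, pow_one, neg_one_sq, one_zsmul, neg_smul] at h1
      rw [coordLoc_congr U c (succAbove_three_zero ![i, j, l]) W _ (le_iInf_two U hj hl),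
        coordLoc_congr U c (succAbove_three_one ![i, j, l]) W _ (le_iInf_two U hi hl),
        coordLoc_congr U c (succAbove_three_two ![i, j, l]) W _ (le_iInf_two U hi hj)] at h1
      change (coordLoc U c ![i, l]).app W (le_iInf_two U hi hl) s =
        (coordLoc U c ![i, j]).app W (le_iInf_two U hi hj) s + (coordLoc U c ![j, l]).app W (le_iInf_two U hj hl) s
      rw [← sub_eq_zero, ← neg_eq_zero]
      refine Eq.trans ?_ h1
      simp only [Matrix.cons_val_zero, Matrix.cons_val_one, Matrix.cons_val]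
      abel
  obtain ⟨b, hb⟩ := exists_hom_cech U 0 (fun a => (η (a 0)).restrict (iInf_le _ 0))
  refine ⟨b, KosExt.hom_ext_affine fun V s => (coord_bijective U G 1 V.1).1 (funext fun a => ?_)⟩
  refine section_eq_of_locally fun z hz => ?_
  obtain ⟨W, hzW, hW⟩ := KosExt.exists_affine_le hz
  refine ⟨W.1, hW, hzW, ?_⟩
  have ha : ∀ k, W.1 ≤ U (a k) := fun k => hW.trans (cut_le' U _ a k)
  have hWV : W.1 ≤ V.1 := hW.trans (cut_le U _ a)
  have key : ∀ (φ : F ⟶ ((CechOX.cechSh U).obj G).X 1), res G hW (coord U G (φ.app V.1 s) a) =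
      (coordLoc U φ a).app W (le_iInf ha) (res F hWV s) := fun φ => by
    change _ = res G _ (coord U G (φ.app W.1 (res F hWV s)) a)
    rw [← coord_app_res U φ a hWV s, res_res]
  have ha' : a = ![a 0, a 1] := by funext k; fin_cases k <;> rfl
  rw [key, key, app_d, Fin.sum_univ_two, hb, hb,
    coordLoc_congr U c ha' W (le_iInf ha) (le_iInf_two U (ha 0) (ha 1))]
  simp only [LocHom.restrict, Fin.val_zero, Fin.val_one, pow_zero, pow_one, one_zsmul, neg_smul]
  rw [← sub_eq_add_neg]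
  exact (hη (a 0) (a 1) W (ha 0) (ha 1) _).symm

/-- The first Ext group against differentials vanishes when all one cocycles of derivations split. -/
theorem ext_one_of_der_split {S : Scheme.{u}} {f : X ⟶ S} [QuasiSeparated f] [HasExt.{u} X.Modules] {G : X.Modules}
    (Vb : ι → S.affineOpens) (hV : ∀ i, U i ≤ f ⁻¹ᵁ (Vb i).1) (hU : ∀ i, IsAffineOpen (U i)) (hcov : ⨆ i, U i = ⊤)
    (hΩ : FlatMod.IsFinLocFree (Omega.sheaf f)) (hG : Coh.IsQCoh G)
    (h : ∀ (D : ∀ i j, LocDer f G (U i ⊓ U j)),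
      (∀ (i j l : ι) (W : X.affineOpens) (hi : W.1 ≤ U i) (hj : W.1 ≤ U j) (hl : W.1 ≤ U l) (a : Γ(X, W.1)),
        (D i l).app W (le_inf hi hl) a = (D i j).app W (le_inf hi hj) a + (D j l).app W (le_inf hj hl) a) →
      ∃ E : ∀ i, LocDer f G (U i), ∀ (i j : ι) (W : X.affineOpens) (hi : W.1 ≤ U i) (hj : W.1 ≤ U j) (a : Γ(X, W.1)),
        (D i j).app W (le_inf hi hj) a = (E j).app W hj a - (E i).app W hi a) :
    Subsingleton (Ext (Omega.sheaf f) G 1) := by
  refine ext_one_of_split U hΩ hG hU hcov fun ψ hψ => ?_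
  obtain ⟨E, hE⟩ := h (fun i j => (ψ i j).toDer) fun i j l W hi hj hl a => hψ i j l W hi hj hl _
  choose η hη using fun i => exists_locHom (Vb i) (hV i) (E i)
  refine ⟨η, fun i j W hi hj s => LinearMap.congr_fun (linear_ext_dSect W (Vb i) (hi.trans (hV i))
    (φ := (ψ i j).app W (le_inf hi hj)) (ψ := (η j).app W hj - (η i).app W hi) fun a => ?_) s⟩
  rw [LinearMap.sub_apply, hη, hη]
  exact hE i j W hi hj a

end Groth.Agent.DefLift
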