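import Groth.Agent.CechShRes.Main
import Groth.Agent.KosExt.Hom
import Groth.Agent.QC.Basic
import Mathlib

/-!
# Splitting Čech cocycles of local homomorphisms when the Ext group vanishes
-/

set_option autoImplicit false
set_option linter.style.haveILetI false
set_option backward.isDefEq.respectTransparency false
universe u

open CategoryTheory CategoryTheory.Limits AlgebraicGeometry Opposite TopologicalSpace Abelian

noncomputable section

namespace Groth.Agent.DefLift

open Groth.Agent.QC Groth.Agent.CechShRes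

variable {X : Scheme.{u}} {F G : X.Modules}

/-- A natural family of linear maps on the affine opens inside `O`. -/
@[ext]
structure LocHom (F G : X.Modules) (O : X.Opens) : Type u where
  app : ∀ W : X.affineOpens, W.1 ≤ O → (Γ(F, W.1) →ₗ[Γ(X, W.1)] Γ(G, W.1))
  res_app : ∀ (W V : X.affineOpens) (hW : W.1 ≤ O) (h : V.1 ≤ W.1) (s : Γ(F, W.1)),
    res G h (app W hW s) = app V (h.trans hW) (res F h s)

variable {ι : Type u} (U : ι → X.Opens)

theorem cut_eq {n : ℕ} {V : X.Opens} {a : Fin (n + 1) → ι} (h : ∀ k, V ≤ U (a k)) : V ≤ cut U V a :=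
  fun _ hx => (mem_cut U).2 ⟨hx, fun k => h k hx⟩

theorem cut_le {n : ℕ} (V : X.Opens) (a : Fin (n + 1) → ι) : cut U V a ≤ V := fun _ hx => ((mem_cut U).1 hx).1

theorem cut_le' {n : ℕ} (V : X.Opens) (a : Fin (n + 1) → ι) (k : Fin (n + 1)) : cut U V a ≤ U (a k) :=
  fun _ hx => ((mem_cut U).1 hx).2 k

theorem cut_le_inf {n : ℕ} (V : X.Opens) (a : Fin (n + 1) → ι) : cut U V a ≤ ⨅ k, U (a k) :=
  le_iInf (cut_le' U V a)

theorem term_smul {n : ℕ} (a : Fin (n + 1) → ι) (V : X.Opens) (r : Γ(X, V)) (m : Γ(term U G a, V)) :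
    (r • m : Γ(term U G a, V)) = (resO X (cut_le U V a) r • (show Γ(G, cut U V a) from m) : Γ(G, cut U V a)) := by
  change ((∏ᶜ (U ∘ a)).ι.appIso ((∏ᶜ (U ∘ a)).ι ⁻¹ᵁ V)).inv ((∏ᶜ (U ∘ a)).ι.app V r) •
      (show Γ(G, cut U V a) from m) = _
  congr 1
  exact ConcreteCategory.congr_hom ((∏ᶜ (U ∘ a)).ι.app_appIso_inv V) r

/-- A local homomorphism is a map to the direct image from the intersection. -/
theorem exists_hom_term {n : ℕ} (a : Fin (n + 1) → ι) (ψ : LocHom F G (⨅ k, U (a k))) :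
    ∃ φ : F ⟶ term U G a, ∀ (V : X.affineOpens) (hV : ∀ k, V.1 ≤ U (a k)) (s : Γ(F, V.1)),
      res G (cut_eq U hV) (φ.app V.1 s) = ψ.app V (le_iInf hV) s := by
  have key : ∀ (V : X.affineOpens) (s : Γ(F, V.1)), ∃ t : Γ(G, cut U V.1 a), ∀ (W : X.affineOpens) (hW : W.1 ≤ cut U V.1 a),
      res G hW t = ψ.app W (hW.trans (cut_le_inf U _ a)) (res F (hW.trans (cut_le U _ a)) s) := by
    intro V s
    let I := {W : X.affineOpens // W.1 ≤ cut U V.1 a}
    have hcov : cut U V.1 a ≤ iSup fun i : I => i.1.1 := fun x hx => by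
      obtain ⟨W, hxW, hle⟩ := KosExt.exists_affine_le hx
      exact Opens.mem_iSup.mpr ⟨⟨W, hle⟩, hxW⟩
    obtain ⟨t, ht, -⟩ := (abSheaf G).existsUnique_gluing' (fun i : I => i.1.1) (cut U V.1 a)
      (fun i => homOfLE i.2) hcov (fun i => ψ.app i.1 (i.2.trans (cut_le_inf U _ a)) (res F (i.2.trans (cut_le U _ a)) s))
      (fun i j => by
        refine section_eq_of_locally (M := G) fun y hy => ?_
        obtain ⟨W, hyW, hW⟩ := KosExt.exists_affine_le hy
        refine ⟨W.1, hW, hyW, ?_⟩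
        show res G hW (res G inf_le_left (ψ.app i.1 _ _)) = res G hW (res G inf_le_right (ψ.app j.1 _ _))
        rw [res_res, res_res, ψ.res_app, ψ.res_app, res_res, res_res])
    exact ⟨t, fun W hW => ht ⟨W, hW⟩⟩
  choose t ht using key
  have hu : ∀ (V : X.affineOpens) (t t' : Γ(G, cut U V.1 a)), (∀ (W : X.affineOpens) (hW : W.1 ≤ cut U V.1 a),
      res G hW t = res G hW t') → t = t' := fun V t t' h => section_eq_of_locally fun x hx => by
    obtain ⟨W, hxW, hle⟩ := KosExt.exists_affine_le hx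
    exact ⟨W.1, hle, hxW, h W hle⟩
  obtain ⟨φ, hφ⟩ := KosExt.exists_hom_affine F (term U G a)
    (fun V =>
      { toFun := fun s => t V s
        map_add' := fun s s' => hu V _ _ fun W hW => by
          refine Eq.trans ?_ (map_add (res G hW) (t V s) (t V s')).symm
          rw [ht, ht, ht, map_add, map_add]
        map_smul' := fun r s => hu V _ _ fun W hW => by
          rw [RingHom.id_apply]
          refine Eq.trans ?_ (congrArg (res G hW) (term_smul U a V.1 r (t V s))).symm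
          refine Eq.trans ?_ (res_smul G hW _ (t V s)).symm
          rw [ht, ht, res_smul, map_smul, resO_resO] })
    (fun V V' h s => by
      refine hu V' _ _ fun W hW => ?_
      change res G hW (res G (cut_mono U h a) (t V s)) = res G hW (t V' (res F h s))
      rw [res_res, ht, ht, res_res])
  refine ⟨φ, fun V hV s => ?_⟩
  rw [hφ]
  refine (ht V s V (cut_eq U hV)).trans ?_
  rw [res_self]

section Abelian

variable {C : Type*} [Category C] [CategoryTheory.Abelian C] [HasExt.{u} C]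

theorem exists_lift_one {K : CochainComplex C ℕ} {G : C} (ε : G ⟶ K.X 0) (hε : ε ≫ K.d 0 1 = 0) [Mono ε]
    (h0 : (ShortComplex.mk _ _ hε).Exact) (h1 : K.ExactAt 1) {F : C} (h : Subsingleton (Ext F G 1))
    (c : F ⟶ K.X 1) (hc : c ≫ K.d 1 2 = 0) : ∃ b : F ⟶ K.X 0, b ≫ K.d 0 1 = c := by
  rw [HomologicalComplex.exactAt_iff' _ 0 1 2 (by simp) (by simp)] at h1
  let p : K.X 0 ⟶ kernel (K.d 1 2) := kernel.lift _ (K.d 0 1) (K.d_comp_d 0 1 2)
  haveI : Epi p := (ShortComplex.exact_iff_epi_kernel_lift (K.sc' 0 1 2)).1 h1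
  have hp : ε ≫ p = 0 := by
    rw [← cancel_mono (kernel.ι (K.d 1 2))]
    simp [p, hε]
  let S : ShortComplex C := ShortComplex.mk ε p hp
  have hS : S.ShortExact :=
    { exact := by
        rw [← ShortComplex.exact_iff_of_epi_of_isIso_of_mono
          (φ := ({ τ₁ := 𝟙 _, τ₂ := 𝟙 _, τ₃ := kernel.ι (K.d 1 2), comm₁₂ := by simp [S],
                   comm₂₃ := by simp [S, p] } : S ⟶ ShortComplex.mk _ _ hε))] at h0
        exact h0
      mono_f := inferInstanceAs (Mono ε)
      epi_g := inferInstanceAs (Epi p) }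
  obtain ⟨x, hx⟩ := Ext.covariant_sequence_exact₃ F hS (Ext.mk₀ (kernel.lift _ c hc)) (zero_add 1)
    (@Subsingleton.elim _ h _ _)
  obtain ⟨b, rfl⟩ := Ext.addEquiv₀.symm.surjective x
  refine ⟨b, ?_⟩
  rw [Ext.addEquiv₀_symm_apply, Ext.mk₀_comp_mk₀] at hx
  have hb : b ≫ p = kernel.lift _ c hc := (Ext.mk₀_bijective F (kernel (K.d 1 2))).1 hx
  have := congrArg (· ≫ kernel.ι (K.d 1 2)) hb
  simpa [p] using this

theorem exists_lift_two {K : CochainComplex C ℕ} {G : C} (ε : G ⟶ K.X 0) (hε : ε ≫ K.d 0 1 = 0) [Mono ε]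
    (h0 : (ShortComplex.mk _ _ hε).Exact) (h1 : K.ExactAt 1) (h2 : K.ExactAt 2) {F : C}
    (hext : Subsingleton (Ext F G 2)) (hacyc : Subsingleton (Ext F (K.X 0) 1))
    (c : F ⟶ K.X 2) (hc : c ≫ K.d 2 3 = 0) : ∃ b : F ⟶ K.X 1, b ≫ K.d 1 2 = c := by
  rw [HomologicalComplex.exactAt_iff' _ 0 1 2 (by simp) (by simp)] at h1
  rw [HomologicalComplex.exactAt_iff' _ 1 2 3 (by simp) (by simp)] at h2
  let p : K.X 0 ⟶ kernel (K.d 1 2) := kernel.lift _ (K.d 0 1) (K.d_comp_d 0 1 2)
  haveI : Epi p := (ShortComplex.exact_iff_epi_kernel_lift (K.sc' 0 1 2)).1 h1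
  have hp : ε ≫ p = 0 := by
    rw [← cancel_mono (kernel.ι (K.d 1 2))]
    simp [p, hε]
  let S : ShortComplex C := ShortComplex.mk ε p hp
  have hS : S.ShortExact :=
    { exact := by
        rw [← ShortComplex.exact_iff_of_epi_of_isIso_of_mono
          (φ := ({ τ₁ := 𝟙 _, τ₂ := 𝟙 _, τ₃ := kernel.ι (K.d 1 2), comm₁₂ := by simp [S],
                   comm₂₃ := by simp [S, p] } : S ⟶ ShortComplex.mk _ _ hε))] at h0
        exact h0
      mono_f := inferInstanceAs (Mono ε)
      epi_g := inferInstanceAs (Epi p) }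
  let q : K.X 1 ⟶ kernel (K.d 2 3) := kernel.lift _ (K.d 1 2) (K.d_comp_d 1 2 3)
  haveI : Epi q := (ShortComplex.exact_iff_epi_kernel_lift (K.sc' 1 2 3)).1 h2
  have hq : kernel.ι (K.d 1 2) ≫ q = 0 := by
    rw [← cancel_mono (kernel.ι (K.d 2 3))]
    simp [q]
  let T : ShortComplex C := ShortComplex.mk (kernel.ι (K.d 1 2)) q hq
  have hT : T.ShortExact :=
    { exact := by
        refine ShortComplex.exact_of_f_is_kernel _ (KernelFork.IsLimit.ofι' _ _ fun {A} g hg => ⟨kernel.lift _ g ?_, kernel.lift_ι _ _ _⟩)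
        have := congrArg (· ≫ kernel.ι (K.d 2 3)) hg
        simpa [T, q] using this
      mono_f := inferInstanceAs (Mono (kernel.ι (K.d 1 2)))
      epi_g := inferInstanceAs (Epi q) }
  have hz : Subsingleton (Ext F (kernel (K.d 1 2)) 1) := subsingleton_of_forall_eq 0 fun e => by
    obtain ⟨x, rfl⟩ := Ext.covariant_sequence_exact₃ F hS e (rfl : 1 + 1 = 2) (@Subsingleton.elim _ hext _ _)
    rw [@Subsingleton.elim _ hacyc x 0]
    simp
  obtain ⟨x, hx⟩ := Ext.covariant_sequence_exact₃ F hT (Ext.mk₀ (kernel.lift _ c hc)) (zero_add 1)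
    (@Subsingleton.elim _ hz _ _)
  obtain ⟨b, rfl⟩ := Ext.addEquiv₀.symm.surjective x
  refine ⟨b, ?_⟩
  rw [Ext.addEquiv₀_symm_apply, Ext.mk₀_comp_mk₀] at hx
  have hb : b ≫ q = kernel.lift _ c hc := (Ext.mk₀_bijective F (kernel (K.d 2 3))).1 hx
  have := congrArg (· ≫ kernel.ι (K.d 2 3)) hb
  simpa [q] using this

end Abelian

/-- Restrict a natural family to a smaller open. -/
def LocHom.restrict {O O' : X.Opens} (ψ : LocHom F G O) (h : O' ≤ O) : LocHom F G O' where
  app W hW := ψ.app W (hW.trans h)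
  res_app W V hW h' s := ψ.res_app W V (hW.trans h) h' s

theorem coord_app_res {n : ℕ} (φ : F ⟶ ((CechOX.cechSh U).obj G).X n) (a : Fin (n + 1) → ι) {V W : X.Opens}
    (h : W ≤ V) (s : Γ(F, V)) :
    res G (cut_mono U h a) (coord U G (φ.app V s) a) = coord U G (φ.app W (res F h s)) a := by
  rw [← app_res φ h s, coord_res]

/-- The natural family of a coordinate of a map to the Čech complex. -/
def coordLoc {n : ℕ} (φ : F ⟶ ((CechOX.cechSh U).obj G).X n) (a : Fin (n + 1) → ι) :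
    LocHom F G (⨅ k, U (a k)) where
  app W hW :=
    { toFun := fun s => res G (cut_eq U fun k => hW.trans (iInf_le _ k)) (coord U G (φ.app W.1 s) a)
      map_add' := fun s t => by rw [map_add, coord_add, map_add]
      map_smul' := fun r s => by
        rw [RingHom.id_apply, Scheme.Modules.Hom.app_smul]
        refine ((congrArg (res G _) ((Scheme.Modules.Hom.app_smul (Pi.π (term U G) a) r _).trans
          (term_smul U a W.1 r _))).trans (res_smul G _ _ _)).trans ?_
        rw [resO_resO, resO_self]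
        rfl }
  res_app W V hW h s := by
    change res G h (res G _ _) = res G _ (coord U G (φ.app V.1 (res F h s)) a)
    rw [← coord_app_res U φ a h s, res_res, res_res]

/-- A map to the Čech complex from its coordinates. -/
theorem exists_hom_cech (n : ℕ) (ψ : ∀ a : Fin (n + 1) → ι, LocHom F G (⨅ k, U (a k))) :
    ∃ φ : F ⟶ ((CechOX.cechSh U).obj G).X n, ∀ (a : Fin (n + 1) → ι) (W : X.affineOpens) (hW : W.1 ≤ ⨅ k, U (a k)) (s : Γ(F, W.1)),
      (coordLoc U φ a).app W hW s = (ψ a).app W hW s := by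
  choose φ hφ using fun a => exists_hom_term U a (ψ a)
  refine ⟨Pi.lift φ, fun a W hW s => ?_⟩
  change res G (cut_eq U fun k => hW.trans (iInf_le _ k))
    (show Γ(G, cut U W.1 a) from (Pi.lift φ ≫ Pi.π (term U G) a).app W.1 s) = _
  rw [Pi.lift_π]
  exact hφ a W (fun k => hW.trans (iInf_le _ k)) s

theorem comp_d_eq_zero {n : ℕ} (φ : F ⟶ ((CechOX.cechSh U).obj G).X n)
    (h : ∀ (a : Fin (n + 2) → ι) (W : X.affineOpens) (hW : W.1 ≤ ⨅ k, U (a k)) (s : Γ(F, W.1)),
      ∑ k : Fin (n + 2), (-1 : ℤ) ^ (k : ℕ) •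
        (coordLoc U φ (a ∘ k.succAbove)).app W (hW.trans (le_iInf fun i => iInf_le _ (k.succAbove i))) s = 0) :
    φ ≫ ((CechOX.cechSh U).obj G).d n (n + 1) = 0 := by
  refine KosExt.hom_ext_affine fun V s => (coord_bijective U G (n + 1) V.1).1 (funext fun a => ?_)
  refine Eq.trans ?_ (coord_zero U G a).symm
  change coord U G ((((CechOX.cechSh U).obj G).d n (n + 1)).app V.1 (φ.app V.1 s)) a = 0
  refine section_eq_of_locally fun x hx => ?_
  obtain ⟨W, hxW, hW⟩ := KosExt.exists_affine_le hx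
  refine ⟨W.1, hW, hxW, ?_⟩
  rw [map_zero, coord_d, map_sum]
  refine Eq.trans (Finset.sum_congr rfl fun k _ => ?_) (h a W (hW.trans (cut_le_inf U _ a)) (res F (hW.trans (cut_le U _ a)) s))
  rw [map_zsmul]
  refine congrArg _ ?_
  change _ = res G _ (coord U G (φ.app W.1 (res F _ s)) _)
  rw [← coord_app_res U φ _ (hW.trans (cut_le U _ a)) s, res_res, res_res]

theorem app_d {n : ℕ} (b : F ⟶ ((CechOX.cechSh U).obj G).X n) (a : Fin (n + 2) → ι) (W : X.affineOpens)
    (hW : W.1 ≤ ⨅ k, U (a k)) (s : Γ(F, W.1)) :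
    (coordLoc U (b ≫ ((CechOX.cechSh U).obj G).d n (n + 1)) a).app W hW s =
      ∑ k : Fin (n + 2), (-1 : ℤ) ^ (k : ℕ) •
        (coordLoc U b (a ∘ k.succAbove)).app W (hW.trans (le_iInf fun i => iInf_le _ (k.succAbove i))) s := by
  change res G _ (coord U G ((((CechOX.cechSh U).obj G).d n (n + 1)).app W.1 (b.app W.1 s)) a) = _
  rw [coord_d, map_sum]
  refine Finset.sum_congr rfl fun k _ => ?_
  rw [map_zsmul]
  refine congrArg _ ?_
  change _ = res G _ _
  rw [res_res]

/-- A family on a tuple of members of the covering does not depend on how the tuple is written. -/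
theorem coordLoc_congr {n : ℕ} (φ : F ⟶ ((CechOX.cechSh U).obj G).X n) {a b : Fin (n + 1) → ι} (hab : a = b)
    (W : X.affineOpens) (ha : W.1 ≤ ⨅ k, U (a k)) (hb : W.1 ≤ ⨅ k, U (b k)) (s : Γ(F, W.1)) :
    (coordLoc U φ a).app W ha s = (coordLoc U φ b).app W hb s := by
  subst hab; rfl

theorem succAbove_two_zero (a : Fin 2 → ι) : a ∘ (0 : Fin 2).succAbove = ![a 1] := by
  funext k; fin_cases k; rfl

theorem succAbove_two_one (a : Fin 2 → ι) : a ∘ (1 : Fin 2).succAbove = ![a 0] := by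
  funext k; fin_cases k; rfl

theorem succAbove_three_zero (a : Fin 3 → ι) : a ∘ (0 : Fin 3).succAbove = ![a 1, a 2] := by
  funext k; fin_cases k <;> rfl

theorem succAbove_three_one (a : Fin 3 → ι) : a ∘ (1 : Fin 3).succAbove = ![a 0, a 2] := by
  funext k; fin_cases k <;> rfl

theorem succAbove_three_two (a : Fin 3 → ι) : a ∘ (2 : Fin 3).succAbove = ![a 0, a 1] := by
  funext k; fin_cases k <;> rfl

theorem le_iInf_two {V : X.Opens} {i j : ι} (hi : V ≤ U i) (hj : V ≤ U j) : V ≤ ⨅ k, U (![i, j] k) :=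
  le_iInf fun k => by fin_cases k <;> assumption

theorem le_iInf_three {V : X.Opens} {i j l : ι} (hi : V ≤ U i) (hj : V ≤ U j) (hl : V ≤ U l) :
    V ≤ ⨅ k, U (![i, j, l] k) :=
  le_iInf fun k => by fin_cases k <;> assumption

/-- A one cocycle of local homomorphisms splits when the first Ext group vanishes. -/
theorem exists_split_one [HasExt.{u} X.Modules] (hcov : ⨆ i, U i = ⊤) (h : Subsingleton (Ext F G 1))
    (ψ : ∀ i j, LocHom F G (U i ⊓ U j))
    (hψ : ∀ (i j l : ι) (W : X.affineOpens) (hi : W.1 ≤ U i) (hj : W.1 ≤ U j) (hl : W.1 ≤ U l) (s : Γ(F, W.1)),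
      (ψ i l).app W (le_inf hi hl) s = (ψ i j).app W (le_inf hi hj) s + (ψ j l).app W (le_inf hj hl) s) :
    ∃ η : ∀ i, LocHom F G (U i), ∀ (i j : ι) (W : X.affineOpens) (hi : W.1 ≤ U i) (hj : W.1 ≤ U j) (s : Γ(F, W.1)),
      (ψ i j).app W (le_inf hi hj) s = (η j).app W hj s - (η i).app W hi s := by
  obtain ⟨c, hc⟩ := exists_hom_cech U 1 (fun a => (ψ (a 0) (a 1)).restrict (le_inf (iInf_le _ 0) (iInf_le _ 1)))
  have hcd : c ≫ ((CechOX.cechSh U).obj G).d 1 2 = 0 := comp_d_eq_zero U c fun a W hW s => by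
    rw [Fin.sum_univ_three, hc, hc, hc]
    simp only [LocHom.restrict, Fin.val_zero, Fin.val_one, Fin.val_two, pow_zero, pow_one, neg_one_sq, one_zsmul,
      neg_smul]
    have := hψ (a 0) (a 1) (a 2) W (hW.trans (iInf_le _ 0)) (hW.trans (iInf_le _ 1)) (hW.trans (iInf_le _ 2)) s
    change (ψ (a 1) (a 2)).app W _ s + -(ψ (a 0) (a 2)).app W _ s + (ψ (a 0) (a 1)).app W _ s = 0
    rw [this]
    abel
  haveI := mono_aug U G hcov
  obtain ⟨b, hb⟩ := exists_lift_one _ (aug_d U G) (exact_zero U G hcov) (exact_succ U G hcov 0) h c hcd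
  refine ⟨fun i => (coordLoc U b ![i]).restrict (le_iInf fun k => by fin_cases k; exact le_rfl), fun i j W hi hj s => ?_⟩
  have h1 := hc ![i, j] W (le_iInf_two U hi hj) s
  rw [← hb, app_d, Fin.sum_univ_two] at h1
  simp only [LocHom.restrict, Fin.val_zero, Fin.val_one, pow_zero, pow_one, one_zsmul, neg_smul] at h1 ⊢
  rw [← sub_eq_add_neg, coordLoc_congr U b (succAbove_two_zero ![i, j]) W _
    (le_iInf fun k => by fin_cases k; exact hj), coordLoc_congr U b (succAbove_two_one ![i, j]) W _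
    (le_iInf fun k => by fin_cases k; exact hi)] at h1
  exact h1.symm

/-- A two cocycle of local homomorphisms splits when the second Ext group vanishes. -/
theorem exists_split_two [HasExt.{u} X.Modules] (hcov : ⨆ i, U i = ⊤) (h : Subsingleton (Ext F G 2))
    (h0 : Subsingleton (Ext F (((CechOX.cechSh U).obj G).X 0) 1))
    (ψ : ∀ i j l, LocHom F G (U i ⊓ U j ⊓ U l))
    (hψ : ∀ (i j l m : ι) (W : X.affineOpens) (hi : W.1 ≤ U i) (hj : W.1 ≤ U j) (hl : W.1 ≤ U l) (hm : W.1 ≤ U m)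
      (s : Γ(F, W.1)),
      (ψ j l m).app W (le_inf (le_inf hj hl) hm) s - (ψ i l m).app W (le_inf (le_inf hi hl) hm) s +
        (ψ i j m).app W (le_inf (le_inf hi hj) hm) s - (ψ i j l).app W (le_inf (le_inf hi hj) hl) s = 0) :
    ∃ η : ∀ i j, LocHom F G (U i ⊓ U j), ∀ (i j l : ι) (W : X.affineOpens) (hi : W.1 ≤ U i) (hj : W.1 ≤ U j)
      (hl : W.1 ≤ U l) (s : Γ(F, W.1)),
      (ψ i j l).app W (le_inf (le_inf hi hj) hl) s =
        (η j l).app W (le_inf hj hl) s - (η i l).app W (le_inf hi hl) s + (η i j).app W (le_inf hi hj) s := by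
  obtain ⟨c, hc⟩ := exists_hom_cech U 2 (fun a => (ψ (a 0) (a 1) (a 2)).restrict
    (le_inf (le_inf (iInf_le _ 0) (iInf_le _ 1)) (iInf_le _ 2)))
  have hcd : c ≫ ((CechOX.cechSh U).obj G).d 2 3 = 0 := comp_d_eq_zero U c fun a W hW s => by
    rw [Fin.sum_univ_four, hc, hc, hc, hc]
    have := hψ (a 0) (a 1) (a 2) (a 3) W (hW.trans (iInf_le _ 0)) (hW.trans (iInf_le _ 1)) (hW.trans (iInf_le _ 2))
      (hW.trans (iInf_le _ 3)) s
    simp only [LocHom.restrict, Fin.val_zero, Fin.val_one, pow_zero, pow_one, one_zsmul, neg_smul]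
    refine Eq.trans ?_ this
    norm_num [sub_eq_add_neg]
    rfl
  haveI := mono_aug U G hcov
  obtain ⟨b, hb⟩ := exists_lift_two _ (aug_d U G) (exact_zero U G hcov) (exact_succ U G hcov 0) (exact_succ U G hcov 1)
    h h0 c hcd
  refine ⟨fun i j => (coordLoc U b ![i, j]).restrict (le_iInf_two U inf_le_left inf_le_right), fun i j l W hi hj hl s => ?_⟩
  have h1 := hc ![i, j, l] W (le_iInf_three U hi hj hl) s
  rw [← hb, app_d, Fin.sum_univ_three] at h1
  simp only [LocHom.restrict, Fin.val_zero, Fin.val_one, Fin.val_two, pow_zero, pow_one, neg_one_sq, one_zsmul,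
    neg_smul] at h1 ⊢
  rw [← sub_eq_add_neg, coordLoc_congr U b (succAbove_three_zero ![i, j, l]) W _ (le_iInf_two U hj hl),
    coordLoc_congr U b (succAbove_three_one ![i, j, l]) W _ (le_iInf_two U hi hl),
    coordLoc_congr U b (succAbove_three_two ![i, j, l]) W _ (le_iInf_two U hi hj)] at h1
  exact h1.symm

end Groth.Agent.DefLift
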