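import Groth.Agent.DefLift.Obstruction
import Groth.Agent.Hensel.SmoothQuotientLift
import Mathlib

/-!
# Thickenings of affine opens from a smooth deformation
-/

set_option autoImplicit false
set_option linter.style.haveILetI false
set_option backward.isDefEq.respectTransparency false
universe u

open CategoryTheory CategoryTheory.Limits AlgebraicGeometry Opposite TopologicalSpace

noncomputable section

namespace Groth.Agent.DefLift

variable {S S₀ X₀ : Scheme.{u}} {ι : S₀ ⟶ S} [IsClosedImmersion ι] (hι : IsSqZero ι) {f₀ : X₀ ⟶ S₀}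

include hι in
/-- Smooth morphisms lift over affine opens. -/
theorem exists_affine_deformation [Smooth f₀] (U : X₀.affineOpens) (Q : S.affineOpens)
    (e : U.1 ≤ f₀ ⁻¹ᵁ (ι ⁻¹ᵁ Q.1)) :
    ∃ (V : Scheme.{u}) (g : V ⟶ S) (k : U.1.toScheme ⟶ V), Smooth g ∧ IsPullback k (U.1.ι ≫ f₀) g ι := by
  let J : Ideal Γ(S, Q.1) := RingHom.ker (ι.app Q.1).hom
  let e0 : (Γ(S, Q.1) ⧸ J) ≃+* Γ(S₀, ι ⁻¹ᵁ Q.1) := RingHom.quotientKerEquivOfSurjective (ι.app_surjective Q.1 Q.2)
  let φ : (Γ(S, Q.1) ⧸ J) →+* Γ(X₀, U.1) := (f₀.appLE (ι ⁻¹ᵁ Q.1) U.1 e).hom.comp e0.toRingHom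
  have hφ : φ.Smooth := RingHom.Smooth.respectsIso.2 _ e0
    (HasRingHomProperty.appLE (P := @Smooth) f₀ inferInstance ⟨_, Q.2.preimage ι⟩ U e)
  algebraize [φ]
  obtain ⟨B, _, _, hB, ⟨ε⟩⟩ := Hensel.exists_smooth_lift_quotient Γ(S, Q.1) J Γ(X₀, U.1)
  let π : B →+* Γ(X₀, U.1) := ε.toRingHom.comp (Ideal.Quotient.mk (J.map (algebraMap Γ(S, Q.1) B)))
  have hπ : Function.Surjective π := ε.surjective.comp Ideal.Quotient.mk_surjective
  have hπc : CommRingCat.ofHom (algebraMap Γ(S, Q.1) B) ≫ CommRingCat.ofHom π = (f₀ ≫ ι).appLE Q.1 U.1 e := by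
    ext a
    change ε (Ideal.Quotient.mk _ (algebraMap Γ(S, Q.1) B a)) = _
    refine (ε.commutes (Ideal.Quotient.mk J a)).trans ?_
    change f₀.appLE (ι ⁻¹ᵁ Q.1) U.1 e (ι.app Q.1 a) = _
    rw [Scheme.Hom.app_eq_appLE]
    exact congr($(Scheme.Hom.appLE_comp_appLE f₀ ι Q.1 (ι ⁻¹ᵁ Q.1) U.1 le_rfl e) a)
  let g : Spec (CommRingCat.of B) ⟶ S := Spec.map (CommRingCat.ofHom (algebraMap Γ(S, Q.1) B)) ≫ Q.2.fromSpec
  let k : U.1.toScheme ⟶ Spec (CommRingCat.of B) := U.2.isoSpec.hom ≫ Spec.map (CommRingCat.ofHom π)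
  have hsm : Smooth g := by
    haveI : Smooth (Spec.map (CommRingCat.ofHom (algebraMap Γ(S, Q.1) B))) :=
      (HasRingHomProperty.Spec_iff (P := @Smooth)).2 (RingHom.smooth_algebraMap.2 hB)
    infer_instance
  have w : k ≫ g = (U.1.ι ≫ f₀) ≫ ι := by
    have h1 : Spec.map (CommRingCat.ofHom π) ≫ g = U.2.fromSpec ≫ f₀ ≫ ι := by
      rw [← Category.assoc, ← Spec.map_comp, hπc, IsAffineOpen.SpecMap_appLE_fromSpec (f₀ ≫ ι) Q.2 U.2 e]
    rw [Category.assoc, h1, IsAffineOpen.isoSpec_hom, IsAffineOpen.toSpecΓ_fromSpec_assoc, Category.assoc]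
  refine ⟨Spec (CommRingCat.of B), g, k, hsm, ?_⟩
  haveI : IsClosedImmersion k := by
    haveI : IsClosedImmersion (Spec.map (CommRingCat.ofHom π)) := IsClosedImmersion.spec_of_surjective _ hπ
    infer_instance
  let P := pullback g ι
  let l : U.1.toScheme ⟶ P := pullback.lift k (U.1.ι ≫ f₀) w
  have htop : ⊤ ≤ g ⁻¹ᵁ Q.1 := fun p _ => by
    have hp : Q.2.fromSpec (Spec.map (CommRingCat.ofHom (algebraMap Γ(S, Q.1) B)) p) ∈ Set.range Q.2.fromSpec :=
      Set.mem_range_self _
    rw [Q.2.range_fromSpec] at hp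
    exact hp
  have hg : g.appLE Q.1 ⊤ htop =
      CommRingCat.ofHom (algebraMap Γ(S, Q.1) B) ≫ (Scheme.ΓSpecIso (CommRingCat.of B)).inv := by
    refine Spec.map_injective ?_
    rw [← cancel_mono Q.2.fromSpec, IsAffineOpen.SpecMap_appLE_fromSpec g Q.2 (isAffineOpen_top _) htop, Spec.map_comp,
      IsAffineOpen.fromSpec_top]
    simp [g, Scheme.isoSpec_Spec]
  have hk : k.ker = (pullback.fst g ι).ker := by
    refine Scheme.IdealSheafData.ext_of_isAffine ?_
    rw [Scheme.Hom.ker_apply, Scheme.Hom.ker_apply,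
      (KoszulLib.ker_app_of_isPullback (IsPullback.of_hasPullback g ι).flip Q inferInstance ⟨⊤, isAffineOpen_top _⟩ htop).2,
      hg]
    have hkapp : k.app ⊤ = (Scheme.ΓSpecIso (CommRingCat.of B)).hom ≫ CommRingCat.ofHom π ≫
        ((Scheme.ΓSpecIso Γ(X₀, U.1)).inv ≫ U.2.isoSpec.hom.app ⊤) := by
      have h : (Spec.map (CommRingCat.ofHom π)).app ⊤ = (Scheme.ΓSpecIso (CommRingCat.of B)).hom ≫
          CommRingCat.ofHom π ≫ (Scheme.ΓSpecIso Γ(X₀, U.1)).inv := by
        rw [← Category.assoc, Iso.eq_comp_inv]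
        exact Scheme.ΓSpecIso_naturality (CommRingCat.ofHom π)
      rw [Scheme.Hom.comp_app]
      exact (congrArg (· ≫ U.2.isoSpec.hom.app ⊤) h).trans (by simp only [Category.assoc])
    have hb : Function.Bijective ((Scheme.ΓSpecIso Γ(X₀, U.1)).inv ≫ U.2.isoSpec.hom.app ⊤).hom :=
      ConcreteCategory.bijective_of_isIso _
    have hker : RingHom.ker π = J.map (algebraMap Γ(S, Q.1) B) := by
      ext x
      simp only [RingHom.mem_ker, π, RingHom.comp_apply]
      exact (EmbeddingLike.map_eq_zero_iff (f := ε)).trans Ideal.Quotient.eq_zero_iff_mem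
    simp only [hkapp, CommRingCat.hom_comp, CommRingCat.hom_ofHom, ← Ideal.map_map]
    rw [← hker]
    ext x
    simp only [RingHom.mem_ker, Ideal.mem_map_iff_of_surjective _ (ConcreteCategory.bijective_of_isIso
      (Scheme.ΓSpecIso (CommRingCat.of B)).inv).2, CommRingCat.comp_apply, CommRingCat.hom_comp, RingHom.comp_apply]
    refine ⟨fun hx => ⟨(Scheme.ΓSpecIso _).hom x, hb.1 (hx.trans (map_zero _).symm), by simp⟩, ?_⟩
    rintro ⟨y, hy, rfl⟩
    simp [hy]
    exact map_zero _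
  haveI : IsIso l := IsClosedImmersion.isIso_of_ker_eq k (pullback.fst g ι) l (pullback.lift_fst _ _ _) hk
  exact IsPullback.of_iso_pullback ⟨w⟩ (asIso l) (pullback.lift_fst _ _ _) (pullback.lift_snd _ _ _)

section

variable {O : X₀.Opens} (hO : IsAffineOpen O) {V : Scheme.{u}} (g : V ⟶ S) (k : O.toScheme ⟶ V)
  (hc : IsPullback k (O.ι ≫ f₀) g ι)

include hι hc in
/-- A smooth deformation of an open gives thickenings of its affine opens. -/
theorem exists_piece_maps [Smooth g] (base : S.affineOpens) (hbase : O ≤ (f₀ ≫ ι) ⁻¹ᵁ base.1) :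
    ∃ (P : Piece ι f₀ O) (m : ∀ (W : X₀.affineOpens) (hW : W.1 ≤ O), Spec (P.A W hW) ⟶ V),
      (∀ W hW, m W hW ≫ g = P.toS W hW) ∧
      (∀ W hW, (W.2.isoSpec.hom ≫ Spec.map (P.red W hW)) ≫ m W hW = X₀.homOfLE hW ≫ k) ∧
      (∀ {W W' : X₀.affineOpens} (hW : W.1 ≤ O) (h : W'.1 ≤ W.1),
        Spec.map (P.res hW h) ≫ m W hW = m W' (h.trans hW)) := by
  haveI : IsClosedImmersion k := MorphismProperty.of_isPullback hc.flip inferInstance
  haveI : Surjective ι := ⟨surjective_of_sqZero hι⟩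
  haveI hks : Surjective k := MorphismProperty.of_isPullback hc.flip inferInstance
  have hopn : ∀ C : O.toScheme.Opens, IsOpen (k.base '' (C : Set O.toScheme)) := fun C => by
    obtain ⟨T, hT, hTC⟩ := (k.isEmbedding.isInducing.isOpen_iff).1 C.2
    change IsOpen (k '' C.carrier)
    rwa [← hTC, Set.image_preimage_eq _ k.surjective]
  let opn : X₀.Opens → V.Opens := fun W => ⟨k.base '' (O.ι ⁻¹ᵁ W : Set O.toScheme), hopn _⟩
  have hpre : ∀ W, k ⁻¹ᵁ opn W = O.ι ⁻¹ᵁ W := fun W =>
    TopologicalSpace.Opens.ext (Set.preimage_image_eq _ k.isEmbedding.injective)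
  let kW : ∀ (W : X₀.affineOpens) (hW : W.1 ≤ O), W.1.toScheme ⟶ V := fun W hW => X₀.homOfLE hW ≫ k
  have hsq : ∀ (W : X₀.affineOpens) (hW : W.1 ≤ O), kW W hW ⁻¹ᵁ opn W.1 = ⊤ := fun W hW => by
    rw [Scheme.Hom.comp_preimage, hpre, ← Scheme.Hom.comp_preimage]
    simp
  have haff : ∀ (W : X₀.affineOpens), W.1 ≤ O → IsAffineOpen (opn W.1) := fun W hW => by
    haveI : IsClosedImmersion (k ∣_ opn W.1) := IsZariskiLocalAtTarget.restrict (P := @IsClosedImmersion) inferInstance _
    haveI : Surjective (k ∣_ opn W.1) := IsZariskiLocalAtTarget.restrict (P := @Surjective) inferInstance _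
    haveI : IsAffine (k ⁻¹ᵁ opn W.1).toScheme := by
      rw [hpre]
      exact W.2.preimage_of_isOpenImmersion O.ι (by rwa [Scheme.Opens.opensRange_ι])
    exact NilAffine.isAffine_of_surjective (k ∣_ opn W.1)
  have hmono : ∀ {W W' : X₀.affineOpens}, W'.1 ≤ W.1 → opn W'.1 ≤ opn W.1 := fun h =>
    Set.image_mono (O.ι.preimage_mono h)
  let red : ∀ (W : X₀.affineOpens) (hW : W.1 ≤ O), Γ(V, opn W.1) ⟶ Γ(X₀, W.1) := fun W hW =>
    (kW W hW).appLE (opn W.1) ⊤ (hsq W hW).ge ≫ W.1.topIso.hom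
  have hemb : ∀ (W : X₀.affineOpens) (hW : W.1 ≤ O),
      (W.2.isoSpec.hom ≫ Spec.map (red W hW)) ≫ (haff W hW).fromSpec = kW W hW := fun W hW => by
    have h1 := IsAffineOpen.SpecMap_appLE_fromSpec (kW W hW) (haff W hW) (isAffineOpen_top W.1.toScheme) (hsq W hW).ge
    rw [Category.assoc, Spec.map_comp, Category.assoc, h1, IsAffineOpen.isoSpec_hom, ← Category.assoc,
      ← Category.assoc]
    conv_rhs => rw [← Category.id_comp (kW W hW)]
    congr 1
    rw [IsAffineOpen.fromSpec_top]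
    simp only [Scheme.Opens.toSpecΓ, Category.assoc, ← Spec.map_comp_assoc]
    simp [Scheme.isoSpec, ← Functor.map_comp]
    erw [Spec.map_id, Category.id_comp, IsIso.hom_inv_id]
  have hcart : ∀ (W : X₀.affineOpens) (hW : W.1 ≤ O),
      IsPullback (W.2.isoSpec.hom ≫ Spec.map (red W hW)) (W.1.ι ≫ f₀) ((haff W hW).fromSpec ≫ g) ι := fun W hW => by
    have h1 : IsPullback (W.2.isoSpec.hom ≫ Spec.map (red W hW)) (X₀.homOfLE hW) (haff W hW).fromSpec k := by
      refine IsOpenImmersion.isPullback _ _ _ _ (hemb W hW).symm ?_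
      rw [IsAffineOpen.opensRange_fromSpec, hpre, Scheme.opensRange_homOfLE]
    have := h1.paste_vert hc
    rwa [Scheme.homOfLE_ι_assoc] at this
  have hsurj : ∀ W hW, Function.Surjective (red W hW) := fun W hW => by
    haveI : IsClosedImmersion (W.2.isoSpec.hom ≫ Spec.map (red W hW)) :=
      MorphismProperty.of_isPullback (hcart W hW).flip inferInstance
    haveI : IsClosedImmersion (Spec.map (red W hW)) := by
      have : IsClosedImmersion (W.2.isoSpec.inv ≫ W.2.isoSpec.hom ≫ Spec.map (red W hW)) := inferInstance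
      rwa [Iso.inv_hom_id_assoc] at this
    have h := (Spec.map (red W hW)).app_surjective ⊤ (isAffineOpen_top _)
    have e : red W hW = (Scheme.ΓSpecIso _).inv ≫ (Spec.map (red W hW)).app ⊤ ≫ (Scheme.ΓSpecIso _).hom := by
      rw [Iso.eq_inv_comp]
      exact (Scheme.ΓSpecIso_naturality (red W hW)).symm
    rw [e]
    exact ((ConcreteCategory.bijective_of_isIso (Scheme.ΓSpecIso _).hom).2.comp h).comp
      (ConcreteCategory.bijective_of_isIso (Scheme.ΓSpecIso _).inv).2
  refine ⟨{ base := base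
            base_le := hbase
            A := fun W _ => Γ(V, opn W.1)
            res := fun {W W'} hW h => V.presheaf.map (homOfLE (hmono h)).op
            res_self := fun W hW => V.presheaf.map_id _
            res_trans := fun {W W' W''} hW h h' => (V.presheaf.map_comp _ _).symm
            red := red
            red_surjective := hsurj
            red_nil := fun W hW x hx => ?_
            res_red := fun {W W'} hW h => ?_
            isOpenImmersion := fun {W W'} hW h => ?_
            toS := fun W hW => (haff W hW).fromSpec ≫ g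
            toS_res := fun {W W'} hW h => ?_
            smooth := fun W hW => inferInstance
            cart := hcart }, fun W hW => (haff W hW).fromSpec, fun W hW => rfl, hemb,
          fun {W W'} hW h => (haff W hW).map_fromSpec (haff W' (h.trans hW)) _⟩
  · haveI : Surjective (W.2.isoSpec.hom ≫ Spec.map (red W hW)) :=
      MorphismProperty.of_isPullback (hcart W hW).flip inferInstance
    refine nilpotent_iff_mem_prime.2 fun p hp => ?_
    obtain ⟨z, hz⟩ := (W.2.isoSpec.hom ≫ Spec.map (red W hW)).surjective (⟨p, hp⟩ : Spec Γ(V, opn W.1))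
    rw [Scheme.Hom.comp_apply] at hz
    have hp' : p = ((W.2.isoSpec.hom z).asIdeal).comap (red W hW).hom := congrArg PrimeSpectrum.asIdeal hz.symm
    rw [hp', Ideal.mem_comap, hx]
    exact zero_mem _
  · refine Spec.map_injective ?_
    rw [← cancel_epi W'.2.isoSpec.hom, ← cancel_mono (haff W (hW)).fromSpec,
      Spec.map_comp (V.presheaf.map (homOfLE (hmono h)).op) (red W' (h.trans hW)),
      Spec.map_comp (red W hW) (X₀.presheaf.map (homOfLE h).op)]
    simp only [Category.assoc]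
    rw [(haff W hW).map_fromSpec (haff W' (h.trans hW))]
    refine Eq.trans ((Category.assoc _ _ _).symm.trans (hemb W' (h.trans hW))) ?_
    have e2 : W'.2.isoSpec.hom ≫ Spec.map (X₀.presheaf.map (homOfLE h).op) = X₀.homOfLE h ≫ W.2.isoSpec.hom := by
      rw [← cancel_mono W.2.fromSpec, Category.assoc, Category.assoc, W.2.map_fromSpec W'.2,
        IsAffineOpen.isoSpec_hom, IsAffineOpen.isoSpec_hom, IsAffineOpen.toSpecΓ_fromSpec,
        IsAffineOpen.toSpecΓ_fromSpec, Scheme.homOfLE_ι]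
    rw [reassoc_of% e2]
    have e3 := hemb W hW
    rw [Category.assoc] at e3
    rw [e3]
    simp [kW]
  · haveI : IsOpenImmersion (Spec.map (V.presheaf.map (homOfLE (hmono h)).op) ≫ (haff W hW).fromSpec) := by
      rw [(haff W hW).map_fromSpec (haff W' (h.trans hW))]; infer_instance
    exact IsOpenImmersion.of_comp _ (haff W hW).fromSpec
  · rw [← Category.assoc, (haff W hW).map_fromSpec (haff W' (h.trans hW))]

include hι hc in
/-- A smooth deformation of an open gives thickenings of its affine opens. -/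
theorem exists_piece [Smooth g] (base : S.affineOpens) (hbase : O ≤ (f₀ ≫ ι) ⁻¹ᵁ base.1) :
    Nonempty (Piece ι f₀ O) := by
  obtain ⟨P, -⟩ := exists_piece_maps hι g k hc base hbase
  exact ⟨P⟩

end

end Groth.Agent.DefLift
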