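import Groth.Agent.DefLift.Extend2
import Groth.Agent.ThickProp.Deform
import Groth.Agent.ThickLib.Basic
import Groth.Agent.ExtFund.CanonRows
import Groth.Agent.Conormal.BaseChange
import Mathlib

/-!
# Deformations of smooth morphisms over square-zero thickenings
-/

set_option autoImplicit false
set_option linter.style.haveILetI false
set_option backward.isDefEq.respectTransparency false
universe u

open CategoryTheory CategoryTheory.Limits AlgebraicGeometry Opposite TopologicalSpace Abelian

noncomputable section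

namespace Groth.Agent.DefLift

variable {S X₀ X : Scheme.{u}} {I : S.IdealSheafData} {f₀ : X₀ ⟶ I.subscheme} {f : X ⟶ S} {j : X₀ ⟶ X}

theorem isNilpotent_ker_subschemeι (hI : I ^ 2 = ⊥) : IsNilpotent I.subschemeι.ker :=
  ⟨2, by rw [I.ker_subschemeι, hI]; rfl⟩

theorem surjective_subschemeι (hI : I ^ 2 = ⊥) : Surjective I.subschemeι :=
  ⟨surjective_of_sqZero (isSqZero_subschemeι I hI)⟩

variable (hc : IsPullback j f₀ f I.subschemeι)

include hc

theorem isClosedImmersion_deform : IsClosedImmersion j :=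
  MorphismProperty.of_isPullback hc.flip (inferInstance : IsClosedImmersion I.subschemeι)

theorem isSqZero_deform (hI : I ^ 2 = ⊥) : IsSqZero j := by
  haveI := isClosedImmersion_deform hc
  intro V x y hx hy
  refine X.sheaf.eq_of_locally_eq' (fun p : {p : S.affineOpens × X.affineOpens // p.2.1 ≤ f ⁻¹ᵁ p.1.1 ∧ p.2.1 ≤ V.1} =>
    p.1.2.1) V.1 (fun p => homOfLE p.2.2) ?_ _ _ fun p => ?_
  · intro z hz
    obtain ⟨W, hW, -⟩ := KosExt.exists_affine_le (O := (⊤ : S.Opens)) (x := f z) trivial
    obtain ⟨V', hV', hle⟩ := KosExt.exists_affine_le (O := f ⁻¹ᵁ W.1 ⊓ V.1) (x := z) ⟨hW, hz⟩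
    exact Opens.mem_iSup.2 ⟨⟨(W, V'), hle.trans inf_le_left, hle.trans inf_le_right⟩, hV'⟩
  · obtain ⟨⟨W, V'⟩, hle, hle'⟩ := p
    rw [map_zero]
    refine (map_mul (X.presheaf.map (homOfLE hle').op).hom x y).trans ?_
    have hker : ∀ r : Γ(X, V.1), r ∈ RingHom.ker (j.app V.1).hom →
        X.presheaf.map (homOfLE hle').op r ∈ RingHom.ker (j.app V'.1).hom := fun r hr =>
      app_res_eq_zero (i := j) hle' hr
    have e := (KoszulLib.ker_app_of_isPullback hc.flip W inferInstance V' hle).2
    have hx' := hker x hx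
    have hy' := hker y hy
    rw [e] at hx' hy'
    have hmul := Ideal.mul_mem_mul hx' hy'
    rw [← Ideal.map_mul] at hmul
    have h0 : RingHom.ker (I.subschemeι.app W.1).hom * RingHom.ker (I.subschemeι.app W.1).hom = ⊥ := by
      rw [eq_bot_iff, Ideal.mul_le]
      exact fun r hr s hs => Ideal.mem_bot.2 (isSqZero_subschemeι I hI W r s hr hs)
    rw [h0, Ideal.map_bot] at hmul
    exact Ideal.mem_bot.1 hmul

theorem smooth_deform (hI : I ^ 2 = ⊥) [Flat f] [Smooth f₀] : Smooth f := by
  haveI : Flat (f ≫ 𝟙 S) := by rwa [Category.comp_id]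
  exact ThickProp.smooth_of_deform (iX := j) (iY := I.subschemeι) (iS := I.subschemeι) (f := f₀) (f' := f)
    (g := 𝟙 I.subscheme) (g' := 𝟙 S) (by rwa [Category.comp_id, Category.comp_id]) (IsPullback.id_vert I.subschemeι) hc.w
    (isNilpotent_ker_subschemeι hI)

theorem quasiSeparated_deform (hI : I ^ 2 = ⊥) [QuasiSeparated f₀] : QuasiSeparated f := by
  haveI := isClosedImmersion_deform hc
  haveI : Surjective j := MorphismProperty.of_isPullback hc.flip (surjective_subschemeι hI)
  haveI : QuasiSeparated (j ≫ f) := by rw [hc.w]; infer_instance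
  exact ThickLib.quasiSeparated_of_comp j f

theorem nonempty_conormal_iso [Flat f] :
    Nonempty ((Scheme.Modules.pullback f₀).obj ((Scheme.Modules.pullback I.subschemeι).obj (ClSub.idealMod I)) ≅
      Omega.conormal j) := by
  haveI := isClosedImmersion_deform hc
  obtain ⟨φ, hφ, -⟩ := Conormal.existsUnique_conormalMap j I.subschemeι f f₀ hc.w.symm
  haveI := (Conormal.epi_isIso_of_isPullback hc hφ).2 inferInstance
  refine ⟨eqToIso ?_ ≪≫ asIso φ⟩
  rw [Omega.conormal, I.ker_subschemeι]

end Groth.Agent.DefLift
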