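import Groth.Agent.CycPB.FiltPull
import Groth.Agent.GrothSS.ChangeRings
import Groth.Agent.SerrePn.SheafHomExt
import Groth.Agent.SiteCoh.Basic
import Mathlib

/-!
# First extensions of a locally free module by a module on a closed subscheme
-/

set_option autoImplicit false
set_option linter.style.haveILetI false
set_option backward.isDefEq.respectTransparency false
set_option backward.isDefEq.respectTransparency.types false
universe u

open CategoryTheory CategoryTheory.Limits AlgebraicGeometry Opposite TopologicalSpace Abelian
open Groth.Agent.K0Dev (St)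

noncomputable section

namespace Groth.Agent.DefLift

variable {X Y : Scheme.{u}}

/-- Inverse images preserve short exact sequences with finite locally free quotient. -/
theorem shortExact_pullback (f : X ⟶ Y) {S : ShortComplex Y.Modules} (hS : S.ShortExact)
    (h : FlatMod.IsFinLocFree S.X₃) (hq : Coh.IsQCoh S.X₃) :
    (S.map (Scheme.Modules.pullback f)).ShortExact := by
  refine CycK0.shortExact_of_stalks _ fun y => ?_
  have hx : (S.map (St (f y))).ShortExact := hS.map_of_exact (St (f y))
  obtain ⟨W, n, hW, ⟨e⟩⟩ := h (f y)
  obtain ⟨b⟩ := LocFree.exists_basis_stalk e hq hW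
  haveI : Module.Projective (Y.presheaf.stalk (f y)) (S.X₃.presheaf.stalk (f y)) := Module.Projective.of_basis b
  haveI : Projective (S.map (St (f y))).X₃ :=
    (IsProjective.iff_projective (R := Y.presheaf.stalk (f y)) (S.X₃.presheaf.stalk (f y))).1 inferInstance
  haveI := hx.mono_f
  haveI := hx.epi_g
  let s : (S.map (St (f y))).Splitting :=
    ShortComplex.Splitting.ofExactOfSection _ hx.exact (Projective.factorThru (𝟙 _) (S.map (St (f y))).g)
      (Projective.factorThru_comp _ _) inferInstance
  let G := ModuleCat.extendScalars.{u, u, u} (f.stalkMap y).hom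
  haveI : G.Additive := Functor.additive_of_preserves_binary_products G
  exact ShortComplex.shortExact_of_iso (S.mapNatIso (KFlat.pullStalkIso f y)).symm (s.map G).shortExact

/-- Locally free modules have no extensions by a module on a closed subscheme when their restrictions have none. -/
theorem ext_one_push (i : X ⟶ Y) [IsClosedImmersion i] [HasExt.{u} X.Modules] [HasExt.{u} Y.Modules] {F : Y.Modules}
    (hF : FlatMod.IsFinLocFree F) (hq : Coh.IsQCoh F) (G : X.Modules)
    (h : Subsingleton (Ext ((Scheme.Modules.pullback i).obj F) G 1)) :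
    Subsingleton (Ext F ((Scheme.Modules.pushforward i).obj G) 1) := by
  haveI := SerrePn.enoughInjectives (X := Y)
  let N := (Scheme.Modules.pushforward i).obj G
  let adj := Scheme.Modules.pullbackPushforwardAdjunction i
  haveI : IsIso adj.counit := GrothSS.isIso_counit_push i
  haveI : IsIso (adj.counit.app G) := inferInstance
  have hS := SiteCoh.embedSeq_shortExact N
  refine SiteCoh.subsingleton_ext_one_of_lift hS F fun φ => ?_
  let S := SiteCoh.embedSeq N
  haveI := hS.mono_f
  haveI := hS.epi_g
  let fT : N ⟶ pullback S.g φ := pullback.lift S.f 0 (by rw [zero_comp]; exact S.zero)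
  let T : ShortComplex Y.Modules := ShortComplex.mk fT (pullback.snd S.g φ) (pullback.lift_snd _ _ _)
  haveI : Mono fT := mono_of_mono_fac (h := S.f) (pullback.lift_fst _ _ _)
  haveI : Epi (pullback.snd S.g φ) := inferInstance
  have hT : T.ShortExact :=
    { exact := by
        refine ShortComplex.exact_of_f_is_kernel _ (KernelFork.IsLimit.ofι' _ _ fun {A} g hg => ?_)
        have h0 : (g ≫ pullback.fst S.g φ) ≫ S.g = 0 := by
          rw [Category.assoc, pullback.condition, reassoc_of% hg, zero_comp]
        let l := KernelFork.IsLimit.lift' hS.exact.fIsKernel (g ≫ pullback.fst S.g φ) h0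
        refine ⟨l.1, pullback.hom_ext ?_ ?_⟩
        · rw [Category.assoc, pullback.lift_fst]
          exact l.2
        · rw [Category.assoc, pullback.lift_snd, comp_zero]
          exact hg.symm
      mono_f := inferInstanceAs (Mono fT)
      epi_g := inferInstanceAs (Epi (pullback.snd S.g φ)) }
  haveI := (Scheme.Modules.pullback i).additive_of_preserves_binary_products
  let P := Scheme.Modules.pullback i
  have hT' : (T.map P).ShortExact := shortExact_pullback i hT hF hq
  haveI : Subsingleton (Ext (P.obj F) (T.map P).X₁ 1) := by
    let e := asIso (adj.counit.app G)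
    exact @Equiv.subsingleton _ _ ((extFunctorObj (P.obj F) 1).mapIso e).addCommGroupIsoToAddEquiv.toEquiv h
  obtain ⟨ψ, hψ⟩ := SiteCoh.exists_lift_of_subsingleton_ext_one hT' (P.obj F) (𝟙 (P.obj F))
  haveI := hT'.mono_f
  let sp : (T.map P).Splitting := ShortComplex.Splitting.ofExactOfSection _ hT'.exact ψ hψ hT'.mono_f
  let r : T.X₂ ⟶ N := adj.homEquiv _ _ (sp.r ≫ adj.counit.app G)
  have hr : fT ≫ r = 𝟙 N := by
    refine (adj.homEquiv_naturality_left fT (sp.r ≫ adj.counit.app G)).symm.trans ?_
    rw [← Category.assoc, show P.map fT ≫ sp.r = 𝟙 _ from sp.f_r, Category.id_comp, Adjunction.homEquiv_unit]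
    exact adj.right_triangle_components G
  haveI := hT.mono_f
  haveI := hT.epi_g
  let spT : T.Splitting := ShortComplex.Splitting.ofExactOfRetraction _ hT.exact r hr hT.epi_g
  refine ⟨spT.s ≫ pullback.fst S.g φ, ?_⟩
  rw [Category.assoc, pullback.condition, ← Category.assoc, show spT.s ≫ pullback.snd S.g φ = 𝟙 _ from spT.s_g,
    Category.id_comp]

end Groth.Agent.DefLift
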