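import Groth.Agent.DefLift.FibreLifting
import Groth.Agent.DefLift.ExtPush
import Groth.Agent.DefLift.Deform
import Mathlib

/-!
# Deformations of a smooth scheme without first order deformations are trivial
-/

set_option autoImplicit false
set_option linter.style.haveILetI false
set_option backward.isDefEq.respectTransparency false
universe u

open CategoryTheory CategoryTheory.Limits AlgebraicGeometry Opposite TopologicalSpace Abelian CategoryTheory.Abelian.Ext

noncomputable section

namespace Groth.Agent.DefLift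

open Groth.Agent.QC

section General

variable {S S₀ X₀ X : Scheme.{u}} {ι : S₀ ⟶ S} [IsClosedImmersion ι] {f₀ : X₀ ⟶ S₀} {f : X ⟶ S} {j : X₀ ⟶ X}
  (hc : IsPullback j f₀ f ι)

include hc

theorem isSqZero_of_isPullback [IsClosedImmersion j] (hι : IsSqZero ι) : IsSqZero j := by
  intro V a b ha hb
  refine X.sheaf.eq_of_locally_eq' (fun p : {p : S.affineOpens × X.affineOpens // p.2.1 ≤ f ⁻¹ᵁ p.1.1 ∧ p.2.1 ≤ V.1} =>
    p.1.2.1) V.1 (fun p => homOfLE p.2.2) ?_ _ _ fun p => ?_
  · intro z hz
    obtain ⟨W, hW, -⟩ := KosExt.exists_affine_le (O := (⊤ : S.Opens)) (x := f z) trivial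
    obtain ⟨V', hV', hle⟩ := KosExt.exists_affine_le (O := f ⁻¹ᵁ W.1 ⊓ V.1) (x := z) ⟨hW, hz⟩
    exact Opens.mem_iSup.2 ⟨⟨(W, V'), hle.trans inf_le_left, hle.trans inf_le_right⟩, hV'⟩
  · obtain ⟨⟨W, V'⟩, hle, hle'⟩ := p
    rw [map_zero]
    refine (map_mul (X.presheaf.map (homOfLE hle').op).hom a b).trans ?_
    have hker : ∀ r : Γ(X, V.1), r ∈ RingHom.ker (j.app V.1).hom →
        X.presheaf.map (homOfLE hle').op r ∈ RingHom.ker (j.app V'.1).hom := fun r hr =>
      app_res_eq_zero (i := j) hle' hr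
    have e := (KoszulLib.ker_app_of_isPullback hc.flip W inferInstance V' hle).2
    have hx' := hker a ha
    have hy' := hker b hb
    rw [e] at hx' hy'
    have hmul := Ideal.mul_mem_mul hx' hy'
    rw [← Ideal.map_mul] at hmul
    have h0 : RingHom.ker (ι.app W.1).hom * RingHom.ker (ι.app W.1).hom = ⊥ := by
      rw [eq_bot_iff, Ideal.mul_le]
      exact fun r hr s hs => Ideal.mem_bot.2 (hι W r s hr hs)
    rw [h0, Ideal.map_bot] at hmul
    exact Ideal.mem_bot.1 hmul

theorem nonempty_coeff_iso_conormal [IsClosedImmersion j] [Flat f] : Nonempty (coeff ι f₀ ≅ Omega.conormal j) := by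
  obtain ⟨φ, hφ, -⟩ := Conormal.existsUnique_conormalMap j ι f f₀ hc.w.symm
  haveI := (Conormal.epi_isIso_of_isPullback hc hφ).2 inferInstance
  exact ⟨asIso φ⟩

end General

variable {k : Type u} [Field k] {X : Scheme.{u}} (x : X ⟶ Spec (CommRingCat.of k)) [Smooth x] [IsSeparated x]
  [HasExt.{u} X.Modules] (h1 : Subsingleton (Ext (Omega.sheaf x) (Coh.structureModule X) 1))

/-- The scalars of a `k`-algebra as a map of spectra. -/
abbrev specBase (k : Type u) [Field k] (A : Type u) [CommRing A] [Algebra k A] :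
    Spec (CommRingCat.of A) ⟶ Spec (CommRingCat.of k) :=
  Spec.map (CommRingCat.ofHom (algebraMap k A))

include h1 in
/-- A deformation of a scheme without first order deformations retracts onto it. -/
theorem exists_retraction (n : ℕ) : ∀ (A : Type u) [CommRing A] [Algebra k A] [IsNoetherianRing A] (e : A →ₐ[k] k)
    (_ : RingHom.ker e.toRingHom ^ (n + 1) = ⊥) (Y : Scheme.{u}) (f : Y ⟶ Spec (CommRingCat.of A)) (i : X ⟶ Y),
    Flat f → IsPullback i x f (Spec.map (CommRingCat.ofHom e.toRingHom)) →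
      ∃ h : Y ⟶ X, i ≫ h = 𝟙 X ∧ h ≫ x = f ≫ specBase k A := by
  have hsec : ∀ {A : Type u} [CommRing A] [Algebra k A] (e : A →ₐ[k] k),
      Spec.map (CommRingCat.ofHom e.toRingHom) ≫ specBase k A = 𝟙 _ := fun {A} _ _ e => by
    rw [specBase, ← Spec.map_comp, ← CommRingCat.ofHom_comp,
      show e.toRingHom.comp (algebraMap k A) = RingHom.id k from RingHom.ext fun c => (e.commutes c).trans (by simp),
      CommRingCat.ofHom_id, Spec.map_id]
  induction n with
  | zero =>
    intro A _ _ _ e he Y f i _ hc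
    rw [zero_add, pow_one] at he
    have hsurj : Function.Surjective e.toRingHom := fun c => ⟨algebraMap k A c, (e.commutes c).trans (by simp)⟩
    haveI : IsIso (CommRingCat.ofHom e.toRingHom) := (ConcreteCategory.isIso_iff_bijective _).2
      ⟨(RingHom.injective_iff_ker_eq_bot e.toRingHom).2 he, hsurj⟩
    haveI : IsIso (Spec.map (CommRingCat.ofHom e.toRingHom)) := inferInstance
    haveI : IsIso i := (MorphismProperty.isomorphisms Scheme).of_isPullback hc.flip
      (show IsIso (Spec.map (CommRingCat.ofHom e.toRingHom)) from inferInstance)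
    refine ⟨inv i, by simp, ?_⟩
    rw [IsIso.inv_comp_eq, ← Category.assoc, hc.w, Category.assoc, hsec, Category.comp_id]
  | succ n ih =>
    intro A _ _ _ e he Y f i hf hc
    let J : Ideal A := RingHom.ker e.toRingHom ^ (n + 1)
    let e₀ : (A ⧸ J) →ₐ[k] k := Ideal.Quotient.liftₐ J e fun a ha =>
      (Ideal.pow_le_self (Nat.succ_ne_zero n) ha : a ∈ RingHom.ker e.toRingHom)
    let π := Ideal.Quotient.mk J
    have heπ : e₀.toRingHom.comp π = e.toRingHom := RingHom.ext fun a => Ideal.Quotient.lift_mk J e.toRingHom (fun b hb => (Ideal.pow_le_self (Nat.succ_ne_zero n) hb : b ∈ RingHom.ker e.toRingHom))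
    have hesurj : Function.Surjective e₀.toRingHom := fun c =>
      ⟨algebraMap k _ c, (e₀.commutes c).trans (by simp)⟩
    have he₀ : RingHom.ker e₀.toRingHom ^ (n + 1) = ⊥ := by
      rw [← Ideal.map_comap_of_surjective π Ideal.Quotient.mk_surjective (RingHom.ker e₀.toRingHom),
        RingHom.comap_ker, heπ, ← Ideal.map_pow, Ideal.map_quotient_self]
    have hkill : ∀ a, e₀.toRingHom (π a) = 0 → ∀ r ∈ RingHom.ker π, a * r = 0 := fun a ha r hr => by
      rw [Ideal.mk_ker] at hr
      have ha' : a ∈ RingHom.ker e.toRingHom := by rw [← heπ]; exact ha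
      have : a * r ∈ RingHom.ker e.toRingHom ^ (n + 1 + 1) := by
        rw [pow_succ']; exact Ideal.mul_mem_mul ha' hr
      rw [he] at this
      exact this
    let ι := Spec.map (CommRingCat.ofHom π)
    haveI : IsClosedImmersion ι := IsClosedImmersion.spec_of_surjective _ Ideal.Quotient.mk_surjective
    have hι : IsSqZero ι := isSqZero_small π Ideal.Quotient.mk_surjective e₀.toRingHom hesurj ⟨n + 1, he₀⟩ hkill
    let Y₀ := pullback f ι
    have hP : IsPullback (pullback.fst f ι) (pullback.snd f ι) f ι := IsPullback.of_hasPullback f ι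
    have hspec : Spec.map (CommRingCat.ofHom e₀.toRingHom) ≫ ι = Spec.map (CommRingCat.ofHom e.toRingHom) := by
      rw [← Spec.map_comp, ← CommRingCat.ofHom_comp, heπ]
    let i₀ : X ⟶ Y₀ := pullback.lift i (x ≫ Spec.map (CommRingCat.ofHom e₀.toRingHom))
      (by rw [Category.assoc, hspec, hc.w])
    have hc₀ : IsPullback i₀ x (pullback.snd f ι) (Spec.map (CommRingCat.ofHom e₀.toRingHom)) := by
      refine IsPullback.of_right (h₁₂ := pullback.fst f ι) (v₁₃ := f) (h₂₂ := ι) ?_ (pullback.lift_snd _ _ _) hP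
      rw [pullback.lift_fst, hspec]
      exact hc
    haveI := hf
    haveI : Flat (pullback.snd f ι) := inferInstance
    obtain ⟨h₀, hi₀, hh₀⟩ := ih (A ⧸ J) e₀ he₀ Y₀ (pullback.snd f ι) i₀ inferInstance hc₀
    haveI : IsClosedImmersion (pullback.fst f ι) := inferInstance
    have hsq := isSqZero_of_isPullback hP hι
    have hsqr : h₀ ≫ x = pullback.fst f ι ≫ f ≫ specBase k A := by
      rw [hh₀, ← Category.assoc, pullback.condition, Category.assoc]
      congr 1
      change Spec.map _ = Spec.map (CommRingCat.ofHom π) ≫ Spec.map _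
      rw [← Spec.map_comp, ← CommRingCat.ofHom_comp]
      rfl
    obtain ⟨U, b, hU, hb₁, hb₂⟩ := exists_local_lifts hsq x (f ≫ specBase k A) h₀ hsqr
    haveI := SerrePn.enoughInjectives (X := Y₀)
    haveI : HasExt.{u} Y₀.Modules := hasExt_of_enoughInjectives _
    haveI : IsClosedImmersion i₀ := MorphismProperty.of_isPullback hc₀.flip
      (IsClosedImmersion.spec_of_surjective _ hesurj)
    obtain ⟨G, η, -, hG⟩ := exists_fibre_coeff π Ideal.Quotient.mk_surjective e₀.toRingHom hesurj ⟨n + 1, he₀⟩ hkill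
      (IsNoetherian.noetherian _) (pullback.snd f ι) i₀ x hc₀
    obtain ⟨γ⟩ := nonempty_coeff_iso_conormal hP
    have hΩ : FlatMod.IsFinLocFree ((Scheme.Modules.pullback h₀).obj (Omega.sheaf x)) :=
      DerPerf.isFinLocFree_pullback _ (AVOmega.isFinLocFree_omega x)
    let ω : (Scheme.Modules.pullback i₀).obj ((Scheme.Modules.pullback h₀).obj (Omega.sheaf x)) ≅ Omega.sheaf x :=
      (Scheme.Modules.pullbackComp i₀ h₀).app _ ≪≫
        (Scheme.Modules.pullbackCongr hi₀).app _ ≪≫ (Scheme.Modules.pullbackId X).app _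
    have hpush := ext_one_push i₀ hΩ (LocFree.isQCoh_of_isFinLocFree hΩ) G
      (@Equiv.subsingleton _ _ ((((extFunctor 1).mapIso ω.op).app G).addCommGroupIsoToAddEquiv.symm).toEquiv
        (hG (Omega.sheaf x) 1 h1))
    obtain ⟨h, hh, hh'⟩ := exists_extension hsq x (f ≫ specBase k A) h₀ U b hb₁ hb₂ hsqr hU
      (@Equiv.subsingleton _ _ ((extFunctorObj _ 1).mapIso (γ.symm ≪≫ η)).addCommGroupIsoToAddEquiv.toEquiv hpush)
    refine ⟨h, ?_, hh⟩
    rw [← pullback.lift_fst i (x ≫ Spec.map (CommRingCat.ofHom e₀.toRingHom)) (by rw [Category.assoc, hspec, hc.w]),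
      Category.assoc, hh', hi₀]

include h1 in
/-- A scheme without first order deformations has only trivial deformations. -/
theorem exists_trivialisation (A : Type u) [CommRing A] [Algebra k A] [IsNoetherianRing A] (e : A →ₐ[k] k)
    (hn : IsNilpotent (RingHom.ker e.toRingHom)) (Y : Scheme.{u}) (f : Y ⟶ Spec (CommRingCat.of A)) (i : X ⟶ Y)
    [Flat f] (hc : IsPullback i x f (Spec.map (CommRingCat.ofHom e.toRingHom))) :
    ∃ φ : Y ≅ pullback x (specBase k A), φ.hom ≫ pullback.snd _ _ = f ∧ i ≫ φ.hom ≫ pullback.fst _ _ = 𝟙 X := by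
  obtain ⟨n, hn'⟩ := hn
  obtain ⟨h, hi, hh⟩ := exists_retraction x h1 n A e (by rw [pow_succ, hn']; exact zero_mul _) Y f i inferInstance hc
  let s := Spec.map (CommRingCat.ofHom e.toRingHom)
  have hs : s ≫ specBase k A = 𝟙 _ := by
    rw [specBase, ← Spec.map_comp, ← CommRingCat.ofHom_comp,
      show e.toRingHom.comp (algebraMap k A) = RingHom.id k from RingHom.ext fun c => (e.commutes c).trans (by simp),
      CommRingCat.ofHom_id, Spec.map_id]
  let φ : Y ⟶ pullback x (specBase k A) := pullback.lift h f hh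
  let j : X ⟶ pullback x (specBase k A) :=
    pullback.lift (𝟙 X) (x ≫ s) (by rw [Category.assoc, hs, Category.comp_id, Category.id_comp])
  have hj : IsPullback j x (pullback.snd x (specBase k A)) s := by
    refine IsPullback.of_right (h₁₂ := pullback.fst x (specBase k A)) (v₁₃ := x) (h₂₂ := specBase k A) ?_
      (pullback.lift_snd _ _ _) (IsPullback.of_hasPullback _ _)
    rw [pullback.lift_fst, hs]
    exact IsPullback.id_horiz x
  have hsurj : Function.Surjective e.toRingHom := fun c => ⟨algebraMap k A c, (e.commutes c).trans (by simp)⟩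
  haveI : IsClosedImmersion s := IsClosedImmersion.spec_of_surjective _ hsurj
  haveI : Surjective s := ⟨surjective_specMap_nilpotent e.toRingHom hsurj ⟨n, hn'⟩⟩
  have w : i ≫ φ = 𝟙 X ≫ j := by
    rw [Category.id_comp]
    refine pullback.hom_ext ?_ ?_
    · rw [Category.assoc, pullback.lift_fst, pullback.lift_fst, hi]
    · rw [Category.assoc, pullback.lift_snd, pullback.lift_snd, hc.w]
  haveI : Flat (φ ≫ pullback.snd x (specBase k A)) := by rw [pullback.lift_snd]; infer_instance
  haveI : IsIso φ := ThickProp.isIso_of_deform (iX := i) (iY := j) (iS := s) (f := 𝟙 X) (f' := φ) (g := x)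
    (g' := pullback.snd x (specBase k A)) (by rwa [Category.id_comp, pullback.lift_snd]) hj w
    (isNilpotent_ker_specMap _ hsurj ⟨n, hn'⟩)
  refine ⟨asIso φ, pullback.lift_snd _ _ _, ?_⟩
  rw [asIso_hom, pullback.lift_fst, hi]

end Groth.Agent.DefLift
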