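import Groth.Agent.DefLift.Twist
import Groth.Agent.DefLift.RigidTriv
import Groth.Agent.DefLift.CechConverse
import Groth.Agent.DefLift.PieceOf
import Mathlib

/-!
# Rigidity over the dual numbers kills first order deformations
-/

set_option autoImplicit false
set_option linter.style.haveILetI false
set_option backward.isDefEq.respectTransparency false
universe u

open CategoryTheory CategoryTheory.Limits AlgebraicGeometry Opposite TopologicalSpace Abelian

noncomputable section

namespace Groth.Agent.DefLift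

open Groth.Agent.QC

variable (k : Type u) [Field k]

/-- The closed point of the dual numbers. -/
abbrev dualPoint : Spec (CommRingCat.of k) ⟶ Spec (CommRingCat.of (DualNumber k)) :=
  Spec.map (CommRingCat.ofHom (TrivSqZeroExt.fstHom k k k).toRingHom)

theorem fst_surjective_dual : Function.Surjective (TrivSqZeroExt.fstHom k k k).toRingHom :=
  fun c => ⟨TrivSqZeroExt.inl c, rfl⟩

instance : IsClosedImmersion (dualPoint k) :=
  IsClosedImmersion.spec_of_surjective _ (fst_surjective_dual k)

theorem isSqZero_dualPoint : IsSqZero (dualPoint k) :=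
  isSqZero_small _ (fst_surjective_dual k) (RingHom.id k) Function.surjective_id
    ⟨1, by rw [pow_one]; exact (RingHom.injective_iff_ker_eq_bot _).1 Function.injective_id⟩
    fun a ha r hr => by
      have ha' : a.fst = 0 := ha
      have hr' : r.fst = 0 := hr
      refine TrivSqZeroExt.ext ?_ ?_
      · simp [ha', hr']
      · simp [ha', hr']

variable {k} {X : Scheme.{u}} (x : X ⟶ Spec (CommRingCat.of k))

theorem nonempty_coeff_iso_structure : Nonempty (coeff (dualPoint k) x ≅ Coh.structureModule X) := by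
  let ι := dualPoint k
  let C := Omega.conormal ι
  haveI : Coh.IsQCoh C := Conormal.isQCoh_conormal ι
  haveI : C.IsQuasicoherent := inferInstance
  let W : ModuleCat.{u} k := (modulesSpecToSheaf.obj C).presheaf.obj (op ⊤)
  let ΓA := Scheme.ΓSpecIso (CommRingCat.of (DualNumber k))
  let ΓK := Scheme.ΓSpecIso (CommRingCat.of k)
  have happ : ∀ a : DualNumber k, ι.app ⊤ (ΓA.inv a) = ΓK.inv a.fst := fun a =>
    (congr($(Scheme.ΓSpecIso_inv_naturality (CommRingCat.ofHom (TrivSqZeroExt.fstHom k k k).toRingHom)) a)).symm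
  have hinjK : Function.Injective ΓK.inv := (ConcreteCategory.bijective_of_isIso _).1
  have hbijA : Function.Bijective ΓA.inv := ConcreteCategory.bijective_of_isIso _
  obtain ⟨g, hg⟩ := Conormal.exists_idealSect ι ⊤ (ΓA.inv DualNumber.eps)
    ((happ _).trans ((congrArg ΓK.inv DualNumber.fst_eps).trans (map_zero _)))
  have hchart : Conormal.IsChart ι ⊤ := ⟨isAffineOpen_top _, inferInstance⟩
  let w : W := OmegaSh.conormalSect ι ⊤ g
  have hw : OmegaSh.conormalSect ι ⊤ g ≠ 0 := fun h0 => by
    have h1 := (Conormal.conormalSect_eq_zero_iff ι hchart g).1 h0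
    rw [hg] at h1
    have h2 : RingHom.ker (ι.app ⊤).hom ^ 2 = ⊥ := by
      rw [pow_two, eq_bot_iff, Ideal.mul_le]
      exact fun r hr s hs => Ideal.mem_bot.2 (isSqZero_dualPoint k ⟨⊤, isAffineOpen_top _⟩ r s hr hs)
    rw [h2, Ideal.mem_bot] at h1
    have h3 : (DualNumber.eps : DualNumber k) = 0 := hbijA.1 (h1.trans (map_zero _).symm)
    exact one_ne_zero (α := k) (congrArg TrivSqZeroExt.snd h3)
  let ψ : ModuleCat.of k k ⟶ W := @ModuleCat.ofHom k _ k W _ _ W.isAddCommGroup W.isModule (@LinearMap.toSpanSingleton k W _ W.isAddCommGroup.toAddCommMonoid W.isModule w)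
  have hψ : Function.Bijective ψ := by
    refine ⟨?_, fun v => ?_⟩
    · refine (injective_iff_map_eq_zero _).2 fun c hc => ?_
      by_contra h
      apply hw
      have h2 : (show k from c)⁻¹ • ψ c = 0 := by rw [hc, smul_zero]
      rw [← map_smul ψ.hom, smul_eq_mul, inv_mul_cancel₀ h] at h2
      exact (@one_smul k W _ W.isModule.toMulAction w).symm.trans h2
    · obtain ⟨t, rfl⟩ := Conormal.conormalSect_surjective ι hchart v
      obtain ⟨r, hr⟩ := hbijA.2 (OmegaSh.idealSect ι.ker ⊤ t)
      have hr0 : r.fst = 0 := hinjK (by rw [← happ, hr, Conormal.app_idealSect, map_zero])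
      have hre : r = TrivSqZeroExt.inl r.snd * DualNumber.eps := by
        refine TrivSqZeroExt.ext ?_ ?_ <;> simp [hr0]
      have ht : t = ΓA.inv (TrivSqZeroExt.inl r.snd) • g := Conormal.idealSect_injective _ _ (by
        rw [Conormal.idealSect_smul, hg, ← map_mul, ← hre, hr])
      refine ⟨r.snd, ?_⟩
      rw [ht, Conormal.conormalSect_smul, happ, TrivSqZeroExt.fst_inl]
      rfl
  haveI : IsIso ψ := (ConcreteCategory.isIso_iff_bijective ψ).2 hψ
  let eC : (tilde.functor (CommRingCat.of k)).obj W ≅ C :=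
    @asIso _ _ _ _ (Scheme.Modules.fromTildeΓ (R := CommRingCat.of k) C)
      (Scheme.Modules.isIso_fromTildeΓ_of_isQuasicoherent (R := CommRingCat.of k) C)
  exact ⟨(Scheme.Modules.pullback x).mapIso (eC.symm ≪≫ (tilde.functor (CommRingCat.of k)).mapIso (asIso ψ).symm ≪≫
    tildeSelf (R := CommRingCat.of k)) ≪≫ PicLoc.pullbackStructureIso x⟩

/-- If deformations over the dual numbers retract, first order deformations vanish. -/
theorem subsingleton_ext_of_rigid [Smooth x] [IsSeparated x] [HasExt.{u} X.Modules]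
    (rigid : ∀ (Y : Scheme.{u}) (f : Y ⟶ Spec (CommRingCat.of (DualNumber k))) (i : X ⟶ Y), Flat f →
      IsPullback i x f (dualPoint k) → ∃ h : Y ⟶ X, i ≫ h = 𝟙 X ∧ h ≫ x = f ≫ specBase k (DualNumber k)) :
    Subsingleton (Ext (Omega.sheaf x) (Coh.structureModule X) 1) := by
  let β := specBase k (DualNumber k)
  let ι := dualPoint k
  have hs : ι ≫ β = 𝟙 _ := by
    change Spec.map _ ≫ Spec.map _ = _
    rw [← Spec.map_comp, ← CommRingCat.ofHom_comp,
      show (TrivSqZeroExt.fstHom k k k).toRingHom.comp (algebraMap k (DualNumber k)) = RingHom.id k from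
        RingHom.ext fun c => ((TrivSqZeroExt.fstHom k k k).commutes c).trans (by simp),
      CommRingCat.ofHom_id, Spec.map_id]
  let j : X ⟶ pullback x β :=
    pullback.lift (𝟙 X) (x ≫ ι) (by rw [Category.assoc, hs, Category.comp_id, Category.id_comp])
  have hj : IsPullback j x (pullback.snd x β) ι := by
    refine IsPullback.of_right (h₁₂ := pullback.fst x β) (v₁₃ := x) (h₂₂ := β) ?_
      (pullback.lift_snd _ _ _) (IsPullback.of_hasPullback _ _)
    rw [pullback.lift_fst, hs]
    exact IsPullback.id_horiz x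
  haveI : IsIso (⊤ : X.Opens).ι := by rw [← Scheme.topIso_hom]; infer_instance
  have htop : IsPullback (⊤ : X.Opens).ι ((⊤ : X.Opens).ι ≫ x) x (𝟙 _) :=
    IsPullback.of_horiz_isIso ⟨by rw [Category.comp_id]⟩
  have hc : IsPullback ((⊤ : X.Opens).ι ≫ j) ((⊤ : X.Opens).ι ≫ x) (pullback.snd x β) ι := by
    simpa using htop.paste_horiz hj
  obtain ⟨P, m, hm₁, hm₂, hm₃⟩ := exists_piece_maps (isSqZero_dualPoint k) (pullback.snd x β)
    ((⊤ : X.Opens).ι ≫ j) hc ⟨⊤, isAffineOpen_top _⟩ le_top
  let q : ∀ (W : X.affineOpens) (hW : W.1 ≤ ⊤), Spec (P.A W hW) ⟶ X := fun W hW => m W hW ≫ pullback.fst x β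
  have hq₁ : ∀ W hW, Spec.map (P.red W hW) ≫ q W hW = W.2.fromSpec := fun W hW => by
    rw [← cancel_epi W.2.isoSpec.hom, IsAffineOpen.isoSpec_hom, IsAffineOpen.toSpecΓ_fromSpec,
      ← IsAffineOpen.isoSpec_hom]
    change W.2.isoSpec.hom ≫ Spec.map _ ≫ m W hW ≫ _ = _
    rw [← Category.assoc, ← Category.assoc, hm₂, Category.assoc, Category.assoc, pullback.lift_fst,
      Category.comp_id, Scheme.homOfLE_ι]
  have hq₂ : ∀ W hW, q W hW ≫ x = P.toS W hW ≫ β := fun W hW => by
    rw [Category.assoc, pullback.condition, ← Category.assoc, hm₁]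
  have hq₃ : ∀ {W W' : X.affineOpens} (hW : W.1 ≤ ⊤) (h : W'.1 ≤ W.1),
      Spec.map (P.res hW h) ≫ q W hW = q W' (h.trans hW) := fun hW h => by rw [← Category.assoc, hm₃]
  have h1 : Subsingleton (Ext (Omega.sheaf x) (coeff ι x) 1) :=
    ext_one_of_der_split (fun W : X.affineOpens => W.1) (fun _ => ⟨⊤, isAffineOpen_top _⟩) (fun _ => le_top)
      (fun W => W.2) (iSup_affineOpens_eq_top X) (AVOmega.isFinLocFree_omega x)
      (QC.isQCoh_pullback x (Conormal.isQCoh_conormal ι)) fun D hD =>
        split_of_retractions (isSqZero_dualPoint k) β P q hq₁ hq₂ hq₃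
          (fun Y f i hf hi => rigid Y f i inferInstance hi) (iSup_affineOpens_eq_top X) D hD
  obtain ⟨η⟩ := nonempty_coeff_iso_structure x
  exact @Equiv.subsingleton _ _ ((extFunctorObj _ 1).mapIso η.symm).addCommGroupIsoToAddEquiv.toEquiv h1

end Groth.Agent.DefLift
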