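import Groth.Agent.DefLift.DefGen
import Groth.Agent.DefLift.Rigid
import Groth.Agent.GrT.TwistEpi
import Groth.Agent.ArtKit.HullExists
import Mathlib

/-!
# Coordinates on the conormal module of a first order deformation
-/

set_option autoImplicit false
set_option linter.style.haveILetI false
set_option linter.unusedSectionVars false
set_option backward.isDefEq.respectTransparency false
universe u

open CategoryTheory CategoryTheory.Limits AlgebraicGeometry Opposite TopologicalSpace

noncomputable section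

namespace Groth.Agent.DefLift

open Groth.Agent.QC ArtFun ArtFun.Art Groth.Agent.ArtKit

theorem exists_push_factor {T₀ T T' : Scheme.{u}} {i : T₀ ⟶ T} {i' : T₀ ⟶ T'} {π : T' ⟶ T} [IsClosedImmersion i]
    [IsClosedImmersion i'] (hπ : i' ≫ π = i) (hs : IsSqZero i) (hs' : IsSqZero i') {G : T₀.Modules}
    (η : G ⟶ Omega.conormal i') [IsIso η] :
    ∃ ψ : Omega.conormal i ⟶ G, ∀ (C : T₀.Opens) (r : Γ(T, up hs C)) (e : up hs' C ≤ π ⁻¹ᵁ up hs C),
      downVal hs C r = 0 → kv hs' C (π.appLE _ _ e r) = η.app C (ψ.app C (kv hs C r)) := by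
  subst hπ
  obtain ⟨φ, hφ⟩ := exists_isPush hs hs'
  refine ⟨φ ≫ inv η, fun C r e hr => ?_⟩
  change _ = ((φ ≫ inv η) ≫ η).app C (kv hs C r)
  rw [Category.assoc, IsIso.inv_hom_id, Category.comp_id, hφ C r hr]
  rfl

variable {k : Type u} [Field k] {X : Scheme.{u}} [X.Over (Spec (CommRingCat.of k))] {A : Art k k}
  (ξ : DefSch X (X ↘ Spec (CommRingCat.of k)) A)

/-- Scalars on an open. -/
abbrev scalOn (C : X.Opens) (c : k) : Γ(X, C) :=
  X.presheaf.map (homOfLE (le_top : C ≤ ⊤)).op (Coh.toGlobal (X ↘ Spec (CommRingCat.of k)) c)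

theorem downVal_baseFun_res (hs : IsSqZero ξ.i) (C : X.Opens) (a : A) :
    downVal hs C (baseFun ξ (up hs C) a) = scalOn C (A.res a) := by
  have h : ∀ (g : X ⟶ spec A) (_ : g = (X ↘ Spec (CommRingCat.of k)) ≫ specRes A) (e : C ≤ g ⁻¹ᵁ ⊤),
      g.appLE ⊤ C e ((Scheme.ΓSpecIso (CommRingCat.of A)).inv a) = scalOn C (A.res a) := by
    rintro g rfl e
    rw [← Scheme.Hom.appLE_comp_appLE (X ↘ Spec (CommRingCat.of k)) (specRes A) ⊤ ⊤ C le_top le_top,
      CommRingCat.comp_apply, show (specRes A).appLE ⊤ ⊤ le_top = (specRes A).app ⊤ from (Scheme.Hom.app_eq_appLE _).symm]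
    refine (congrArg _ (congr($(Scheme.ΓSpecIso_inv_naturality (CommRingCat.ofHom A.res.toRingHom)) a)).symm).trans ?_
    rfl
  refine Eq.trans ?_ (h _ ξ.i_f le_top)
  change (ξ.f.appLE _ _ _ ≫ ξ.i.appLE _ _ _) _ = _
  rw [Scheme.Hom.appLE_comp_appLE]

theorem genVal_mul (hs : IsSqZero ξ.i) (C : X.Opens) (b a : A) (ha : A.res a = 0) :
    genVal ξ hs C (b * a) = scalOn C (A.res b) • genVal ξ hs C a := by
  have hm : baseFun ξ (up hs C) (b * a) = baseFun ξ (up hs C) b * baseFun ξ (up hs C) a := by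
    simp only [baseFun, map_mul]
  rw [genVal, hm, kv_mul hs _ (downVal_baseFun ξ hs C a ha), downVal_baseFun_res]
  rfl

theorem dual_sqzero (a b : (Art.dual k k : Art k k)) (ha : (Art.dual k k).res a = 0) (hb : (Art.dual k k).res b = 0) :
    a * b = 0 := by
  let a' : DualNumber k := a
  let b' : DualNumber k := b
  have ha' : a'.fst = 0 := ha
  have hb' : b'.fst = 0 := hb
  show a' * b' = 0
  exact TrivSqZeroExt.ext (by simp [ha', hb']) (by simp [ha', hb'])

theorem dualN_sqzero {d : ℕ} (a b : dualN k k d) (ha : (dualN k k d).res a = 0) (hb : (dualN k k d).res b = 0) :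
    a * b = 0 := by
  let a' : TrivSqZeroExt k (Fin d → k) := a
  let b' : TrivSqZeroExt k (Fin d → k) := b
  have ha' : a'.fst = 0 := ha
  have hb' : b'.fst = 0 := hb
  show a' * b' = 0
  exact TrivSqZeroExt.ext (by simp [ha', hb']) (by simp [ha', hb'])

section Dual

variable (η : DefSch X (X ↘ Spec (CommRingCat.of k)) (Art.dual k k))

/-- The class of `ε`. -/
abbrev epsVal (C : X.Opens) : Γ(Omega.conormal η.i, C) :=
  genVal η (isSqZero_defSch η dual_sqzero) C (DualNumber.eps : DualNumber k)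

/-- The map from functions given by the class of `ε`. -/
def epsHom : Coh.structureModule X ⟶ Omega.conormal η.i := GrT.homOfSection _ (epsVal η ⊤)

theorem epsHom_app (C : X.Opens) (c : Γ(X, C)) : (epsHom η).app C c = c • epsVal η C :=
  (GrT.homOfSection_app _ _ C c).trans (congrArg (c • ·) (res_genVal η _ le_top _ rfl))

theorem isIso_epsHom : IsIso (epsHom η) := by
  let hs := isSqZero_defSch η dual_sqzero
  obtain ⟨θ₀⟩ := nonempty_coeff_iso_structure (X ↘ Spec (CommRingCat.of k))
  obtain ⟨θ₁⟩ := nonempty_coeff_iso_conormal (f₀ := X ↘ Spec (CommRingCat.of k)) η.isPullback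
  let θ : Omega.conormal η.i ≅ Coh.structureModule X := θ₁.symm ≪≫ θ₀
  refine Conormal.isIso_of_basis _ (B := {V | IsAffineOpen V}) (fun O z hz => ?_) fun V hV => ?_
  · obtain ⟨W, hzW, hW⟩ := KosExt.exists_affine_le (O := O) hz
    exact ⟨W.1, W.2, hW, hzW⟩
  · have hgen : ∀ m : Γ(Omega.conormal η.i, V), ∃ c : Γ(X, V), c • epsVal η V = m := fun m => by
      obtain ⟨c, rfl⟩ := exists_repr η (fun _ : Fin 1 => (DualNumber.eps : DualNumber k)) (fun _ => rfl)
        (fun a ha => by
          let a' : DualNumber k := a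
          have ha' : a'.fst = 0 := ha
          rw [show Set.range (fun _ : Fin 1 => (DualNumber.eps : DualNumber k)) = {DualNumber.eps} from
            Set.range_const]
          refine Ideal.mem_span_singleton'.2 ⟨(TrivSqZeroExt.inl a'.snd : DualNumber k), ?_⟩
          show TrivSqZeroExt.inl a'.snd * DualNumber.eps = a'
          exact TrivSqZeroExt.ext (by simp [ha']) (by simp)) hs ⟨V, hV⟩ m
      exact ⟨c 0, by rw [Fin.sum_univ_one]⟩
    refine ⟨fun (c : Γ(X, V)) (c' : Γ(X, V)) hcc => ?_, fun m => ?_⟩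
    · rw [epsHom_app, epsHom_app] at hcc
      have hlin : ∀ (r : Γ(X, V)) m, θ.hom.app V (r • m) = r * (show Γ(X, V) from θ.hom.app V m) := fun r m =>
        Scheme.Modules.Hom.app_smul θ.hom r m
      obtain ⟨a, ha⟩ := hgen (θ.inv.app V (1 : Γ(X, V)))
      let w : Γ(X, V) := θ.hom.app V (epsVal η V)
      have hu : a * w = 1 := by
        refine (hlin a _).symm.trans ?_
        rw [ha]
        exact congr(($(θ.inv_hom_id)).app V (1 : Γ(X, V)))
      have h1 := congrArg (θ.hom.app V) hcc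
      rw [hlin, hlin] at h1
      change c * w = c' * w at h1
      calc c = c * (a * w) := by rw [hu, mul_one]
        _ = a * (c * w) := by ring
        _ = a * (c' * w) := by rw [h1]
        _ = c' * (a * w) := by ring
        _ = c' := by rw [hu, mul_one]
    · obtain ⟨c, hc⟩ := hgen m
      exact ⟨c, (epsHom_app η V c).trans hc⟩

end Dual

section DualN

variable {d : ℕ} (ζ : DefSch X (X ↘ Spec (CommRingCat.of k)) (dualN k k d))

/-- The basic infinitesimals. -/
abbrev epsN (l : Fin d) : dualN k k d := (TrivSqZeroExt.inr (Pi.single l 1) : TrivSqZeroExt k (Fin d → k))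

theorem mem_span_epsN (a : dualN k k d) (ha : (dualN k k d).res a = 0) : a ∈ Ideal.span (Set.range (epsN (k := k) (d := d))) := by
  let a' : TrivSqZeroExt k (Fin d → k) := a
  have ha' : a'.fst = 0 := ha
  refine Ideal.mem_span_range_iff_exists_fun.2
    ⟨fun l => (TrivSqZeroExt.inl (a'.snd l) : TrivSqZeroExt k (Fin d → k)), ?_⟩
  show ∑ l, (TrivSqZeroExt.inl (a'.snd l) : TrivSqZeroExt k (Fin d → k)) * TrivSqZeroExt.inr (Pi.single l 1) = a'
  have h := inl_add_sum_inr_single a'
  rw [ha', TrivSqZeroExt.inl_zero, zero_add] at h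
  refine Eq.trans (Finset.sum_congr rfl fun l _ => inl_mul_inr_single _ l) h

/-- A linear form gives a coordinate of the conormal module, with the values of the form on the generators. -/
theorem exists_coord (L : (Fin d → k) →ₗ[k] k) :
    ∃ ψ : Omega.conormal ζ.i ⟶ Coh.structureModule X,
      (∀ (C : X.Opens) (r : Γ(ζ.total, up (isSqZero_defSch ζ dualN_sqzero) C))
        (e : up (isSqZero_defSch (ζ.baseChange (dualNHom L)) dual_sqzero) C ≤
          pullback.fst ζ.f (specMap (dualNHom L)) ⁻¹ᵁ up (isSqZero_defSch ζ dualN_sqzero) C),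
        downVal (isSqZero_defSch ζ dualN_sqzero) C r = 0 →
          kv (isSqZero_defSch (ζ.baseChange (dualNHom L)) dual_sqzero) C
              ((pullback.fst ζ.f (specMap (dualNHom L))).appLE _ _ e r) =
            (epsHom (ζ.baseChange (dualNHom L))).app C (ψ.app C (kv (isSqZero_defSch ζ dualN_sqzero) C r))) ∧
      ∀ (C : X.Opens) (l : Fin d),
        ψ.app C (genVal ζ (isSqZero_defSch ζ dualN_sqzero) C (epsN l)) = scalOn C (L (Pi.single l 1)) := by
  let g := dualNHom (Λ := k) L
  let η := ζ.baseChange g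
  let hs := isSqZero_defSch ζ dualN_sqzero
  let hs' := isSqZero_defSch η dual_sqzero
  haveI := isIso_epsHom η
  obtain ⟨ψ, hψ⟩ := exists_push_factor (π := pullback.fst ζ.f (specMap g)) (DefSch.baseChange_i_fst ζ g) hs hs'
    (epsHom η)
  refine ⟨ψ, hψ, fun C l => ?_⟩
  refine (app_injective_of_mono (epsHom η) C) ?_
  have e : up hs' C ≤ pullback.fst ζ.f (specMap g) ⁻¹ᵁ up hs C := by
    rintro p ⟨z, hz, rfl⟩
    exact ⟨z, hz, by rw [← DefSch.baseChange_i_fst ζ g]; rfl⟩
  refine Eq.trans (hψ C _ e (downVal_baseFun ζ hs C _ rfl)).symm ?_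
  refine Eq.trans ?_ (epsHom_app η C _).symm
  have hb : (pullback.fst ζ.f (specMap g)).appLE _ _ e (baseFun ζ (up hs C) (epsN l)) =
      baseFun η (up hs' C) (g (epsN l)) := by
    have hsq : pullback.fst ζ.f (specMap g) ≫ ζ.f = η.f ≫ specMap g := pullback.condition
    change (ζ.f.appLE _ _ _ ≫ (pullback.fst ζ.f (specMap g)).appLE _ _ e) _ = _
    rw [Scheme.Hom.appLE_comp_appLE]
    simp only [hsq]
    rw [← Scheme.Hom.appLE_comp_appLE η.f (specMap g) ⊤ ⊤ (up hs' C) le_top le_top, CommRingCat.comp_apply,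
      show (specMap g).appLE ⊤ ⊤ le_top = (specMap g).app ⊤ from (Scheme.Hom.app_eq_appLE _).symm]
    exact congrArg _ (congr($(Scheme.ΓSpecIso_inv_naturality (CommRingCat.ofHom g.toAlgHom.toRingHom)) (epsN l))).symm
  rw [hb]
  have hge : g (epsN l) = ((TrivSqZeroExt.inl (L (Pi.single l 1)) * DualNumber.eps : DualNumber k) : Art.dual k k) := by
    show Art.tszeMap L (TrivSqZeroExt.inr (Pi.single l 1)) = _
    refine TrivSqZeroExt.ext ?_ ?_
    · simp [Art.tszeMap]
    · simp [Art.tszeMap]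
  rw [hge]
  refine (genVal_mul η hs' C _ _ rfl).trans ?_
  rfl

end DualN

end Groth.Agent.DefLift
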