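import Groth.Agent.DefLift.LiftDim
import Groth.Agent.DefFun.AutLift
import Groth.Agent.DefFun.Basic
import Groth.Agent.ThickSys.Desc
import Groth.Agent.ArtKit.Tangent
import Groth.Prelude.Def_ArtFun6
import Mathlib

/-!
# The tangent space of deformations of a closed subscheme of a smooth scheme
-/

set_option autoImplicit false
set_option linter.style.haveILetI false
set_option linter.unusedSectionVars false
set_option backward.isDefEq.respectTransparency false
universe u

open CategoryTheory CategoryTheory.Limits AlgebraicGeometry Opposite TopologicalSpace Abelian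

noncomputable section

namespace Groth.Agent.DefLift

open ArtFun ArtFun.Art Groth.Agent.ArtKit Groth.Agent.DefFun

variable {k : Type u} [Field k] {X P : Scheme.{u}} [X.Over (Spec (CommRingCat.of k))]
  (p : P ⟶ Spec (CommRingCat.of k)) (c : X ⟶ P) [IsClosedImmersion c]
  (hc : c ≫ p = X ↘ Spec (CommRingCat.of k))

include hc in
theorem toImage_subOver : c.toImage ≫ subOver p c.ker = X ↘ Spec (CommRingCat.of k) := by
  rw [← hc]
  exact c.toImage_imageι_assoc p

/-- An embedded deformation as a deformation. -/
def embDef {A : Art k k} (I : (localHilb P p c.ker).obj A) : DefSch X (X ↘ Spec (CommRingCat.of k)) A where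
  total := (objectOf I).total
  f := (objectOf I).f
  flat := (objectOf I).flat
  i := c.toImage ≫ (objectOf I).i
  isPullback := (objectOf I).isPullback.of_iso (asIso c.toImage).symm (Iso.refl _) (Iso.refl _) (Iso.refl _)
    (by simp) (by
      rw [Iso.refl_hom, Category.comp_id, Iso.symm_hom, asIso_inv, ← toImage_subOver p c hc, IsIso.inv_hom_id_assoc])
    (by simp) (by simp)

theorem embDef_i_ι {A : Art k k} (I : (localHilb P p c.ker).obj A) :
    (embDef p c hc I).i ≫ I.1.subschemeι = c ≫ XAincl p A := by
  change (c.toImage ≫ (objectOf I).i) ≫ I.1.subschemeι = _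
  rw [Category.assoc, objectOf_i_compat]
  exact c.toImage_imageι_assoc _

theorem embDef_natural {A B : Art k k} (g : A ⟶ B) (I : (localHilb P p c.ker).obj A) :
    (defFunctor X (X ↘ Spec (CommRingCat.of k))).map g (embDef p c hc I).cl =
      (embDef p c hc ((localHilb P p c.ker).map g I)).cl := by
  let e := I.1.comapIso (XAmap p g)
  have sq : IsPullback (e.hom ≫ pullback.snd (XAmap p g) I.1.subschemeι)
      ((I.1.comap (XAmap p g)).subschemeι ≫ XApr p B) (I.1.subschemeι ≫ XApr p A) (specMap g) := by
    refine (IsPullback.paste_vert (IsPullback.of_hasPullback (XAmap p g) I.1.subschemeι).flip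
      (isPullback_XAmap p g)).of_iso e.symm (Iso.refl _) (Iso.refl _) (Iso.refl _) ?_ ?_ (by simp) (by simp)
    · simp
    · simp [e]
  refine (Cart.cl_eq (ξ := embDef p c hc I) (η := embDef p c hc ((localHilb P p c.ker).map g I))
    ⟨e.hom ≫ pullback.snd (XAmap p g) I.1.subschemeι, sq, ?_⟩)
  rw [← cancel_mono I.1.subschemeι, embDef_i_ι, Category.assoc, Category.assoc, ← pullback.condition,
    ← Category.assoc e.hom, Scheme.IdealSheafData.comapIso_hom_fst, ← Category.assoc]
  refine Eq.trans (congrArg (· ≫ XAmap p g) (embDef_i_ι p c hc _)) ?_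
  rw [Category.assoc, XAincl_XAmap]

include hc in
/-- A deformation mapping to `P` is embedded. -/
theorem exists_embDef_eq [LocallyOfFiniteType p] {A : Art k k} (η : DefSch X (X ↘ Spec (CommRingCat.of k)) A)
    (b : η.total ⟶ P) (hb : b ≫ p = η.f ≫ specOver A) (hi : η.i ≫ b = c) :
    ∃ I, (embDef p c hc I).cl = η.cl := by
  let l : η.total ⟶ XA p A := pullback.lift b η.f hb
  have hl₁ : η.i ≫ l = c ≫ XAincl p A := by
    refine pullback.hom_ext ?_ ?_
    · rw [Category.assoc, pullback.lift_fst, Category.assoc, XAincl_fst, Category.comp_id, hi]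
    · rw [Category.assoc, pullback.lift_snd, η.i_f, Category.assoc, XAincl_snd, ← Category.assoc, hc]
  have sq : IsPullback η.i c l (XAincl p A) := by
    refine IsPullback.of_bot ?_ hl₁ (isPullback_XAincl p A)
    rw [pullback.lift_snd, hc]
    exact η.isPullback
  haveI : IsClosedImmersion (XAincl p A) :=
    MorphismProperty.of_isPullback (isPullback_XAincl p A).flip (isClosedImmersion_specRes A)
  haveI : Surjective (XAincl p A) :=
    MorphismProperty.of_isPullback (isPullback_XAincl p A).flip (DefFun.surjective_specMap (toBase A))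
  haveI : IsLocallyNoetherian (XA p A) := LocallyOfFiniteType.isLocallyNoetherian (XApr p A)
  haveI : IsClosedImmersion l := ThickSys.isClosedImmersion_of_thickening sq
  have hflat : FlatOver P p A l.ker := by
    unfold FlatOver
    refine (MorphismProperty.cancel_left_of_respectsIso @Flat l.toImage _).1 ?_
    rw [show l.toImage ≫ l.ker.subschemeι ≫ XApr p A = η.f from
      (l.toImage_imageι_assoc _).trans (pullback.lift_snd _ _ _)]
    exact η.flat
  have hcomap : l.ker.comap (XAincl p A) = c.ker := by
    rw [← Scheme.IdealSheafData.ker_fst_of_isClosedImmersion l (XAincl p A),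
      ← Scheme.Hom.ker_comp_of_isIso sq.flip.isoPullback.hom, IsPullback.isoPullback_hom_fst]
  refine ⟨⟨l.ker, hflat, hcomap⟩, Quotient.sound ⟨⟨(asIso l.toImage).symm, ?_, ?_⟩⟩⟩
  · rw [Iso.symm_hom, asIso_inv, IsIso.inv_comp_eq]
    exact ((l.toImage_imageι_assoc _).trans (pullback.lift_snd _ _ _)).symm
  · rw [Iso.symm_hom, asIso_inv, IsIso.comp_inv_eq, ← cancel_mono l.imageι, Category.assoc, l.toImage_imageι, hl₁]
    exact embDef_i_ι p c hc _

section Tangent

variable [TangentStr (defFunctor (Λ := k) X (X ↘ Spec (CommRingCat.of k)))] [TangentStr (localHilb P p c.ker)]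

/-- The tangent map from embedded deformations. -/
theorem exists_linear_embDef (h0 : H0 (localHilb P p c.ker)) (h2 : Heps (localHilb P p c.ker)) :
    ∃ ρ : TangentSpace (localHilb P p c.ker) →ₗ[k] TangentSpace (defFunctor (Λ := k) X (X ↘ Spec (CommRingCat.of k))),
      ∀ I, ρ (TangentSpace.mk I) = TangentSpace.mk (embDef p c hc I).cl := by
  refine ⟨{ toFun := fun I => TangentSpace.mk (embDef p c hc I).cl, map_add' := fun a b => ?_, map_smul' := fun r a => ?_ },
    fun _ => rfl⟩
  · obtain ⟨z, rfl, rfl⟩ := exists_pair h0 h2 a b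
    refine ((congrArg (fun t => TangentSpace.mk (embDef p c hc t).cl) (TangentStr.add_eq z)).trans
      (embDef_natural p c hc _ z).symm).trans ?_
    refine (TangentStr.add_eq (F := defFunctor (Λ := k) X (X ↘ Spec (CommRingCat.of k)))
      (embDef p c hc z).cl).symm.trans ?_
    rw [embDef_natural p c hc, embDef_natural p c hc]
    rfl
  · refine ((congrArg (fun t => TangentSpace.mk (embDef p c hc t).cl) (TangentStr.smul_eq r a)).trans
      (embDef_natural p c hc _ a).symm).trans ?_
    exact (TangentStr.smul_eq r (embDef p c hc a).cl).symm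

include hc in
/-- The tangent space of deformations of a closed subscheme of a smooth scheme is finite. -/
theorem hfin_of_embedding [Smooth p] [QuasiSeparated p] [HasExt.{u} X.Modules]
    [Module.Finite k (Ext ((Scheme.Modules.pullback c).obj (Omega.sheaf p)) (Coh.structureModule X) 1)]
    (h0 : H0 (localHilb P p c.ker)) (h2 : Heps (localHilb P p c.ker))
    [Module.Finite k (TangentSpace (localHilb P p c.ker))] :
    Hfin (defFunctor (Λ := k) X (X ↘ Spec (CommRingCat.of k))) := by
  classical
  obtain ⟨ρ, hρ⟩ := exists_linear_embDef p c hc h0 h2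
  haveI : LocallyOfFiniteType p := inferInstance
  let F := defFunctor (Λ := k) X (X ↘ Spec (CommRingCat.of k))
  let h := Module.finrank k (Ext ((Scheme.Modules.pullback c).obj (Omega.sheaf p)) (Coh.structureModule X) 1)
  let R := LinearMap.range ρ
  have hrank : Module.rank k (TangentSpace F ⧸ R) ≤ h := by
    refine rank_le fun s hs => ?_
    by_contra hlt
    rw [not_le] at hlt
    let θ' : Fin s.card → TangentSpace F ⧸ R := fun j => (s.equivFin.symm j : TangentSpace F ⧸ R)
    have hθ' : LinearIndependent k θ' := hs.comp _ s.equivFin.symm.injective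
    choose θ hθ using fun j => Submodule.Quotient.mk_surjective R (θ' j)
    obtain ⟨z, hz⟩ := exists_dualN_elt (DefFun.h0 X _) (DefFun.heps X _) s.card fun j => TangentSpace.val (θ j)
    induction z using Quotient.inductionOn with
    | h ζ =>
    obtain ⟨lam, hlam, b, hb, hi⟩ := exists_dependent_lift p c hc (d := s.card) hlt ζ
    obtain ⟨I, hI⟩ := exists_embDef_eq p c hc _ b hb hi
    have hmem : ∑ j, lam j • θ j ∈ R := by
      refine ⟨TangentSpace.mk I, (hρ I).trans ?_⟩
      rw [hI]
      change evalForms (F := F) ζ.cl (formOf lam) = _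
      rw [formOf, map_sum]
      refine Finset.sum_congr rfl fun j _ => ?_
      rw [map_smul]
      exact congrArg (lam j • ·) (congrArg TangentSpace.mk (hz j))
    refine hlam (funext fun j => Fintype.linearIndependent_iff.1 hθ' lam ?_ j)
    rw [← Finset.sum_congr rfl fun j _ => congrArg (lam j • ·) (hθ j)]
    have := (Submodule.Quotient.mk_eq_zero R).2 hmem
    rw [← Submodule.mkQ_apply, map_sum] at this
    simpa only [map_smul, Submodule.mkQ_apply] using this
  haveI : Module.Finite k (TangentSpace F ⧸ R) :=
    Module.rank_lt_aleph0_iff.1 (hrank.trans_lt Cardinal.natCast_lt_aleph0)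
  exact Module.Finite.of_submodule_quotient R

end Tangent

end Groth.Agent.DefLift
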