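import Groth.Agent.DefLift.Extend
import Groth.Agent.FSmoothLocal.Scheme
import Mathlib

/-!
# Existence of local lifts along smooth morphisms and uniqueness of lifts
-/

set_option autoImplicit false
set_option linter.style.haveILetI false
set_option backward.isDefEq.respectTransparency false
universe u

open CategoryTheory CategoryTheory.Limits AlgebraicGeometry Opposite TopologicalSpace Abelian

noncomputable section

namespace Groth.Agent.DefLift

open Groth.Agent.QC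

variable {T₀ T X S : Scheme.{u}} {i : T₀ ⟶ T} [IsClosedImmersion i]

theorem isSqZero_subschemeι (J : T.IdealSheafData) (hJ : J ^ 2 = ⊥) : IsSqZero J.subschemeι := fun U x y hx hy => by
  rw [J.ker_subschemeι_app] at hx hy
  have h := congrArg (fun K : T.IdealSheafData => K.ideal U) hJ
  change J.ideal U ^ 2 = _ at h
  rw [Scheme.IdealSheafData.ideal_bot] at h
  have hxy : x * y ∈ J.ideal U ^ 2 := by rw [pow_two]; exact Ideal.mul_mem_mul hx hy
  simpa [h] using hxy

variable (hsq : IsSqZero i) (f : X ⟶ S) (a : T ⟶ S) (a₀ : T₀ ⟶ X)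

include hsq in
/-- Smooth morphisms lift thickenings locally. -/
theorem exists_local_lifts [Smooth f] (hsqr : a₀ ≫ f = i ≫ a) :
    ∃ (U : T₀ → T.Opens) (b : ∀ z, (U z).toScheme ⟶ X), iSup U = ⊤ ∧ (∀ z, b z ≫ f = (U z).ι ≫ a) ∧
      ∀ z, (i ∣_ U z) ≫ b z = (i ⁻¹ᵁ U z).ι ≫ a₀ := by
  have key : ∀ z : T₀, ∃ W : T.Opens, i z ∈ W ∧ ∃ b : W.toScheme ⟶ X, b ≫ f = W.ι ≫ a ∧
      (i ∣_ W) ≫ b = (i ⁻¹ᵁ W).ι ≫ a₀ := fun z => by
    obtain ⟨V, hV, -⟩ := KosExt.exists_affine_le (O := (⊤ : S.Opens)) (x := f (a₀ z)) trivial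
    obtain ⟨Ux, hUx, hle⟩ := KosExt.exists_affine_le (O := f ⁻¹ᵁ V.1) (x := a₀ z) hV
    obtain ⟨W, hW, hWle⟩ := KosExt.exists_affine_le (O := up hsq (a₀ ⁻¹ᵁ Ux.1)) (x := i z) ⟨z, hUx, rfl⟩
    have hW0 : IsAffineOpen (i ⁻¹ᵁ W.1) := W.2.preimage i
    have hsm : letI := (f.appLE V.1 Ux.1 hle).hom.toAlgebra; Algebra.FormallySmooth Γ(S, V.1) Γ(X, Ux.1) := by
      letI := (f.appLE V.1 Ux.1 hle).hom.toAlgebra
      have h : (f.appLE V.1 Ux.1 hle).hom.Smooth := HasRingHomProperty.appLE (P := @Smooth) f inferInstance V Ux hle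
      rw [RingHom.smooth_def] at h
      exact h.1
    obtain ⟨l, hl₀, hl⟩ := FSmoothLocal.exists_lift_affine (f := f) Ux.2 V.2 hle hsm (i.app W.1)
      (i.app_surjective W.1 W.2) (by
        rw [pow_two, eq_bot_iff, Ideal.mul_le]
        intro x hx y hy
        exact Ideal.mem_bot.2 (hsq W x y hx hy))
      (hW0.fromSpec ≫ a₀) (W.2.fromSpec ≫ a) (by
        rw [Category.assoc, hsqr, ← Category.assoc, Scheme.Hom.app_eq_appLE,
          IsAffineOpen.SpecMap_appLE_fromSpec i W.2 hW0 le_rfl, Category.assoc]) (by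
        rintro p ⟨t, rfl⟩
        rw [Scheme.Hom.comp_apply]
        have ht : hW0.fromSpec t ∈ i ⁻¹ᵁ W.1 := by
          have : hW0.fromSpec t ∈ Set.range hW0.fromSpec := Set.mem_range_self t
          rwa [hW0.range_fromSpec] at this
        obtain ⟨w, hw, hwz⟩ := hWle ht
        obtain rfl := i.isEmbedding.injective hwz
        exact hw)
    refine ⟨W.1, hW, W.2.isoSpec.hom ≫ l, ?_, ?_⟩
    · rw [Category.assoc, hl, IsAffineOpen.isoSpec_hom, ← Category.assoc, IsAffineOpen.toSpecΓ_fromSpec]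
    · have hn : (i ∣_ W.1) ≫ W.2.isoSpec.hom = hW0.isoSpec.hom ≫ Spec.map (i.app W.1) := by
        rw [← cancel_mono W.2.fromSpec, Category.assoc, Category.assoc, Scheme.Hom.app_eq_appLE,
          IsAffineOpen.SpecMap_appLE_fromSpec i W.2 hW0 le_rfl, IsAffineOpen.isoSpec_hom, IsAffineOpen.isoSpec_hom,
          IsAffineOpen.toSpecΓ_fromSpec, morphismRestrict_ι, ← Category.assoc, IsAffineOpen.toSpecΓ_fromSpec]
      rw [← Category.assoc, hn, Category.assoc, hl₀, IsAffineOpen.isoSpec_hom, ← Category.assoc,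
        IsAffineOpen.toSpecΓ_fromSpec]
  choose U hmem b hb₁ hb₂ using key
  refine ⟨U, b, eq_top_iff.2 fun p _ => ?_, hb₁, hb₂⟩
  obtain ⟨z, rfl⟩ := surjective_of_sqZero hsq p
  exact Opens.mem_iSup.2 ⟨z, hmem z⟩

variable [QuasiSeparated f]

include hsq in
/-- Lifts are unique without derivations. -/
theorem extension_unique
    (h0 : Subsingleton ((Scheme.Modules.pullback a₀).obj (Omega.sheaf f) ⟶ Omega.conormal i))
    (h h' : T ⟶ X) (hi : i ≫ h = a₀) (hi' : i ≫ h' = a₀) (hf : h ≫ f = h' ≫ f) : h = h' := by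
  have hle : ∀ (g : T ⟶ X) (_ : i ≫ g = a₀) (V : X.Opens), up hsq (a₀ ⁻¹ᵁ V) ≤ g ⁻¹ᵁ V := by
    rintro g rfl V p ⟨z, hz, rfl⟩
    exact hz
  let g1 : ∀ V : X.Opens, Γ(X, V) →+* Γ(T, up hsq (a₀ ⁻¹ᵁ V)) := fun V => (h.appLE V _ (hle h hi V)).hom
  let g2 : ∀ V : X.Opens, Γ(X, V) →+* Γ(T, up hsq (a₀ ⁻¹ᵁ V)) := fun V => (h'.appLE V _ (hle h' hi' V)).hom
  have hd : ∀ (g : T ⟶ X) (hg : i ≫ g = a₀) V s,
      downVal hsq (a₀ ⁻¹ᵁ V) (g.appLE V (up hsq (a₀ ⁻¹ᵁ V)) (hle g hg V) s) = a₀.app V s := by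
    intro g hg V s
    change (g.appLE V _ _ ≫ i.appLE _ _ _) s = _
    subst hg
    rw [Scheme.Hom.appLE_comp_appLE, Scheme.Hom.app_eq_appLE]
  have hdd : ∀ V s, downVal hsq (a₀ ⁻¹ᵁ V) (g1 V s - g2 V s) = 0 := fun V s => by
    rw [map_sub]
    exact sub_eq_zero.2 ((hd h hi V s).trans (hd h' hi' V s).symm)
  let D : OmegaSh.Der f ((Scheme.Modules.pushforward a₀).obj (Omega.conormal i)) :=
    { d := fun {V} => AddMonoidHom.mk' (fun s => kv hsq (a₀ ⁻¹ᵁ V.unop) (g1 V.unop s - g2 V.unop s)) fun s t => by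
        rw [map_add, map_add, add_sub_add_comm, kv_add hsq (hdd V.unop s) (hdd V.unop t)]
      d_mul := fun {V} x y => by
        change kv hsq _ _ = _
        have e : g1 V.unop (x * y) - g2 V.unop (x * y) =
            g1 V.unop x * (g1 V.unop y - g2 V.unop y) + g2 V.unop y * (g1 V.unop x - g2 V.unop x) := by
          rw [map_mul, map_mul]; ring
        rw [e, kv_add hsq (by rw [map_mul, hdd, mul_zero]) (by rw [map_mul, hdd, mul_zero]),
          kv_mul hsq _ (hdd V.unop y), kv_mul hsq _ (hdd V.unop x)]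
        refine congrArg₂ (fun p q => p • _ + q • _) (hd h hi _ x) (hd h' hi' _ y)
      d_map := fun {V V'} m x => by
        change kv hsq _ _ = res (Omega.conormal i) (a₀.preimage_mono m.unop.le) (kv hsq _ _)
        rw [kv_res hsq _ (hdd V.unop x)]
        refine congrArg (kv hsq _) ?_
        change (h.appLE _ _ _) (X.presheaf.map m x) - (h'.appLE _ _ _) (X.presheaf.map m x) = _
        rw [map_sub]
        refine congrArg₂ (· - ·) ?_ ?_
        · exact (congr($(h.map_appLE (hle h hi V'.unop) m) x)).trans (congr($(h.appLE_map (hle h hi V.unop) (homOfLE (up_mono hsq (a₀.preimage_mono m.unop.le))).op) x)).symm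
        · exact (congr($(h'.map_appLE (hle h' hi' V'.unop) m) x)).trans (congr($(h'.appLE_map (hle h' hi' V.unop) (homOfLE (up_mono hsq (a₀.preimage_mono m.unop.le))).op) x)).symm
      d_app := fun {W} c => by
        change kv hsq _ (g1 (f ⁻¹ᵁ W.unop) (f.app W.unop c) - g2 (f ⁻¹ᵁ W.unop) (f.app W.unop c)) = 0
        have e : g1 (f ⁻¹ᵁ W.unop) (f.app W.unop c) = g2 (f ⁻¹ᵁ W.unop) (f.app W.unop c) := by
          simp only [g1, g2, Scheme.Hom.app_eq_appLE]
          change (f.appLE _ _ _ ≫ h.appLE _ _ _) c = (f.appLE _ _ _ ≫ h'.appLE _ _ _) c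
          rw [Scheme.Hom.appLE_comp_appLE, Scheme.Hom.appLE_comp_appLE]
          simp only [hf]
        rw [e, sub_self, kv_zero] }
  let adj := Scheme.Modules.pullbackPushforwardAdjunction a₀
  obtain ⟨α, hα, -⟩ := OmegaLib.isUniversal_dOmega f _ D
  have hα0 : α = 0 := by
    refine (adj.homEquiv _ _).symm.injective (@Subsingleton.elim _ h0 _ _)
  have hzero : ∀ V s, g1 V s = g2 V s := fun V s => by
    rw [← sub_eq_zero]
    refine kv_injective hsq (hdd V s) ?_
    have := congrArg (fun E : OmegaSh.Der f _ => E.app V s) hα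
    rw [hα0] at this
    exact this.symm
  refine hom_ext_of_sections (fun V : X.affineOpens => up hsq (a₀ ⁻¹ᵁ V.1)) (fun p => ?_)
    (fun V => hle h hi V.1) (fun V => hle h' hi' V.1) fun V s => hzero V.1 s
  obtain ⟨z, rfl⟩ := surjective_of_sqZero hsq p
  obtain ⟨V, hV, -⟩ := KosExt.exists_affine_le (O := (⊤ : X.Opens)) (x := a₀ z) trivial
  exact ⟨V, z, hV, rfl⟩

end Groth.Agent.DefLift
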