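import Groth.Agent.GrpOmega.Free
import Groth.Agent.DefLift.CechSplit
import Mathlib

/-!
# Ext into pullbacks of finite modules on the spectrum of a field
-/

set_option autoImplicit false
set_option linter.style.haveILetI false
set_option backward.isDefEq.respectTransparency false
universe u

open CategoryTheory CategoryTheory.Limits AlgebraicGeometry Opposite TopologicalSpace Abelian

noncomputable section

namespace Groth.Agent.DefLift

theorem exists_decomp {K : Type u} [Field K] (W : ModuleCat.{u} K) [Module.Finite K W] :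
    ∃ (m : ℕ) (β : Fin m → (W ⟶ ModuleCat.of K K)) (α : Fin m → (ModuleCat.of K K ⟶ W)), ∑ l, β l ≫ α l = 𝟙 W := by
  let b := Module.finBasis K W
  refine ⟨_, fun l => ModuleCat.ofHom (b.coord l), fun l => ModuleCat.ofHom (LinearMap.toSpanSingleton K W (b l)), ?_⟩
  ext w
  simp only [ModuleCat.hom_sum, LinearMap.sum_apply, ModuleCat.hom_comp, ModuleCat.hom_ofHom,
    LinearMap.comp_apply, LinearMap.toSpanSingleton_apply, Module.Basis.coord_apply, ModuleCat.hom_id,
    LinearMap.id_apply]
  exact b.sum_repr w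

/-- The pullback of a finite module on the spectrum of a field is a retract of a finite sum of copies of
the structure sheaf. -/
theorem exists_retract_pullback {K : Type u} [Field K] {X : Scheme.{u}}
    (x : X ⟶ Spec (CommRingCat.of K)) (V : (Spec (CommRingCat.of K)).Modules) [V.IsQuasicoherent]
    {ν : Type u} [Finite ν] (v : ν → Γ(V, (⊤ : (Spec (CommRingCat.of K)).Opens)))
    (hv : Submodule.span Γ(Spec (CommRingCat.of K), (⊤ : (Spec (CommRingCat.of K)).Opens)) (Set.range v) = ⊤) :
    ∃ (m : ℕ) (β : Fin m → ((Scheme.Modules.pullback x).obj V ⟶ Coh.structureModule X))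
      (α : Fin m → (Coh.structureModule X ⟶ (Scheme.Modules.pullback x).obj V)), ∑ l, β l ≫ α l = 𝟙 _ := by
  haveI := Scheme.Modules.isIso_fromTildeΓ_of_isQuasicoherent (R := CommRingCat.of K) V
  let W : ModuleCat.{u} K := (modulesSpecToSheaf.obj V).presheaf.obj (op ⊤)
  let eV : (tilde.functor (CommRingCat.of K)).obj W ≅ V :=
    @asIso _ _ _ _ (Scheme.Modules.fromTildeΓ (R := CommRingCat.of K) V)
      (Scheme.Modules.isIso_fromTildeΓ_of_isQuasicoherent (R := CommRingCat.of K) V)
  haveI : Module.Finite K W := by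
    refine ⟨⟨(Set.finite_range (fun a => (show W from v a))).toFinset, ?_⟩⟩
    rw [Set.Finite.coe_toFinset, eq_top_iff]
    rintro w -
    have hw : (w : Γ(V, (⊤ : (Spec (CommRingCat.of K)).Opens))) ∈
        Submodule.span Γ(Spec (CommRingCat.of K), (⊤ : (Spec (CommRingCat.of K)).Opens)) (Set.range v) := by
      rw [hv]; trivial
    induction hw using Submodule.span_induction with
    | mem y hy => exact Submodule.subset_span hy
    | zero => exact Submodule.zero_mem _
    | add a b _ _ ha hb => exact Submodule.add_mem _ ha hb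
    | smul r a _ ha =>
      obtain ⟨c, rfl⟩ := (ConcreteCategory.bijective_of_isIso (Scheme.ΓSpecIso (CommRingCat.of K)).inv).2 r
      have hsm : (show W from (Scheme.ΓSpecIso (CommRingCat.of K)).inv c •
            (show Γ(V, (⊤ : (Spec (CommRingCat.of K)).Opens)) from a)) = (show K from c) • (show W from a) := by
        change (Scheme.ΓSpecIso (CommRingCat.of K)).inv c • (show Γ(V, (⊤ : (Spec (CommRingCat.of K)).Opens)) from a) =
          ((Scheme.ΓSpecIso (CommRingCat.of K)).inv c) • (show Γ(V, (⊤ : (Spec (CommRingCat.of K)).Opens)) from a)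
        rfl
      exact (congrArg (· ∈ Submodule.span K (Set.range fun a => (show W from v a))) hsm).mpr
        (Submodule.smul_mem _ (show K from c) ha)
  obtain ⟨m, β₀, α₀, h₀⟩ := exists_decomp W
  let T := tilde.functor (CommRingCat.of K)
  haveI : PreservesColimitsOfSize.{0, 0} T := (tilde.adjunction (R := CommRingCat.of K)).leftAdjoint_preservesColimits
  haveI := Functor.preservesZeroMorphisms_of_preserves_initial_object (F := T)
  haveI := preservesBinaryBiproducts_of_preservesBinaryCoproducts T
  haveI : T.Additive := Functor.additive_of_preservesBinaryBiproducts T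
  let O₁ := T.obj (ModuleCat.of K K)
  let β : Fin m → (T.obj W ⟶ O₁) := fun l => T.map (β₀ l)
  let α : Fin m → (O₁ ⟶ T.obj W) := fun l => T.map (α₀ l)
  have hid : ∑ l, β l ≫ α l = 𝟙 (T.obj W) := by
    rw [← T.map_id, ← h₀, T.map_sum]
    exact Finset.sum_congr rfl fun l _ => (T.map_comp _ _).symm
  let P := Scheme.Modules.pullback x
  let e₁ : P.obj O₁ ≅ Coh.structureModule X :=
    P.mapIso (tildeSelf (R := CommRingCat.of K)) ≪≫ PicLoc.pullbackStructureIso x
  have hid' : ∑ l, (P.map (eV.inv ≫ β l) ≫ e₁.hom) ≫ (e₁.inv ≫ P.map (α l ≫ eV.hom)) = 𝟙 (P.obj V) := by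
    have : ∀ l, (P.map (eV.inv ≫ β l) ≫ e₁.hom) ≫ (e₁.inv ≫ P.map (α l ≫ eV.hom)) =
        P.map (eV.inv ≫ (β l ≫ α l) ≫ eV.hom) := fun l => by
      rw [Category.assoc, e₁.hom_inv_id_assoc, ← P.map_comp]
      simp only [Category.assoc]
    simp only [this, ← P.map_sum, ← Preadditive.comp_sum, ← Preadditive.sum_comp, hid]
    erw [Category.id_comp, eV.inv_hom_id, P.map_id]
  exact ⟨m, _, _, hid'⟩

/-- Ext into a retract of a finite sum vanishes with Ext into the summands. -/
theorem subsingleton_ext_of_retract {X : Scheme.{u}} [HasExt.{u} X.Modules] {F G H : X.Modules} {m : ℕ}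
    (β : Fin m → (G ⟶ H)) (α : Fin m → (H ⟶ G)) (hid : ∑ l, β l ≫ α l = 𝟙 G) {n : ℕ}
    (h : Subsingleton (Ext F H n)) : Subsingleton (Ext F G n) := by
  refine subsingleton_of_forall_eq 0 fun ξ => ?_
  rw [← Ext.comp_mk₀_id ξ, ← hid, Ext.mk₀_sum, Ext.comp_sum]
  refine Finset.sum_eq_zero fun l _ => ?_
  have hz : ξ.comp (Ext.mk₀ (β l)) (add_zero n) = 0 := Subsingleton.elim _ _
  rw [← Ext.mk₀_comp_mk₀, ← Ext.comp_assoc_of_second_deg_zero, hz, Ext.zero_comp]

theorem subsingleton_ext_pullback {K : Type u} [Field K] {X : Scheme.{u}} [HasExt.{u} X.Modules]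
    (x : X ⟶ Spec (CommRingCat.of K)) (V : (Spec (CommRingCat.of K)).Modules) [V.IsQuasicoherent]
    {ν : Type u} [Finite ν] (v : ν → Γ(V, (⊤ : (Spec (CommRingCat.of K)).Opens)))
    (hv : Submodule.span Γ(Spec (CommRingCat.of K), (⊤ : (Spec (CommRingCat.of K)).Opens)) (Set.range v) = ⊤)
    {F : X.Modules} {n : ℕ} (h : Subsingleton (Ext F (Coh.structureModule X) n)) :
    Subsingleton (Ext F ((Scheme.Modules.pullback x).obj V) n) := by
  obtain ⟨m, β, α, hid⟩ := exists_retract_pullback x V v hv
  exact subsingleton_ext_of_retract β α hid h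

end Groth.Agent.DefLift
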