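import Groth.Agent.DefLift.RingMaps
import Groth.Agent.DefLift.Extend2
import Groth.Agent.DefLift.FieldCoeff
import Groth.Agent.K0Hom.BC
import Mathlib

/-!
# Small extensions of thickenings of the spectrum of a field
-/

set_option autoImplicit false
set_option linter.style.haveILetI false
set_option backward.isDefEq.respectTransparency false
universe u

open CategoryTheory CategoryTheory.Limits AlgebraicGeometry Opposite TopologicalSpace Abelian

noncomputable section

namespace Groth.Agent.DefLift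

open Groth.Agent.QC Groth.Agent.ModDesc

theorem ker_app_specMap {R R' : CommRingCat.{u}} (φ : R ⟶ R') :
    RingHom.ker ((Spec.map φ).app ⊤).hom = (RingHom.ker φ.hom).map (Scheme.ΓSpecIso R).inv.hom := by
  have h : (Spec.map φ).app ⊤ = (Scheme.ΓSpecIso R).hom ≫ φ ≫ (Scheme.ΓSpecIso R').inv := by
    rw [← Category.assoc, Iso.eq_comp_inv]
    exact Scheme.ΓSpecIso_naturality φ
  have hb : Function.Bijective (Scheme.ΓSpecIso R').inv.hom := ConcreteCategory.bijective_of_isIso _
  rw [h]
  ext x
  simp only [RingHom.mem_ker, Ideal.mem_map_iff_of_surjective _ (ConcreteCategory.bijective_of_isIso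
    (Scheme.ΓSpecIso R).inv).2, CommRingCat.hom_comp, RingHom.comp_apply]
  refine ⟨fun hx => ⟨(Scheme.ΓSpecIso R).hom x, hb.1 (hx.trans (map_zero _).symm), by simp⟩, ?_⟩
  rintro ⟨y, hy, rfl⟩
  simp [hy]
  exact map_zero _

theorem isNilpotent_ker_specMap {R R' : CommRingCat.{u}} (φ : R ⟶ R') (hφ : Function.Surjective φ)
    (hn : IsNilpotent (RingHom.ker φ.hom)) : IsNilpotent (Spec.map φ).ker := by
  haveI : IsClosedImmersion (Spec.map φ) := IsClosedImmersion.spec_of_surjective _ hφ
  obtain ⟨n, hn⟩ := hn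
  refine ⟨n, Scheme.IdealSheafData.ext_of_isAffine ?_⟩
  rw [Scheme.IdealSheafData.ideal_pow, Pi.pow_apply, Scheme.Hom.ker_apply, ker_app_specMap, ← Ideal.map_pow, hn]
  exact Ideal.map_bot.trans rfl

theorem eq_top_or_eq_bot_of_field {K : Type u} [Field K] {R : CommRingCat.{u}} (φ : R ⟶ CommRingCat.of K)
    (hs : Function.Surjective (Spec.map φ)) (U : (Spec R).Opens) : U = ⊤ ∨ U = ⊥ := by
  by_cases h : ∃ p, p ∈ U
  · left
    refine eq_top_iff.2 fun q _ => ?_
    obtain ⟨p, hp⟩ := h
    obtain ⟨a, rfl⟩ := hs q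
    obtain ⟨b, rfl⟩ := hs p
    haveI : Subsingleton (PrimeSpectrum K) := inferInstance
    have : a = b := Subsingleton.elim (α := PrimeSpectrum K) a b
    exact this ▸ hp
  · right
    exact eq_bot_iff.2 fun p hp => (h ⟨p, hp⟩).elim

theorem surjective_specMap_nilpotent {A₀ K : Type u} [CommRing A₀] [CommRing K] (e : A₀ →+* K)
    (he : Function.Surjective e) (hn : IsNilpotent (RingHom.ker e)) :
    Function.Surjective (Spec.map (CommRingCat.ofHom e)) := fun p => by
  have hp : p ∈ Set.range (PrimeSpectrum.comap e) := by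
    rw [range_comap_of_surjective _ _ he, PrimeSpectrum.mem_zeroLocus]
    intro a ha
    obtain ⟨n, hn⟩ := hn
    have : a ^ n = 0 := by
      have h1 := Ideal.pow_mem_pow ha n
      rw [hn] at h1
      exact h1
    exact p.isPrime.mem_of_pow_mem n (this ▸ p.asIdeal.zero_mem)
  exact hp

theorem subsingleton_sections_bot (T : Scheme.{u}) : Subsingleton Γ(T, (⊥ : T.Opens)) :=
  ⟨fun a b => T.sheaf.eq_of_locally_eq' (fun l : PEmpty.{u + 1} => (⊥ : T.Opens)) ⊥ (fun l => l.elim)
    bot_le a b fun l => l.elim⟩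

variable {A A₀ : Type u} [CommRing A] [CommRing A₀] {K : Type u} [Field K]
  (π : A →+* A₀) (hπ : Function.Surjective π) (e : A₀ →+* K) (he : Function.Surjective e)
  (hn : IsNilpotent (RingHom.ker e)) (hkill : ∀ a, e (π a) = 0 → ∀ r ∈ RingHom.ker π, a * r = 0)

include hπ he hn hkill in
/-- The kernel of a small extension squares to zero. -/
theorem isSqZero_small : haveI := IsClosedImmersion.spec_of_surjective (CommRingCat.ofHom π) hπ
    IsSqZero (Spec.map (CommRingCat.ofHom π)) := by
  let ι := Spec.map (CommRingCat.ofHom π)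
  let s := Spec.map (CommRingCat.ofHom e)
  haveI : IsClosedImmersion ι := IsClosedImmersion.spec_of_surjective _ hπ
  haveI : IsClosedImmersion s := IsClosedImmersion.spec_of_surjective _ he
  have hs : Function.Surjective s := fun p => by
    have hp : p ∈ Set.range (PrimeSpectrum.comap e) := by
      rw [range_comap_of_surjective _ _ he, PrimeSpectrum.mem_zeroLocus]
      intro a ha
      obtain ⟨n, hn⟩ := hn
      have : a ^ n = 0 := by
        have h1 := Ideal.pow_mem_pow ha n
        rw [hn] at h1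
        exact h1
      exact p.isPrime.mem_of_pow_mem n (this ▸ p.asIdeal.zero_mem)
    exact hp
  haveI : Surjective s := ⟨hs⟩
  have hJ : ∀ r ∈ RingHom.ker π, e (π r) = 0 := fun r hr => by rw [RingHom.mem_ker.1 hr, map_zero]
  haveI hιs : Surjective ι := ⟨fun p => by
    have hp : p ∈ Set.range (PrimeSpectrum.comap π) := by
      rw [range_comap_of_surjective _ _ hπ, PrimeSpectrum.mem_zeroLocus]
      intro a ha
      refine p.isPrime.mem_of_pow_mem 2 ?_
      rw [pow_two, hkill a (hJ a ha) a ha]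
      exact p.asIdeal.zero_mem
    exact hp⟩
  -- sections of the base
  let ΓA := Scheme.ΓSpecIso (CommRingCat.of A)
  have hπapp : ∀ a, ι.app ⊤ (ΓA.inv a) = (Scheme.ΓSpecIso (CommRingCat.of A₀)).inv (π a) := fun a =>
    (congr($(Scheme.ΓSpecIso_inv_naturality (CommRingCat.ofHom π)) a)).symm
  have heapp : ∀ a, s.app ⊤ ((Scheme.ΓSpecIso (CommRingCat.of A₀)).inv a) = (Scheme.ΓSpecIso (CommRingCat.of K)).inv (e a) :=
    fun a => (congr($(Scheme.ΓSpecIso_inv_naturality (CommRingCat.ofHom e)) a)).symm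
  have hsurjA : Function.Surjective ΓA.inv := (ConcreteCategory.bijective_of_isIso ΓA.inv).2
  have hinjA₀ : Function.Injective (Scheme.ΓSpecIso (CommRingCat.of A₀)).inv :=
    (ConcreteCategory.bijective_of_isIso _).1
  have hinjK : Function.Injective (Scheme.ΓSpecIso (CommRingCat.of K)).inv :=
    (ConcreteCategory.bijective_of_isIso _).1
  have hkillι : ∀ a r : Γ(Spec (CommRingCat.of A), ⊤), s.app ⊤ (ι.app ⊤ a) = 0 → ι.app ⊤ r = 0 → a * r = 0 := by
    intro a r ha hr
    obtain ⟨a, rfl⟩ := hsurjA a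
    obtain ⟨r, rfl⟩ := hsurjA r
    have hr' : π r = 0 := hinjA₀ (((hπapp r).symm.trans hr).trans (map_zero _).symm)
    have ha' : e (π a) = 0 := hinjK (by rw [← heapp, ← hπapp, ha, map_zero])
    rw [← map_mul, show a * r = 0 from hkill a ha' r hr']
    exact map_zero _
  have hι : IsSqZero ι := fun U a b ha hb => by
    rcases eq_top_or_eq_bot_of_field (CommRingCat.ofHom (e.comp π))
      (fun p => by
        obtain ⟨q, rfl⟩ := ι.surjective p
        obtain ⟨z, rfl⟩ := hs q
        exact ⟨z, rfl⟩) U.1 with h | h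
    · obtain ⟨U, hU⟩ := U
      change U = ⊤ at h
      subst h
      exact hkillι a b (by rw [RingHom.mem_ker.1 ha]; exact map_zero _) hb
    · obtain ⟨U, hU⟩ := U
      change U = ⊥ at h
      subst h
      exact (subsingleton_sections_bot _).elim _ _
  exact hι

include hπ he hn hkill in
/-- The coefficients of a deformation along a small extension live on the closed fibre and are a retract
of a finite sum of copies of its structure sheaf. -/
theorem exists_fibre_coeff_retract (hfg : (RingHom.ker π).FG) {Y X : Scheme.{u}} (f : Y ⟶ Spec (CommRingCat.of A₀)) (i : X ⟶ Y)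
    (x : X ⟶ Spec (CommRingCat.of K)) (hc : IsPullback i x f (Spec.map (CommRingCat.ofHom e))) :
    ∃ (G : X.Modules) (_ : coeff (Spec.map (CommRingCat.ofHom π)) f ≅ (Scheme.Modules.pushforward i).obj G),
      Coh.IsQCoh G ∧ ∃ (m : ℕ) (β : Fin m → (G ⟶ Coh.structureModule X)) (α : Fin m → (Coh.structureModule X ⟶ G)),
        ∑ l, β l ≫ α l = 𝟙 G := by
  let ι := Spec.map (CommRingCat.ofHom π)
  let s := Spec.map (CommRingCat.ofHom e)
  haveI : IsClosedImmersion ι := IsClosedImmersion.spec_of_surjective _ hπ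
  haveI : IsClosedImmersion s := IsClosedImmersion.spec_of_surjective _ he
  have hs : Function.Surjective s := fun p => by
    have hp : p ∈ Set.range (PrimeSpectrum.comap e) := by
      rw [range_comap_of_surjective _ _ he, PrimeSpectrum.mem_zeroLocus]
      intro a ha
      obtain ⟨n, hn⟩ := hn
      have : a ^ n = 0 := by
        have h1 := Ideal.pow_mem_pow ha n
        rw [hn] at h1
        exact h1
      exact p.isPrime.mem_of_pow_mem n (this ▸ p.asIdeal.zero_mem)
    exact hp
  haveI : Surjective s := ⟨hs⟩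
  have hJ : ∀ r ∈ RingHom.ker π, e (π r) = 0 := fun r hr => by rw [RingHom.mem_ker.1 hr, map_zero]
  haveI hιs : Surjective ι := ⟨fun p => by
    have hp : p ∈ Set.range (PrimeSpectrum.comap π) := by
      rw [range_comap_of_surjective _ _ hπ, PrimeSpectrum.mem_zeroLocus]
      intro a ha
      refine p.isPrime.mem_of_pow_mem 2 ?_
      rw [pow_two, hkill a (hJ a ha) a ha]
      exact p.asIdeal.zero_mem
    exact hp⟩
  -- sections of the base
  let ΓA := Scheme.ΓSpecIso (CommRingCat.of A)
  have hπapp : ∀ a, ι.app ⊤ (ΓA.inv a) = (Scheme.ΓSpecIso (CommRingCat.of A₀)).inv (π a) := fun a =>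
    (congr($(Scheme.ΓSpecIso_inv_naturality (CommRingCat.ofHom π)) a)).symm
  have heapp : ∀ a, s.app ⊤ ((Scheme.ΓSpecIso (CommRingCat.of A₀)).inv a) = (Scheme.ΓSpecIso (CommRingCat.of K)).inv (e a) :=
    fun a => (congr($(Scheme.ΓSpecIso_inv_naturality (CommRingCat.ofHom e)) a)).symm
  have hsurjA : Function.Surjective ΓA.inv := (ConcreteCategory.bijective_of_isIso ΓA.inv).2
  have hinjA₀ : Function.Injective (Scheme.ΓSpecIso (CommRingCat.of A₀)).inv :=
    (ConcreteCategory.bijective_of_isIso _).1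
  have hinjK : Function.Injective (Scheme.ΓSpecIso (CommRingCat.of K)).inv :=
    (ConcreteCategory.bijective_of_isIso _).1
  have hkillι : ∀ a r : Γ(Spec (CommRingCat.of A), ⊤), s.app ⊤ (ι.app ⊤ a) = 0 → ι.app ⊤ r = 0 → a * r = 0 := by
    intro a r ha hr
    obtain ⟨a, rfl⟩ := hsurjA a
    obtain ⟨r, rfl⟩ := hsurjA r
    have hr' : π r = 0 := hinjA₀ (((hπapp r).symm.trans hr).trans (map_zero _).symm)
    have ha' : e (π a) = 0 := hinjK (by rw [← heapp, ← hπapp, ha, map_zero])
    rw [← map_mul, show a * r = 0 from hkill a ha' r hr']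
    exact map_zero _
  -- the coefficients
  let C := Omega.conormal ι
  haveI hC : Coh.IsQCoh C := Conormal.isQCoh_conormal ι
  have hCk : ClSub.KilledByIdeal s.ker C := fun U a ha m => by
    rcases eq_top_or_eq_bot_of_field (CommRingCat.ofHom e) hs U.1 with h | h
    · obtain ⟨U, hU⟩ := U
      change U = ⊤ at h
      subst h
      rw [Scheme.Hom.ker_apply] at ha
      obtain ⟨t, rfl⟩ := Conormal.conormalSect_surjective ι (U := ⊤) ⟨isAffineOpen_top _, inferInstance⟩ m
      obtain ⟨b, rfl⟩ := ι.app_surjective ⊤ (isAffineOpen_top _) a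
      have hbt : b • t = 0 := Conormal.idealSect_injective ι.ker ⊤ (by
        rw [Conormal.idealSect_smul, map_zero]
        exact hkillι b _ ha (Conormal.app_idealSect ι ⊤ t))
      change ι.app ⊤ b • OmegaSh.conormalSect ι ⊤ t = 0
      rw [← Conormal.conormalSect_smul, hbt, map_zero]
    · obtain ⟨U, hU⟩ := U
      change U = ⊥ at h
      subst h
      haveI := subsingleton_sections_bot (Spec (CommRingCat.of A₀))
      rw [show a = 0 from Subsingleton.elim _ _, zero_smul]
  haveI : IsIso ((Scheme.Modules.pullbackPushforwardAdjunction s).unit.app C) := ClSubLib.isIso_unit s _ hCk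
  let V := (Scheme.Modules.pullback s).obj C
  haveI : Coh.IsQCoh V := QC.isQCoh_pullback s hC
  haveI : IsClosedImmersion i := MorphismProperty.of_isPullback hc.flip inferInstance
  obtain ⟨η₁⟩ := K0Hom.nonempty_pullback_push hc V
  let η : coeff ι f ≅ (Scheme.Modules.pushforward i).obj ((Scheme.Modules.pullback x).obj V) :=
    (Scheme.Modules.pullback f).mapIso (asIso ((Scheme.Modules.pullbackPushforwardAdjunction s).unit.app C)) ≪≫ η₁
  -- finiteness
  obtain ⟨t, ht⟩ := hfg
  have hgen : ∀ r : t, ∃ m : Γ(ClSub.idealMod ι.ker, ⊤), OmegaSh.idealSect ι.ker ⊤ m = ΓA.inv (r : A) := fun r =>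
    Conormal.exists_idealSect ι ⊤ _ (by
      have hr : π (r : A) = 0 := RingHom.mem_ker.1 (ht ▸ Ideal.subset_span r.2)
      rw [hπapp, hr]
      exact map_zero _)
  choose g hg using hgen
  have hIdeal : Submodule.span Γ(Spec (CommRingCat.of A), ⊤) (Set.range g) = ⊤ := by
    refine eq_top_iff.2 fun m _ => ?_
    obtain ⟨r, hr⟩ := hsurjA (OmegaSh.idealSect ι.ker ⊤ m)
    have hr' : r ∈ RingHom.ker π := RingHom.mem_ker.2 (hinjA₀ (by
      rw [← hπapp, hr, Conormal.app_idealSect, map_zero]))
    rw [← ht] at hr'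
    suffices ∀ y ∈ Ideal.span (t : Set A), ∀ m' : Γ(ClSub.idealMod ι.ker, ⊤),
        OmegaSh.idealSect ι.ker ⊤ m' = ΓA.inv y → m' ∈ Submodule.span Γ(Spec (CommRingCat.of A), ⊤) (Set.range g) from
      this r hr' m hr.symm
    intro y hy
    induction hy using Submodule.span_induction with
    | mem y hy =>
      intro m' hm'
      rw [show m' = g ⟨y, hy⟩ from Conormal.idealSect_injective _ _ (hm'.trans (hg ⟨y, hy⟩).symm)]
      exact Submodule.subset_span ⟨_, rfl⟩
    | zero =>
      intro m' hm'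
      rw [show m' = 0 from Conormal.idealSect_injective _ _ (hm'.trans ((map_zero (ΓA.inv).hom).trans (map_zero _).symm))]
      exact Submodule.zero_mem _
    | add p q hp hq ihp ihq =>
      intro m' hm'
      obtain ⟨mp, hmp⟩ := Conormal.exists_idealSect ι ⊤ (ΓA.inv p) (by
        rw [hπapp, RingHom.mem_ker.1 (ht ▸ hp : p ∈ RingHom.ker π)]; exact map_zero _)
      obtain ⟨mq, hmq⟩ := Conormal.exists_idealSect ι ⊤ (ΓA.inv q) (by
        rw [hπapp, RingHom.mem_ker.1 (ht ▸ hq : q ∈ RingHom.ker π)]; exact map_zero _)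
      rw [show m' = mp + mq from Conormal.idealSect_injective _ _ (by
        rw [map_add (OmegaSh.idealSect ι.ker ⊤), hm']; exact (map_add (ΓA.inv).hom p q).trans (congrArg₂ (· + ·) hmp.symm hmq.symm))]
      exact Submodule.add_mem _ (ihp mp hmp) (ihq mq hmq)
    | smul c p hp ihp =>
      intro m' hm'
      obtain ⟨mp, hmp⟩ := Conormal.exists_idealSect ι ⊤ (ΓA.inv p) (by
        rw [hπapp, RingHom.mem_ker.1 (ht ▸ hp : p ∈ RingHom.ker π)]; exact map_zero _)
      rw [show m' = ΓA.inv c • mp from Conormal.idealSect_injective _ _ (by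
        rw [hm', Conormal.idealSect_smul, hmp, smul_eq_mul]; exact map_mul _ _ _)]
      exact Submodule.smul_mem _ _ (ihp mp hmp)
  let v : t → Γ(V, (⊤ : (Spec (CommRingCat.of K)).Opens)) := fun r =>
    pullSectLE s C ⊤ ⊤ le_top (OmegaSh.conormalSect ι ⊤ (g r))
  have hv : Submodule.span Γ(Spec (CommRingCat.of K), ⊤) (Set.range v) = ⊤ := by
    letI : Algebra Γ(Spec (CommRingCat.of A₀), ⊤) Γ(Spec (CommRingCat.of K), ⊤) :=
      (s.appLE ⊤ ⊤ le_top).hom.toAlgebra
    obtain ⟨Φ, hΦ⟩ := exists_bijective_liftBaseChange s C (isAffineOpen_top _)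
      (isAffineOpen_top (Spec (CommRingCat.of K))) le_top
    rw [eq_top_iff]
    rintro y -
    obtain ⟨z, rfl⟩ := Φ.surjective y
    induction z with
    | zero => rw [map_zero]; exact Submodule.zero_mem _
    | add p q hp hq => rw [map_add]; exact Submodule.add_mem _ hp hq
    | tmul a c =>
      obtain ⟨m, rfl⟩ := Conormal.conormalSect_surjective ι (U := ⊤) ⟨isAffineOpen_top _, inferInstance⟩ c
      have h1 : a ⊗ₜ[Γ(Spec (CommRingCat.of A₀), ⊤)] (show Γ(C, (⊤ : (Spec (CommRingCat.of A₀)).Opens)) from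
          OmegaSh.conormalSect ι ⊤ m) = a • ((1 : Γ(Spec (CommRingCat.of K), ⊤)) ⊗ₜ
          (show Γ(C, (⊤ : (Spec (CommRingCat.of A₀)).Opens)) from OmegaSh.conormalSect ι ⊤ m)) := by
        rw [TensorProduct.smul_tmul', smul_eq_mul, mul_one]
      refine (congrArg (· ∈ _) ((congrArg Φ h1).trans ((map_smul Φ _ _).trans (congrArg (a • ·) (hΦ _))))).mpr
        (Submodule.smul_mem _ a ?_)
      have hm : m ∈ Submodule.span Γ(Spec (CommRingCat.of A), ⊤) (Set.range g) := hIdeal ▸ trivial
      clear h1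
      induction hm using Submodule.span_induction with
      | mem y hy =>
        obtain ⟨r, rfl⟩ := hy
        exact Submodule.subset_span ⟨r, rfl⟩
      | zero => rw [map_zero, map_zero]; exact Submodule.zero_mem _
      | add p q _ _ hp hq =>
        rw [map_add, map_add]
        exact Submodule.add_mem _ hp hq
      | smul c p _ hp =>
        rw [Conormal.conormalSect_smul]
        refine (congrArg (· ∈ _) (pullSectLE_smul s C ⊤ ⊤ le_top _ _)).mpr (Submodule.smul_mem _ _ hp)
  exact ⟨_, η, QC.isQCoh_pullback x (inferInstance : Coh.IsQCoh V), exists_retract_pullback x V v hv⟩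

include hπ he hn hkill in
/-- The coefficients of a deformation along a small extension live on the closed fibre. -/
theorem exists_fibre_coeff (hfg : (RingHom.ker π).FG) {Y X : Scheme.{u}} (f : Y ⟶ Spec (CommRingCat.of A₀)) (i : X ⟶ Y)
    (x : X ⟶ Spec (CommRingCat.of K)) (hc : IsPullback i x f (Spec.map (CommRingCat.ofHom e))) :
    ∃ (G : X.Modules) (_ : coeff (Spec.map (CommRingCat.ofHom π)) f ≅ (Scheme.Modules.pushforward i).obj G),
      Coh.IsQCoh G ∧ ∀ [HasExt.{u} X.Modules] (F : X.Modules) (n : ℕ),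
        Subsingleton (Ext F (Coh.structureModule X) n) → Subsingleton (Ext F G n) := by
  obtain ⟨G, η, hG, m, β, α, hid⟩ := exists_fibre_coeff_retract π hπ e he hn hkill hfg f i x hc
  exact ⟨G, η, hG, fun F n h => subsingleton_ext_of_retract β α hid h⟩

end Groth.Agent.DefLift
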