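import Groth.Agent.DefLift.Natural
import Groth.Agent.DefLift.SmallExt
import Groth.Agent.DefLift.RigidTriv
import Groth.Prelude.Def_ArtFun4
import Mathlib

/-!
# Generators of the conormal module of a first order deformation
-/

set_option autoImplicit false
set_option linter.style.haveILetI false
set_option linter.unusedSectionVars false
set_option backward.isDefEq.respectTransparency false
universe u

open CategoryTheory CategoryTheory.Limits AlgebraicGeometry Opposite TopologicalSpace

noncomputable section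

namespace Groth.Agent.DefLift

open Groth.Agent.QC ArtFun ArtFun.Art

variable {k : Type u} [Field k] {X : Scheme.{u}} {x : X ⟶ Spec (CommRingCat.of k)} {A : Art k k}
  (ξ : DefSch X x A)

instance isClosedImmersion_specRes (A : Art k k) : IsClosedImmersion (specRes A) :=
  IsClosedImmersion.spec_of_surjective _ A.res_surjective

instance isClosedImmersion_defSch : IsClosedImmersion ξ.i :=
  MorphismProperty.of_isPullback ξ.isPullback.flip (isClosedImmersion_specRes A)

instance isClosedImmersion_baseChange_i {B : Art k k} (g : A ⟶ B) : IsClosedImmersion (ξ.baseChange g).i :=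
  MorphismProperty.of_isPullback (ξ.baseChange g).isPullback.flip (isClosedImmersion_specRes B)

variable (hA : ∀ a b : A, A.res a = 0 → A.res b = 0 → a * b = 0)

include hA in
theorem isSqZero_specRes : IsSqZero (specRes A) :=
  isSqZero_small A.res.toRingHom A.res_surjective (RingHom.id k) Function.surjective_id
    ⟨1, by rw [pow_one]; exact (RingHom.injective_iff_ker_eq_bot _).1 Function.injective_id⟩
    fun a ha r hr => hA a r ha (RingHom.mem_ker.1 hr)

include hA in
theorem isSqZero_defSch : IsSqZero ξ.i :=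
  isSqZero_of_isPullback ξ.isPullback (isSqZero_specRes hA)

/-- The image of a base element in the functions of the total space. -/
def baseFun (O : ξ.total.Opens) (a : A) : Γ(ξ.total, O) :=
  ξ.f.appLE ⊤ O le_top ((Scheme.ΓSpecIso (CommRingCat.of A)).inv a)

theorem resO_baseFun {O O' : ξ.total.Opens} (h : O' ≤ O) (a : A) :
    resO ξ.total h (baseFun ξ O a) = baseFun ξ O' a := by
  change (ξ.f.appLE _ _ _ ≫ ξ.total.presheaf.map (homOfLE h).op) _ = ξ.f.appLE _ _ _ _
  rw [Scheme.Hom.appLE_map]

theorem app_baseFun_eq_zero (O : ξ.total.Opens) (a : A) (ha : A.res a = 0) : ξ.i.app O (baseFun ξ O a) = 0 := by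
  have hz : (specRes A).app ⊤ ((Scheme.ΓSpecIso (CommRingCat.of A)).inv a) = 0 := by
    refine (congr($(Scheme.ΓSpecIso_inv_naturality (CommRingCat.ofHom A.res.toRingHom)) a)).symm.trans ?_
    change (Scheme.ΓSpecIso (CommRingCat.of k)).inv (A.res a) = 0
    rw [ha]
    exact map_zero _
  have h : ∀ (g : X ⟶ spec A) (_ : g = x ≫ specRes A) (e : ξ.i ⁻¹ᵁ O ≤ g ⁻¹ᵁ ⊤),
      g.appLE ⊤ (ξ.i ⁻¹ᵁ O) e ((Scheme.ΓSpecIso (CommRingCat.of A)).inv a) = 0 := by
    rintro g rfl e
    rw [← Scheme.Hom.appLE_comp_appLE x (specRes A) ⊤ ⊤ (ξ.i ⁻¹ᵁ O) le_top le_top, CommRingCat.comp_apply,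
      show (specRes A).appLE ⊤ ⊤ le_top = (specRes A).app ⊤ from (Scheme.Hom.app_eq_appLE _).symm]
    exact (congrArg _ hz).trans (map_zero _)
  refine Eq.trans ?_ (h _ ξ.i_f le_top)
  change (ξ.f.appLE _ _ _ ≫ ξ.i.app O) _ = _
  rw [Scheme.Hom.app_eq_appLE, Scheme.Hom.appLE_comp_appLE]

/-- The class of a base element in the conormal module over an open. -/
def genVal (hs : IsSqZero ξ.i) (C : X.Opens) (a : A) : Γ(Omega.conormal ξ.i, C) :=
  kv hs C (baseFun ξ (up hs C) a)

theorem downVal_baseFun (hs : IsSqZero ξ.i) (C : X.Opens) (a : A) (ha : A.res a = 0) :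
    downVal hs C (baseFun ξ (up hs C) a) = 0 :=
  (downVal_eq_zero_iff hs C _).2 (app_baseFun_eq_zero ξ _ a ha)

theorem res_genVal (hs : IsSqZero ξ.i) {C C' : X.Opens} (h : C' ≤ C) (a : A) (ha : A.res a = 0) :
    res (Omega.conormal ξ.i) h (genVal ξ hs C a) = genVal ξ hs C' a := by
  rw [genVal, genVal, kv_res hs h (downVal_baseFun ξ hs C a ha), resO_baseFun]

/-- On affine opens the classes of generators of the maximal ideal generate. -/
theorem exists_repr {d : ℕ} (e : Fin d → A) (he : ∀ l, A.res (e l) = 0)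
    (hgen : ∀ a, A.res a = 0 → a ∈ Ideal.span (Set.range e)) (hs : IsSqZero ξ.i) (C : X.affineOpens)
    (m : Γ(Omega.conormal ξ.i, C.1)) : ∃ c : Fin d → Γ(X, C.1), m = ∑ l, c l • genVal ξ hs C.1 (e l) := by
  obtain ⟨r, hr, rfl⟩ := exists_kv_eq hs C.1 m
  have hW := isAffineOpen_up hs C
  have hker := (KoszulLib.ker_app_of_isPullback ξ.isPullback.flip ⟨⊤, isAffineOpen_top _⟩ inferInstance
    ⟨up hs C.1, hW⟩ le_top).2
  have hr' : r ∈ RingHom.ker (ξ.i.app (up hs C.1)).hom := (downVal_eq_zero_iff hs C.1 r).1 hr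
  rw [hker] at hr'
  have hsub : (RingHom.ker ((specRes A).app ⊤).hom).map (ξ.f.appLE ⊤ (up hs C.1) le_top).hom ≤
      Ideal.span (Set.range fun l => baseFun ξ (up hs C.1) (e l)) := by
    rw [Ideal.map_le_iff_le_comap]
    intro s hs'
    obtain ⟨a, rfl⟩ := (ConcreteCategory.bijective_of_isIso (Scheme.ΓSpecIso (CommRingCat.of A)).inv).2 s
    have ha : A.res a = 0 := by
      apply (ConcreteCategory.bijective_of_isIso (Scheme.ΓSpecIso (CommRingCat.of k)).inv).1
      refine Eq.trans ?_ (map_zero (Scheme.ΓSpecIso (CommRingCat.of k)).inv.hom).symm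
      refine Eq.trans ?_ (RingHom.mem_ker.1 hs')
      exact congr($(Scheme.ΓSpecIso_inv_naturality (CommRingCat.ofHom A.res.toRingHom)) a)
    have := Ideal.mem_map_of_mem ((ξ.f.appLE ⊤ (up hs C.1) le_top).hom.comp
      (Scheme.ΓSpecIso (CommRingCat.of A)).inv.hom) (hgen a ha)
    rw [Ideal.map_span, ← Set.range_comp] at this
    exact this
  obtain ⟨c, hc⟩ := Ideal.mem_span_range_iff_exists_fun.1 (hsub hr')
  refine ⟨fun l => downVal hs C.1 (c l), ?_⟩
  have hz : ∀ l, downVal hs C.1 (c l * baseFun ξ (up hs C.1) (e l)) = 0 := fun l => by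
    rw [map_mul, downVal_baseFun ξ hs C.1 _ (he l), mul_zero]
  have hsum : ∀ s : Finset (Fin d), kv hs C.1 (∑ l ∈ s, c l * baseFun ξ (up hs C.1) (e l)) =
      ∑ l ∈ s, downVal hs C.1 (c l) • genVal ξ hs C.1 (e l) := fun s => by
    induction s using Finset.induction_on with
    | empty => rw [Finset.sum_empty, Finset.sum_empty, kv_zero]
    | insert l s hl ih =>
      rw [Finset.sum_insert hl, Finset.sum_insert hl, kv_add hs (hz l)
        (by rw [map_sum]; exact Finset.sum_eq_zero fun l _ => hz l), ih,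
        kv_mul hs _ (downVal_baseFun ξ hs C.1 _ (he l))]
      rfl
  rw [← hc, hsum]

end Groth.Agent.DefLift
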