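import Groth.Agent.DefLift.DefEmb
import Groth.Agent.DefLift.AutDer
import Groth.Agent.S12309
import Groth.Agent.S9524
import Groth.Agent.LHilb.ObsTheoryHilb
import Groth.Agent.LHilb.ProRepTangent
import Groth.Agent.LHilb.Rigid
import Groth.Agent.SerrePn.SheafHomExt
import Groth.Agent.AVOmega.Push
import Groth.Agent.CurveRR.Curve
import Groth.Agent.Devissage.Piece
import Mathlib

/-!
# Pro-representability of deformations of an embedded scheme without vector fields
-/

set_option autoImplicit false
set_option linter.style.haveILetI false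
set_option backward.isDefEq.respectTransparency false
universe u

open CategoryTheory CategoryTheory.Limits AlgebraicGeometry Abelian

noncomputable section

namespace Groth.Agent.DefLift

open ArtFun ArtFun.Art

variable {k : Type u} [Field k] {X P : Scheme.{u}} [X.Over (Spec (CommRingCat.of k))]
  [IsProper (X ↘ Spec (CommRingCat.of k))]
  (p : P ⟶ Spec (CommRingCat.of k)) [Smooth p] [IsSeparated p] [QuasiCompact p]
  (c : X ⟶ P) [IsClosedImmersion c] (hc : c ≫ p = X ↘ Spec (CommRingCat.of k))

include hc in
/-- The tangent space of deformations of a proper scheme in a smooth one is finite. -/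
theorem hfin_of_proper [TangentStr (defFunctor (Λ := k) X (X ↘ Spec (CommRingCat.of k)))] :
    Hfin (defFunctor (Λ := k) X (X ↘ Spec (CommRingCat.of k))) := by
  haveI : IsLocallyNoetherian X := LocallyOfFiniteType.isLocallyNoetherian (X ↘ Spec (CommRingCat.of k))
  haveI := SerrePn.enoughInjectives (X := X)
  haveI : HasExt.{u} X.Modules := hasExt_of_enoughInjectives _
  let F := (Scheme.Modules.pullback c).obj (Omega.sheaf p)
  have hF : FlatMod.IsFinLocFree F := DerPerf.isFinLocFree_pullback _ (AVOmega.isFinLocFree_omega p)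
  haveI : DCoh.HasSheafHom F := W7Hull.hasSheafHom_sch _
  haveI : IsLocallyNoetherian P := LocallyOfFiniteType.isLocallyNoetherian p
  have hFc : Coh.IsCoh F := QC.isCoh_pullback _ (K0Coh.isCoh_of_isFinLocFree (AVOmega.isFinLocFree_omega p))
  have hcoh := S9524.result X F (Coh.structureModule X) hFc (Devissage.isCoh_unit _)
  haveI := CohFinite.finite_proper k X _ hcoh 1
  obtain ⟨eE⟩ := SerrePn.ext_equiv_hh k F hF 1 (Coh.structureModule X)
  haveI : Module.Finite k (Ext F (Coh.structureModule X) 1) := Module.Finite.equiv eE.symm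
  -- the embedded tangent space
  letI : c.ker.subscheme.Over (Spec (CommRingCat.of k)) := ⟨c.ker.subschemeι ≫ p⟩
  haveI : IsProper (c.ker.subscheme ↘ Spec (CommRingCat.of k)) := by
    change IsProper (c.ker.subschemeι ≫ p)
    rw [show c.ker.subschemeι ≫ p = inv c.toImage ≫ (X ↘ Spec (CommRingCat.of k)) from by
      rw [IsIso.eq_inv_comp]; exact toImage_subOver p c hc]
    infer_instance
  haveI : IsLocallyNoetherian c.ker.subscheme := LocallyOfFiniteType.isLocallyNoetherian c.ker.subschemeι
  haveI : DCoh.HasSheafHom (Omega.conormal c.ker.subschemeι) := W7Hull.hasSheafHom_sch _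
  have hC : Coh.IsCoh (Omega.conormal c.ker.subschemeι) := QC.isCoh_pullback _ (CurveRR.isCoh_idealMod _).1
  have hN := S9524.result c.ker.subscheme (Omega.conormal c.ker.subschemeι) (Coh.structureModule c.ker.subscheme) hC
    (Devissage.isCoh_unit _)
  haveI := CohFinite.finite_proper k c.ker.subscheme _ hN 0
  obtain ⟨eN⟩ := LHilb.nonempty_hh_linearEquiv p c.ker rfl
  obtain ⟨T⟩ := ArtKit.nonempty_tangentStr (LHilb.h0 p) (LHilb.heps p c.ker)
  letI := T
  obtain ⟨eT⟩ := LHilb.nonempty_tangent_linearEquiv (I₀ := c.ker) p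
  haveI : Module.Finite k (LHilb.NSec p c.ker) := Module.Finite.equiv eN.symm
  haveI : Module.Finite k (TangentSpace (localHilb P p c.ker)) := Module.Finite.equiv eT.symm
  exact hfin_of_embedding p c hc (LHilb.h0 p) (LHilb.heps p c.ker)

include hc in
/-- Deformations of an embedded proper scheme without vector fields are pro-representable. -/
theorem isProrepresentable_of_embedded
    (h0 : Subsingleton (Omega.sheaf (X ↘ Spec (CommRingCat.of k)) ⟶ Coh.structureModule X)) :
    IsProrepresentable (defFunctor (Λ := k) X (X ↘ Spec (CommRingCat.of k))) := by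
  let x := X ↘ Spec (CommRingCat.of k)
  let Fn := defFunctor (Λ := k) X x
  obtain ⟨T⟩ := ArtKit.nonempty_tangentStr (F := Fn) (DefFun.h0 X x) (DefFun.heps X x)
  letI := T
  haveI : IsAdicComplete (IsLocalRing.maximalIdeal k) k := by
    rw [IsLocalRing.maximalIdeal_eq_bot]
    infer_instance
  have hk : Function.Surjective (algebraMap k k) := fun a => ⟨a, rfl⟩
  have hull : HasHull Fn := ArtKit.hasHull_of_free (DefFun.h0 X x) (DefFun.s1 X x) (DefFun.heps X x)
    (hfin_of_proper p c hc) fun σ σ' _ => Art.hom_ext (AlgHom.ext fun a => by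
      have h1 := σ.toAlgHom.commutes a
      have h2 := σ'.toAlgHom.commutes a
      exact h1.trans h2.symm)
  refine (S12309.result k k hk X x hull).2 fun A' A q hq ξ' e => ⟨DefSch.Iso.refl ξ', DefFun.defIso_ext ?_⟩
  exact (aut_eq_id x h0 A (ξ'.baseChange q) _).trans (aut_eq_id x h0 A (ξ'.baseChange q) e).symm

end Groth.Agent.DefLift
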