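import Groth.Agent.DefLift.CechConverse
import Groth.Agent.SerrePn.SheafHomExt
import Mathlib

/-!
# First Ext groups as cocycles of derivations modulo boundaries
-/

set_option autoImplicit false
set_option linter.style.haveILetI false
set_option backward.isDefEq.respectTransparency false
universe u

open CategoryTheory CategoryTheory.Limits AlgebraicGeometry Opposite TopologicalSpace Abelian

noncomputable section

namespace Groth.Agent.DefLift

open Groth.Agent.QC Groth.Agent.CechShRes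

section Abelian

variable (k : Type u) [Field k] {C : Type*} [Category C] [CategoryTheory.Abelian C] [Linear k C] [HasExt.{u} C]

/-- Maps into a kernel, as maps killed by the next map. -/
def kerLift {A B : C} (g : A ⟶ B) (F : C) :
    LinearMap.ker (Linear.rightComp k F g) →ₗ[k] (F ⟶ kernel g) where
  toFun c := kernel.lift g c.1 c.2
  map_add' c c' := by
    rw [← cancel_mono (kernel.ι g)]
    simp
  map_smul' r c := by
    rw [← cancel_mono (kernel.ι g)]
    simp

/-- Cocycles in degree one modulo boundaries compute the first Ext group. -/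
theorem exists_cocycle_ext {K : CochainComplex C ℕ} {G : C} (ε : G ⟶ K.X 0) (hε : ε ≫ K.d 0 1 = 0) [Mono ε]
    (h0 : (ShortComplex.mk _ _ hε).Exact) (h1 : K.ExactAt 1) {F : C} (hacyc : Subsingleton (Ext F (K.X 0) 1)) :
    ∃ Φ : LinearMap.ker (Linear.rightComp k F (K.d 1 2)) →ₗ[k] Ext F G 1,
      Function.Surjective Φ ∧ ∀ c, Φ c = 0 ↔ ∃ b : F ⟶ K.X 0, b ≫ K.d 0 1 = c.1 := by
  rw [HomologicalComplex.exactAt_iff' _ 0 1 2 (by simp) (by simp)] at h1
  let p : K.X 0 ⟶ kernel (K.d 1 2) := kernel.lift _ (K.d 0 1) (K.d_comp_d 0 1 2)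
  haveI : Epi p := (ShortComplex.exact_iff_epi_kernel_lift (K.sc' 0 1 2)).1 h1
  have hp : ε ≫ p = 0 := by
    rw [← cancel_mono (kernel.ι (K.d 1 2))]
    simp [p, hε]
  let S : ShortComplex C := ShortComplex.mk ε p hp
  have hS : S.ShortExact :=
    { exact := by
        rw [← ShortComplex.exact_iff_of_epi_of_isIso_of_mono
          (φ := ({ τ₁ := 𝟙 _, τ₂ := 𝟙 _, τ₃ := kernel.ι (K.d 1 2), comm₁₂ := by simp [S],
                   comm₂₃ := by simp [S, p] } : S ⟶ ShortComplex.mk _ _ hε))] at h0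
        exact h0
      mono_f := inferInstanceAs (Mono ε)
      epi_g := inferInstanceAs (Epi p) }
  let δ : (F ⟶ S.X₃) →ₗ[k] Ext F S.X₁ 1 :=
    (hS.extClass.postcompOfLinear k F rfl).comp (Ext.linearEquiv₀ (R := k)).symm.toLinearMap
  have hδ : ∀ φ, δ φ = (Ext.mk₀ φ).comp hS.extClass rfl := fun φ => rfl
  refine ⟨δ.comp (kerLift k (K.d 1 2) F), fun x => ?_, fun c => ⟨fun hc => ?_, ?_⟩⟩
  · obtain ⟨y, rfl⟩ := Ext.covariant_sequence_exact₁ F hS x (@Subsingleton.elim _ hacyc _ _) (zero_add 1)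
    obtain ⟨φ, rfl⟩ := (Ext.mk₀_bijective _ _).2 y
    refine ⟨⟨φ ≫ kernel.ι (K.d 1 2), ?_⟩, ?_⟩
    · change (φ ≫ kernel.ι (K.d 1 2)) ≫ K.d 1 2 = 0
      rw [Category.assoc, kernel.condition, comp_zero]
    · rw [LinearMap.comp_apply, hδ]
      have hl : kerLift k (K.d 1 2) F ⟨φ ≫ kernel.ι (K.d 1 2),
          (by simp : (φ ≫ kernel.ι (K.d 1 2)) ≫ K.d 1 2 = 0)⟩ = φ := by
        rw [← cancel_mono (kernel.ι (K.d 1 2))]
        simp [kerLift]
      rw [hl]
  · rw [LinearMap.comp_apply, hδ] at hc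
    obtain ⟨x, hx⟩ := Ext.covariant_sequence_exact₃ F hS _ (zero_add 1) hc
    obtain ⟨b, rfl⟩ := (Ext.mk₀_bijective _ _).2 x
    rw [Ext.mk₀_comp_mk₀] at hx
    have hb := congrArg (· ≫ kernel.ι (K.d 1 2)) ((Ext.mk₀_bijective _ _).1 hx)
    exact ⟨b, by simpa [S, p, kerLift] using hb⟩
  · rintro ⟨b, hb⟩
    have hl : kerLift k (K.d 1 2) F c = b ≫ p := by
      rw [← cancel_mono (kernel.ι (K.d 1 2))]
      simp [kerLift, p, hb]
    rw [LinearMap.comp_apply, hδ, hl, ← Ext.mk₀_comp_mk₀, Ext.comp_assoc_of_second_deg_zero,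
      show (Ext.mk₀ p).comp hS.extClass (zero_add 1) = 0 from hS.comp_extClass, Ext.comp_zero]

end Abelian

end Groth.Agent.DefLift
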