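import Groth.Agent.DefFun.AutLift
import Groth.Agent.FittLib.Comap
import Groth.Agent.NilAffine.Main
import Mathlib

/-!
# The affine pieces of a deformation of a scheme
-/

set_option autoImplicit false
set_option linter.style.haveILetI false
set_option backward.isDefEq.respectTransparency false
universe u

open CategoryTheory CategoryTheory.Limits AlgebraicGeometry ArtFun ArtFun.Art IsLocalRing

noncomputable section

namespace Groth.Agent.DefLift

/-- The scalars of an open of a scheme over an affine base. -/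
def str {T : Scheme.{u}} {A : Type u} [CommRing A] (f : T ⟶ Spec (CommRingCat.of A)) (V : T.Opens) :
    A →+* Γ(T, V) :=
  ((Scheme.ΓSpecIso (CommRingCat.of A)).inv ≫ f.appLE ⊤ V le_top).hom

theorem str_res {T : Scheme.{u}} {A : Type u} [CommRing A] (f : T ⟶ Spec (CommRingCat.of A)) {V W : T.Opens}
    (h : W ≤ V) (a : A) : T.presheaf.map (homOfLE h).op (str f V a) = str f W a := by
  change (f.appLE ⊤ V le_top ≫ T.presheaf.map (homOfLE h).op) ((Scheme.ΓSpecIso (CommRingCat.of A)).inv a) = _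
  rw [Scheme.Hom.appLE_map]
  rfl

theorem str_comp {T P : Scheme.{u}} {A B : Type u} [CommRing A] [CommRing B] (g : A →+* B)
    (f : T ⟶ Spec (CommRingCat.of A)) (q : P ⟶ Spec (CommRingCat.of B)) (m : P ⟶ T)
    (w : m ≫ f = q ≫ Spec.map (CommRingCat.ofHom g)) {V : T.Opens} {W : P.Opens} (e : W ≤ m ⁻¹ᵁ V) (a : A) :
    m.appLE V W e (str f V a) = str q W (g a) := by
  change (((Scheme.ΓSpecIso (CommRingCat.of A)).inv ≫ f.appLE ⊤ V le_top) ≫ m.appLE V W e) a =
    (CommRingCat.ofHom g ≫ (Scheme.ΓSpecIso (CommRingCat.of B)).inv ≫ q.appLE ⊤ W le_top) a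
  have hh : ((Scheme.ΓSpecIso (CommRingCat.of A)).inv ≫ f.appLE ⊤ V le_top) ≫ m.appLE V W e =
      CommRingCat.ofHom g ≫ (Scheme.ΓSpecIso (CommRingCat.of B)).inv ≫ q.appLE ⊤ W le_top := by
    rw [Category.assoc, Scheme.Hom.appLE_comp_appLE, Scheme.ΓSpecIso_inv_naturality_assoc,
      show (Spec.map (CommRingCat.ofHom g)).appTop = (Spec.map (CommRingCat.ofHom g)).appLE ⊤ ⊤ le_top by
        simp [Scheme.Hom.appLE],
      Scheme.Hom.appLE_comp_appLE]
    simp only [w]
  rw [hh]

/-- Sections of a closed subscheme cut out by an ideal of the base. -/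
theorem ker_app_of_pullback {T P : Scheme.{u}} {A B : Type u} [CommRing A] [CommRing B] (π : A →+* B)
    (hπ : Function.Surjective π) (f : T ⟶ Spec (CommRingCat.of A)) (j : P ⟶ T) (q : P ⟶ Spec (CommRingCat.of B))
    (h : IsPullback j q f (Spec.map (CommRingCat.ofHom π))) {V : T.Opens} (hV : IsAffineOpen V) {W : P.Opens}
    (hW : W = j ⁻¹ᵁ V) :
    RingHom.ker (j.appLE V W hW.le).hom = (RingHom.ker π).map (str f V) ∧
      Function.Surjective (j.appLE V W hW.le) := by
  subst hW
  haveI : IsClosedImmersion (Spec.map (CommRingCat.ofHom π)) := IsClosedImmersion.spec_of_surjective _ hπ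
  haveI : IsClosedImmersion j := MorphismProperty.of_isPullback h.flip inferInstance
  have happ : j.appLE V (j ⁻¹ᵁ V) le_rfl = j.app V := (Scheme.Hom.app_eq_appLE _).symm
  rw [happ]
  refine ⟨?_, j.app_surjective V hV⟩
  let e : CommRingCat.of (A ⧸ RingHom.ker π) ≅ CommRingCat.of B :=
    (RingHom.quotientKerEquivOfSurjective hπ).toCommRingCatIso
  have hπe : Spec.map (CommRingCat.ofHom π) =
      Spec.map e.hom ≫ Spec.map (CommRingCat.ofHom (Ideal.Quotient.mk (RingHom.ker π))) := by
    rw [← Spec.map_comp]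
    rfl
  have hj : j.ker = (FSch.idealSpec A (RingHom.ker π)).comap f := by
    rw [← h.isoPullback_hom_fst, Scheme.Hom.ker_comp_of_isIso, Scheme.IdealSheafData.ker_fst_of_isClosedImmersion,
      hπe, Scheme.Hom.ker_comp_of_isIso]
    rfl
  rw [← Scheme.Hom.ker_apply j ⟨V, hV⟩, hj,
    FittLib.comap_ideal f _ (isAffineOpen_top _) hV le_top, FittLib.idealSpec_ideal_top,
    show str f V = (f.appLE ⊤ V le_top).hom.comp (Scheme.ΓSpecIso (CommRingCat.of A)).inv.hom from rfl, ← Ideal.map_map]
  exact congrArg _ (Ideal.map_symm (I := RingHom.ker π) (Scheme.ΓSpecIso (CommRingCat.of A)).commRingCatIsoToRingEquiv).symm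

variable {Λ k : Type u} [CommRing Λ] [Field k] [Algebra Λ k] {X : Scheme.{u}} {x : X ⟶ specPt k}
variable {A B : Art Λ k} (ξ : DefSch X x A)

theorem isClosedImmersion_i : IsClosedImmersion ξ.i :=
  haveI : IsClosedImmersion (specRes A) := IsClosedImmersion.spec_of_surjective _ A.res_surjective
  MorphismProperty.of_isPullback ξ.isPullback.flip inferInstance

theorem surjective_i : Surjective ξ.i :=
  haveI : Surjective (specRes A) := DefFun.surjective_specMap (toBase A)
  MorphismProperty.of_isPullback ξ.isPullback.flip inferInstance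

theorem isOpen_image (U : X.Opens) : IsOpen (ξ.i.base '' (U : Set X)) := by
  haveI := isClosedImmersion_i ξ
  haveI := surjective_i ξ
  obtain ⟨O, hO, hOU⟩ := (ξ.i.isEmbedding.isInducing.isOpen_iff).1 U.2
  change IsOpen (ξ.i '' U.carrier)
  rwa [← hOU, Set.image_preimage_eq _ ξ.i.surjective]

/-- The piece of the total space over an open of `X`. -/
def opn (U : X.Opens) : ξ.total.Opens := ⟨ξ.i.base '' (U : Set X), isOpen_image ξ U⟩

theorem preimage_opn (U : X.Opens) : ξ.i ⁻¹ᵁ opn ξ U = U := by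
  haveI := isClosedImmersion_i ξ
  exact TopologicalSpace.Opens.ext (Set.preimage_image_eq _ ξ.i.isEmbedding.injective)

theorem opn_preimage (V : ξ.total.Opens) : opn ξ (ξ.i ⁻¹ᵁ V) = V := by
  haveI := surjective_i ξ
  exact TopologicalSpace.Opens.ext (Set.image_preimage_eq _ ξ.i.surjective)

theorem opn_mono {U U' : X.Opens} (h : U' ≤ U) : opn ξ U' ≤ opn ξ U := Set.image_mono h

theorem isAffineOpen_opn {U : X.Opens} (hU : IsAffineOpen U) : IsAffineOpen (opn ξ U) := by
  haveI := isClosedImmersion_i ξ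
  haveI := surjective_i ξ
  haveI : IsClosedImmersion (ξ.i ∣_ opn ξ U) := IsZariskiLocalAtTarget.restrict (P := @IsClosedImmersion) inferInstance _
  haveI : Surjective (ξ.i ∣_ opn ξ U) := IsZariskiLocalAtTarget.restrict (P := @Surjective) inferInstance _
  haveI : IsAffine (ξ.i ⁻¹ᵁ opn ξ U).toScheme := by rw [preimage_opn]; exact hU
  exact NilAffine.isAffine_of_surjective (ξ.i ∣_ opn ξ U)

theorem preimage_opn_of_cart {g : A ⟶ B} {η : DefSch X x B} (c : DefFun.Cart g η ξ) (U : X.Opens) :
    c.m ⁻¹ᵁ opn ξ U = opn η U := by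
  rw [← opn_preimage η (c.m ⁻¹ᵁ opn ξ U), ← Scheme.Hom.comp_preimage]
  simp only [c.hi, preimage_opn]

theorem iso_preimage_opn {η : DefSch X x A} (e : DefSch.Iso ξ η) (U : X.Opens) :
    e.iso.hom ⁻¹ᵁ opn η U = opn ξ U := by
  rw [← opn_preimage ξ (e.iso.hom ⁻¹ᵁ opn η U), ← Scheme.Hom.comp_preimage]
  simp only [e.i_hom, preimage_opn]

/-- Reduction of sections to the closed fibre. -/
def toX (U : X.Opens) : Γ(ξ.total, opn ξ U) →+* Γ(X, U) := (ξ.i.appLE (opn ξ U) U (preimage_opn ξ U).ge).hom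

theorem toX_res {U U' : X.Opens} (h : U' ≤ U) (s : Γ(ξ.total, opn ξ U)) :
    X.presheaf.map (homOfLE h).op (toX ξ U s) =
      toX ξ U' (ξ.total.presheaf.map (homOfLE (opn_mono ξ h)).op s) := by
  change (ξ.i.appLE (opn ξ U) U _ ≫ X.presheaf.map (homOfLE h).op) s =
    (ξ.total.presheaf.map (homOfLE (opn_mono ξ h)).op ≫ ξ.i.appLE (opn ξ U') U' _) s
  rw [Scheme.Hom.appLE_map, Scheme.Hom.map_appLE]

theorem toX_str (U : X.Opens) (a : A) : toX ξ U (str ξ.f (opn ξ U) a) = str x U (A.res a) :=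
  str_comp A.res.toRingHom ξ.f x ξ.i ξ.isPullback.w _ a

theorem toX_surjective {U : X.Opens} (hU : IsAffineOpen U) : Function.Surjective (toX ξ U) :=
  (ker_app_of_pullback A.res.toRingHom A.res_surjective ξ.f ξ.i x ξ.isPullback (isAffineOpen_opn ξ hU)
    (preimage_opn ξ U).symm).2

theorem ker_toX {U : X.Opens} (hU : IsAffineOpen U) :
    RingHom.ker (toX ξ U) = (maximalIdeal A).map (str ξ.f (opn ξ U)) := by
  rw [show maximalIdeal A.carrier = RingHom.ker A.res.toRingHom from Ideal.ext fun a => A.mem_maximalIdeal_iff a]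
  exact (ker_app_of_pullback A.res.toRingHom A.res_surjective ξ.f ξ.i x ξ.isPullback (isAffineOpen_opn ξ hU)
    (preimage_opn ξ U).symm).1

theorem str_flat {U : X.Opens} (hU : IsAffineOpen U) : (str ξ.f (opn ξ U)).Flat := by
  haveI : Flat ξ.f := ξ.flat
  have h : (ξ.f.appLE ⊤ (opn ξ U) le_top).hom.Flat :=
    HasRingHomProperty.appLE (P := @Flat) ξ.f inferInstance ⟨⊤, isAffineOpen_top _⟩ ⟨_, isAffineOpen_opn ξ hU⟩ le_top
  exact RingHom.Flat.comp (RingHom.Flat.of_bijective
    (ConcreteCategory.bijective_of_isIso (Scheme.ΓSpecIso (CommRingCat.of A)).inv)) h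

/-- An element of the base kills only the expected sections. -/
theorem exists_of_str_mul_eq_zero {U : X.Opens} (hU : IsAffineOpen U) (t : A) {z : Γ(ξ.total, opn ξ U)}
    (hz : str ξ.f (opn ξ U) t * z = 0) :
    z ∈ Ideal.map (str ξ.f (opn ξ U)) (LinearMap.ker (LinearMap.mulLeft A.carrier (t : A.carrier)) : Ideal A.carrier) := by
  letI := (str ξ.f (opn ξ U)).toAlgebra
  haveI : Module.Flat A Γ(ξ.total, opn ξ U) := str_flat ξ hU
  let μ := LinearMap.mulLeft A.carrier (t : A.carrier)
  let T : Type u := Γ(ξ.total, opn ξ U)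
  have hex : Function.Exact (LinearMap.lTensor T (LinearMap.ker μ).subtype) (LinearMap.lTensor T μ) :=
    Module.Flat.lTensor_exact T (LinearMap.exact_subtype_ker_map μ)
  obtain ⟨w, hw⟩ := (hex (z ⊗ₜ (1 : A))).1 (by
    rw [LinearMap.lTensor_tmul, LinearMap.mulLeft_apply, mul_one]
    refine (TensorProduct.rid A.carrier T).injective ?_
    rw [TensorProduct.rid_tmul, map_zero]
    exact (Algebra.smul_def _ z).trans hz)
  have hz' : z = TensorProduct.rid A.carrier T (LinearMap.lTensor T (LinearMap.ker μ).subtype w) := by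
    rw [hw, TensorProduct.rid_tmul, one_smul]
  rw [hz']
  clear hw hz'
  induction w using TensorProduct.induction_on with
  | zero => simp
  | tmul y r =>
    rw [LinearMap.lTensor_tmul, TensorProduct.rid_tmul, Algebra.smul_def]
    exact Ideal.mul_mem_right _ _ (Ideal.mem_map_of_mem _ r.2)
  | add a b ha hb => rw [map_add, map_add]; exact add_mem ha hb

/-- Sections over a surjective base change. -/
theorem cart_app {g : A ⟶ B} (hg : Function.Surjective g) {η : DefSch X x B} (c : DefFun.Cart g η ξ) {U : X.Opens}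
    (hU : IsAffineOpen U) :
    RingHom.ker (c.m.appLE (opn ξ U) (opn η U) (preimage_opn_of_cart ξ c U).ge).hom =
        (RingHom.ker g.toAlgHom.toRingHom).map (str ξ.f (opn ξ U)) ∧
      Function.Surjective (c.m.appLE (opn ξ U) (opn η U) (preimage_opn_of_cart ξ c U).ge) :=
  ker_app_of_pullback g.toAlgHom.toRingHom hg ξ.f c.m η.f c.h (isAffineOpen_opn ξ hU)
    (preimage_opn_of_cart ξ c U).symm

end Groth.Agent.DefLift
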