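import Groth.Agent.OmegaLib.FiniteType
import Groth.Agent.KosExt.Hom
import Groth.Agent.DefLift.Pieces
import Mathlib

/-!
# Maps out of the sheaf of differentials from derivations on affine opens
-/

set_option autoImplicit false
set_option linter.style.haveILetI false
set_option backward.isDefEq.respectTransparency false
universe u

open CategoryTheory CategoryTheory.Limits AlgebraicGeometry

noncomputable section

namespace Groth.Agent.DefLift

open Groth.Agent.QC

variable {R : Type u} [CommRing R] {X : Scheme.{u}} (x : X ⟶ Spec (CommRingCat.of R)) [QuasiSeparated x]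
  {F : X.Modules}

omit [QuasiSeparated x] in
theorem appLE_top_eq_str (U : X.Opens) (c : Γ(Spec (CommRingCat.of R), ⊤)) :
    x.appLE ⊤ U le_top c = str x U ((Scheme.ΓSpecIso (CommRingCat.of R)).hom c) := by
  change _ = x.appLE ⊤ U le_top ((Scheme.ΓSpecIso (CommRingCat.of R)).inv ((Scheme.ΓSpecIso (CommRingCat.of R)).hom c))
  rw [Iso.hom_inv_id_apply]

/-- The differentials of functions span the sections over an affine open. -/
theorem span_dSect (U : X.affineOpens) :
    Submodule.span Γ(X, U.1) (Set.range fun a => OmegaSh.dSect x U.1 a) = ⊤ := by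
  letI : Algebra Γ(Spec (CommRingCat.of R), ⊤) Γ(X, U.1) := (x.appLE ⊤ U.1 le_top).hom.toAlgebra
  obtain ⟨L, hL⟩ := OmegaLib.exists_linearEquiv (OmegaLib.isUniversal_dOmega x) le_top U.2 (isAffineOpen_top _)
  refine Submodule.map_injective_of_injective (f := L.toLinearMap) L.injective ?_
  rw [Submodule.map_span, Submodule.map_top, LinearEquiv.range, ← Set.range_comp]
  convert KaehlerDifferential.span_range_derivation Γ(Spec (CommRingCat.of R), ⊤) Γ(X, U.1) using 2
  exact congrArg Set.range (funext fun a => hL a)

/-- A map out of the differentials is determined by its values on the differentials of functions. -/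
theorem hom_ext_dSect {α β : Omega.sheaf x ⟶ F}
    (h : ∀ (U : X.affineOpens) a, α.app U.1 (OmegaSh.dSect x U.1 a) = β.app U.1 (OmegaSh.dSect x U.1 a)) :
    α = β := by
  refine KosExt.hom_ext_affine fun U s => ?_
  have hs : s ∈ Submodule.span Γ(X, U.1) (Set.range fun a => OmegaSh.dSect x U.1 a) := by
    rw [span_dSect x U]; trivial
  induction hs using Submodule.span_induction with
  | mem y hy => obtain ⟨a, rfl⟩ := hy; exact h U a
  | zero => rw [map_zero, map_zero]
  | add y z _ _ hy hz => rw [map_add, map_add, hy, hz]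
  | smul c y _ hy => rw [Scheme.Modules.Hom.app_smul, Scheme.Modules.Hom.app_smul, hy]

/-- Compatible derivations on the affine opens define a map out of the differentials. -/
theorem exists_hom_of_der (D : ∀ U : X.affineOpens, Γ(X, U.1) →+ Γ(F, U.1))
    (hmul : ∀ (U : X.affineOpens) a b, D U (a * b) = a • D U b + b • D U a)
    (hc : ∀ (U : X.affineOpens) c, D U (str x U.1 c) = 0)
    (hres : ∀ (U V : X.affineOpens) (h : V.1 ≤ U.1) a, res F h (D U a) = D V (resO X h a)) :
    ∃ α : Omega.sheaf x ⟶ F, ∀ (U : X.affineOpens) a, α.app U.1 (OmegaSh.dSect x U.1 a) = D U a := by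
  have key : ∀ U : X.affineOpens, ∃ ψ : Γ(Omega.sheaf x, U.1) →ₗ[Γ(X, U.1)] Γ(F, U.1),
      ∀ a, ψ (OmegaSh.dSect x U.1 a) = D U a := fun U => by
    letI : Algebra Γ(Spec (CommRingCat.of R), ⊤) Γ(X, U.1) := (x.appLE ⊤ U.1 le_top).hom.toAlgebra
    letI : Module Γ(Spec (CommRingCat.of R), ⊤) Γ(F, U.1) :=
      Module.compHom _ (algebraMap Γ(Spec (CommRingCat.of R), ⊤) Γ(X, U.1))
    haveI : IsScalarTower Γ(Spec (CommRingCat.of R), ⊤) Γ(X, U.1) Γ(F, U.1) :=
      IsScalarTower.of_algebraMap_smul fun r m => rfl
    obtain ⟨L, hL⟩ := OmegaLib.exists_linearEquiv (OmegaLib.isUniversal_dOmega x) le_top U.2 (isAffineOpen_top _)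
    let δ : Derivation Γ(Spec (CommRingCat.of R), ⊤) Γ(X, U.1) Γ(F, U.1) :=
      Derivation.mk'
        { toFun := D U
          map_add' := map_add _
          map_smul' := fun r m => by
            rw [Algebra.smul_def, hmul, RingHom.algebraMap_toAlgebra,
              show (x.appLE ⊤ U.1 le_top).hom r = x.appLE ⊤ U.1 le_top r from rfl, appLE_top_eq_str, hc, smul_zero,
              add_zero, ← appLE_top_eq_str]
            rfl }
        (hmul U)
    refine ⟨δ.liftKaehlerDifferential.comp L.toLinearMap, fun a => ?_⟩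
    change δ.liftKaehlerDifferential (L _) = _
    rw [show OmegaSh.dSect x U.1 a = (OmegaSh.dOmega x).app U.1 a from rfl, hL,
      Derivation.liftKaehlerDifferential_comp_D]
    rfl
  choose ψ hψ using key
  obtain ⟨α, hα⟩ := KosExt.exists_hom_affine (Omega.sheaf x) F ψ fun U V h s => by
    have hs : s ∈ Submodule.span Γ(X, U.1) (Set.range fun a => OmegaSh.dSect x U.1 a) := by
      rw [span_dSect x U]; trivial
    induction hs using Submodule.span_induction with
    | mem y hy =>
      obtain ⟨a, rfl⟩ := hy
      rw [hψ, hres]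
      refine (hψ V _).symm.trans ?_
      exact congrArg (ψ V) (OmegaSh.dSect_map x h a)
    | zero => simp only [map_zero]
    | add y z _ _ hy hz => simp only [map_add, hy, hz]
    | smul c y _ hy => rw [map_smul, res_smul, res_smul, map_smul, hy]
  exact ⟨α, fun U a => (hα U _).trans (hψ U a)⟩

end Groth.Agent.DefLift
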