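import Groth.Agent.DefLift.Acyclic
import Groth.Agent.OmegaLib.FiniteType
import Groth.Agent.OmegaLib.Compat
import Mathlib

/-!
# Splitting Čech cocycles of derivations
-/

set_option autoImplicit false
set_option linter.style.haveILetI false
set_option backward.isDefEq.respectTransparency false
universe u

open CategoryTheory CategoryTheory.Limits AlgebraicGeometry TopologicalSpace Abelian

noncomputable section

namespace Groth.Agent.DefLift

open Groth.Agent.QC

variable {X S : Scheme.{u}} {f : X ⟶ S}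

/-- A natural family of derivations relative to the base on the affine opens inside `O`. -/
@[ext]
structure LocDer (f : X ⟶ S) (G : X.Modules) (O : X.Opens) : Type u where
  app : ∀ W : X.affineOpens, W.1 ≤ O → (Γ(X, W.1) →+ Γ(G, W.1))
  app_mul : ∀ (W : X.affineOpens) (hW : W.1 ≤ O) (a b : Γ(X, W.1)),
    app W hW (a * b) = a • app W hW b + b • app W hW a
  app_base : ∀ (W : X.affineOpens) (hW : W.1 ≤ O) (V : S.affineOpens) (e : W.1 ≤ f ⁻¹ᵁ V.1) (c : Γ(S, V.1)),
    app W hW (f.appLE V.1 W.1 e c) = 0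
  res_app : ∀ (W W' : X.affineOpens) (hW : W.1 ≤ O) (h : W'.1 ≤ W.1) (a : Γ(X, W.1)),
    res G h (app W hW a) = app W' (h.trans hW) (resO X h a)

variable {G : X.Modules} [QuasiSeparated f]

theorem linear_ext_dSect (W : X.affineOpens) (V : S.affineOpens) (e : W.1 ≤ f ⁻¹ᵁ V.1)
    {φ ψ : Γ(Omega.sheaf f, W.1) →ₗ[Γ(X, W.1)] Γ(G, W.1)}
    (h : ∀ a, φ (OmegaSh.dSect f W.1 a) = ψ (OmegaSh.dSect f W.1 a)) : φ = ψ :=
  LinearMap.ext_on (OmegaLib.span_app (OmegaLib.isUniversal_dOmega f) e W.2 V.2) (by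
    rintro _ ⟨a, rfl⟩
    exact h a)

theorem exists_linear_of_der (W : X.affineOpens) (V : S.affineOpens) (e : W.1 ≤ f ⁻¹ᵁ V.1)
    (D : Γ(X, W.1) →+ Γ(G, W.1)) (hmul : ∀ a b, D (a * b) = a • D b + b • D a)
    (hc : ∀ c : Γ(S, V.1), D (f.appLE V.1 W.1 e c) = 0) :
    ∃ ψ : Γ(Omega.sheaf f, W.1) →ₗ[Γ(X, W.1)] Γ(G, W.1), ∀ a, ψ (OmegaSh.dSect f W.1 a) = D a := by
  letI : Algebra Γ(S, V.1) Γ(X, W.1) := (f.appLE V.1 W.1 e).hom.toAlgebra
  letI : Module Γ(S, V.1) Γ(G, W.1) := Module.compHom _ (algebraMap Γ(S, V.1) Γ(X, W.1))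
  haveI : IsScalarTower Γ(S, V.1) Γ(X, W.1) Γ(G, W.1) := IsScalarTower.of_algebraMap_smul fun r m => rfl
  obtain ⟨L, hL⟩ := OmegaLib.exists_linearEquiv (OmegaLib.isUniversal_dOmega f) e W.2 V.2
  let δ : Derivation Γ(S, V.1) Γ(X, W.1) Γ(G, W.1) :=
    Derivation.mk'
      { toFun := D
        map_add' := map_add _
        map_smul' := fun r m => by
          rw [Algebra.smul_def, hmul, RingHom.algebraMap_toAlgebra,
            show (f.appLE V.1 W.1 e).hom r = f.appLE V.1 W.1 e r from rfl, hc, smul_zero, add_zero]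
          rfl }
      hmul
  refine ⟨δ.liftKaehlerDifferential.comp L.toLinearMap, fun a => ?_⟩
  change δ.liftKaehlerDifferential (L _) = _
  rw [show OmegaSh.dSect f W.1 a = (OmegaSh.dOmega f).app W.1 a from rfl, hL,
    Derivation.liftKaehlerDifferential_comp_D]
  rfl

/-- Derivations on opens over an affine open of the base are local homomorphisms from the differentials. -/
theorem exists_locHom {O : X.Opens} (V : S.affineOpens) (hO : O ≤ f ⁻¹ᵁ V.1) (D : LocDer f G O) :
    ∃ ψ : LocHom (Omega.sheaf f) G O, ∀ W hW a, ψ.app W hW (OmegaSh.dSect f W.1 a) = D.app W hW a := by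
  choose ψ hψ using fun (W : X.affineOpens) (hW : W.1 ≤ O) =>
    exists_linear_of_der W V (hW.trans hO) (D.app W hW) (D.app_mul W hW) (D.app_base W hW V (hW.trans hO))
  refine ⟨⟨ψ, fun W W' hW h s => ?_⟩, hψ⟩
  have hs : s ∈ Submodule.span Γ(X, W.1) (Set.range ((OmegaSh.dOmega f).app W.1)) := by
    rw [OmegaLib.span_app (OmegaLib.isUniversal_dOmega f) (hW.trans hO) W.2 V.2]; trivial
  induction hs using Submodule.span_induction with
  | mem y hy =>
    obtain ⟨a, rfl⟩ := hy
    refine (congrArg (res G h) (hψ W hW a)).trans ((D.res_app W W' hW h a).trans ((hψ W' _ _).symm.trans ?_))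
    exact congrArg (ψ W' _) (OmegaSh.dSect_map f h a)
  | zero => simp only [map_zero]
  | add y z _ _ hy hz => simp only [map_add, hy, hz]
  | smul c y _ hy => rw [map_smul, res_smul, res_smul, map_smul, hy]

theorem dSect_base (W : X.affineOpens) (V : S.affineOpens) (e : W.1 ≤ f ⁻¹ᵁ V.1) (c : Γ(S, V.1)) :
    OmegaSh.dSect f W.1 (f.appLE V.1 W.1 e c) = 0 :=
  OmegaLib.app_appLE (OmegaSh.dOmega f) e c

/-- The derivations of a local homomorphism from the differentials. -/
def LocHom.toDer {O : X.Opens} (ψ : LocHom (Omega.sheaf f) G O) : LocDer f G O where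
  app W hW := AddMonoidHom.mk' (fun a => ψ.app W hW (OmegaSh.dSect f W.1 a)) fun a b => by
    rw [OmegaSh.dSect_add, map_add]
  app_mul W hW a b := by
    change ψ.app W hW _ = _
    rw [OmegaSh.dSect_mul, map_add, map_smul, map_smul]
    rfl
  app_base W hW V e c := by
    change ψ.app W hW _ = _
    rw [dSect_base W V e c, map_zero]
  res_app W W' hW h a := by
    change res G h (ψ.app W hW _) = _
    rw [ψ.res_app]
    exact congrArg (ψ.app W' _) (OmegaSh.dSect_map f h a).symm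

variable {ι : Type u} (U : ι → X.Opens) (Vb : ι → S.affineOpens)

/-- A one cocycle of derivations splits when the first Ext group vanishes. -/
theorem exists_der_split_one [HasExt.{u} X.Modules] (hV : ∀ i, U i ≤ f ⁻¹ᵁ (Vb i).1) (hcov : ⨆ i, U i = ⊤)
    (h : Subsingleton (Ext (Omega.sheaf f) G 1)) (D : ∀ i j, LocDer f G (U i ⊓ U j))
    (hD : ∀ (i j l : ι) (W : X.affineOpens) (hi : W.1 ≤ U i) (hj : W.1 ≤ U j) (hl : W.1 ≤ U l) (a : Γ(X, W.1)),
      (D i l).app W (le_inf hi hl) a = (D i j).app W (le_inf hi hj) a + (D j l).app W (le_inf hj hl) a) :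
    ∃ E : ∀ i, LocDer f G (U i), ∀ (i j : ι) (W : X.affineOpens) (hi : W.1 ≤ U i) (hj : W.1 ≤ U j) (a : Γ(X, W.1)),
      (D i j).app W (le_inf hi hj) a = (E j).app W hj a - (E i).app W hi a := by
  choose ψ hψ using fun i j => exists_locHom (Vb i) (inf_le_left.trans (hV i)) (D i j)
  obtain ⟨η, hη⟩ := exists_split_one U hcov h ψ fun i j l W hi hj hl s => by
    refine LinearMap.congr_fun (linear_ext_dSect W (Vb i) (hi.trans (hV i))
      (φ := (ψ i l).app W (le_inf hi hl)) (ψ := (ψ i j).app W (le_inf hi hj) + (ψ j l).app W (le_inf hj hl))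
      fun a => ?_) s
    rw [LinearMap.add_apply, hψ, hψ, hψ]
    exact hD i j l W hi hj hl a
  exact ⟨fun i => (η i).toDer, fun i j W hi hj a => (hψ i j W _ a).symm.trans (hη i j W hi hj _)⟩

/-- A two cocycle of derivations splits when the second Ext group vanishes. -/
theorem exists_der_split_two [HasExt.{u} X.Modules] (hV : ∀ i, U i ≤ f ⁻¹ᵁ (Vb i).1) (hU : ∀ i, IsAffineOpen (U i))
    (hcov : ⨆ i, U i = ⊤) (hΩ : FlatMod.IsFinLocFree (Omega.sheaf f)) (hG : Coh.IsQCoh G)
    (h : Subsingleton (Ext (Omega.sheaf f) G 2)) (D : ∀ i j l, LocDer f G (U i ⊓ U j ⊓ U l))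
    (hD : ∀ (i j l m : ι) (W : X.affineOpens) (hi : W.1 ≤ U i) (hj : W.1 ≤ U j) (hl : W.1 ≤ U l) (hm : W.1 ≤ U m)
      (a : Γ(X, W.1)),
      (D j l m).app W (le_inf (le_inf hj hl) hm) a - (D i l m).app W (le_inf (le_inf hi hl) hm) a +
        (D i j m).app W (le_inf (le_inf hi hj) hm) a - (D i j l).app W (le_inf (le_inf hi hj) hl) a = 0) :
    ∃ E : ∀ i j, LocDer f G (U i ⊓ U j), ∀ (i j l : ι) (W : X.affineOpens) (hi : W.1 ≤ U i) (hj : W.1 ≤ U j)
      (hl : W.1 ≤ U l) (a : Γ(X, W.1)),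
      (D i j l).app W (le_inf (le_inf hi hj) hl) a =
        (E j l).app W (le_inf hj hl) a - (E i l).app W (le_inf hi hl) a + (E i j).app W (le_inf hi hj) a := by
  choose ψ hψ using fun i j l => exists_locHom (Vb i) ((inf_le_left.trans inf_le_left).trans (hV i)) (D i j l)
  obtain ⟨η, hη⟩ := exists_split_two U hcov h (ext_one_cech_zero hΩ hG U hU) ψ fun i j l m W hi hj hl hm s => by
    refine LinearMap.congr_fun (linear_ext_dSect W (Vb i) (hi.trans (hV i))
      (φ := (ψ j l m).app W (le_inf (le_inf hj hl) hm) - (ψ i l m).app W (le_inf (le_inf hi hl) hm) +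
        (ψ i j m).app W (le_inf (le_inf hi hj) hm) - (ψ i j l).app W (le_inf (le_inf hi hj) hl)) (ψ := 0)
      fun a => ?_) s
    simp only [LinearMap.sub_apply, LinearMap.add_apply, LinearMap.zero_apply, hψ]
    exact hD i j l m W hi hj hl hm a
  exact ⟨fun i j => (η i j).toDer, fun i j l W hi hj hl a =>
    (hψ i j l W _ a).symm.trans (hη i j l W hi hj hl _)⟩

end Groth.Agent.DefLift
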