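import Groth.Agent.DefLift.TwistSurj
import Groth.Agent.AVOmega.Push
import Mathlib

/-!
# The tangent space of deformations of a smooth scheme
-/

set_option autoImplicit false
set_option linter.style.haveILetI false
set_option linter.unusedSectionVars false
set_option backward.isDefEq.respectTransparency false
set_option synthInstance.maxHeartbeats 400000
set_option maxHeartbeats 1600000
universe u

open CategoryTheory CategoryTheory.Limits AlgebraicGeometry Opposite TopologicalSpace TensorProduct Abelian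

noncomputable section

namespace Groth.Agent.DefLift

open Groth.Agent.QC Groth.Agent.CechShRes ArtFun ArtFun.Art Groth.Agent.DefFun Groth.Agent.ArtKit

variable {k : Type u} [Field k] {X : Scheme.{u}} [X.Over (Spec (CommRingCat.of k))]
  [Smooth (X ↘ Spec (CommRingCat.of k))] [IsSeparated (X ↘ Spec (CommRingCat.of k))]

attribute [local instance] algSec

theorem eps_smul (r : k) : (Art.scale r : (Art.dual k k : Art k k) ⟶ _) eps = r • eps := by
  show Art.tszeMap _ (DualNumber.eps : DualNumber k) = r • (DualNumber.eps : DualNumber k)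
  refine TrivSqZeroExt.ext ?_ ?_ <;> simp [Art.tszeMap]

/-- Deformation classes scale with the cocycle. -/
theorem map_scale_clOf (r : k) (c : cocHom k X) :
    (defFunctor X (X ↘ Spec (CommRingCat.of k))).map (Art.scale r) (clOf c) = clOf (r • c) := by
  refine (map_twCl _ eps_mul res_eps (Art.scale r) _ (fun _ _ => dual_sqzero _ _ ((Art.res_app _ _).trans rfl) ((Art.res_app _ _).trans rfl))
    (fun _ => (Art.res_app _ _).trans rfl)).trans (twCl_congr _ _ _ _ _ _ _ _ fun {W W'} hW s => ?_)
  simp only [Fin.sum_univ_one, cocDer_smul, eps_smul, tmul_smul, smul_tmul']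

/-- The two infinitesimals. -/
abbrev eps2 : Fin 2 → (Art.dual2 k k : Art k k) :=
  ![((TrivSqZeroExt.inr (1, 0) : TrivSqZeroExt k (k × k))), ((TrivSqZeroExt.inr (0, 1) : TrivSqZeroExt k (k × k)))]

theorem res_eps2 : ∀ l, (Art.dual2 k k).res (eps2 (k := k) l) = 0 := fun l => by fin_cases l <;> rfl

/-- Addition of deformation classes. -/
theorem exists_pair_clOf (c c' : cocHom k X) :
    ∃ z : (defFunctor X (X ↘ Spec (CommRingCat.of k))).obj (Art.dual2 k k),
      (defFunctor X (X ↘ Spec (CommRingCat.of k))).map Art.pr₁ z = clOf c ∧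
      (defFunctor X (X ↘ Spec (CommRingCat.of k))).map Art.pr₂ z = clOf c' ∧
      (defFunctor X (X ↘ Spec (CommRingCat.of k))).map Art.plus z = clOf (c + c') := by
  have hee : ∀ i j, eps2 (k := k) i * eps2 j = 0 := fun i j => dual2_sqzero _ _ (res_eps2 i) (res_eps2 j)
  have h1 : (Art.pr₁ : (Art.dual2 k k : Art k k) ⟶ _) (eps2 0) = eps ∧ (Art.pr₁ : (Art.dual2 k k : Art k k) ⟶ _) (eps2 1) = 0 := by
    refine ⟨?_, ?_⟩ <;>
      refine @TrivSqZeroExt.ext k k _ _ ?_ ?_ <;> rfl
  have h2 : (Art.pr₂ : (Art.dual2 k k : Art k k) ⟶ _) (eps2 0) = 0 ∧ (Art.pr₂ : (Art.dual2 k k : Art k k) ⟶ _) (eps2 1) = eps := by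
    refine ⟨?_, ?_⟩ <;>
      refine @TrivSqZeroExt.ext k k _ _ ?_ ?_ <;> rfl
  have h3 : (Art.plus : (Art.dual2 k k : Art k k) ⟶ _) (eps2 0) = eps ∧ (Art.plus : (Art.dual2 k k : Art k k) ⟶ _) (eps2 1) = eps := by
    refine ⟨?_, ?_⟩
    · refine @TrivSqZeroExt.ext k k _ _ rfl ?_
      exact add_zero (1 : k)
    · refine @TrivSqZeroExt.ext k k _ _ rfl ?_
      exact zero_add (1 : k)
  refine ⟨twCl eps2 hee res_eps2 ![cocOf c, cocOf c'], ?_, ?_, ?_⟩
  · refine (map_twCl _ _ _ Art.pr₁ _ (fun i j => dual_sqzero _ _ ((Art.res_app _ _).trans (res_eps2 i)) ((Art.res_app _ _).trans (res_eps2 j)))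
      (fun l => (Art.res_app _ _).trans (res_eps2 l))).trans (twCl_congr _ _ _ _ _ _ _ _ fun {W W'} hW s => ?_)
    rw [Fin.sum_univ_two, Fin.sum_univ_one, h1.1, h1.2, tmul_zero, add_zero]
    rfl
  · refine (map_twCl _ _ _ Art.pr₂ _ (fun i j => dual_sqzero _ _ ((Art.res_app _ _).trans (res_eps2 i)) ((Art.res_app _ _).trans (res_eps2 j)))
      (fun l => (Art.res_app _ _).trans (res_eps2 l))).trans (twCl_congr _ _ _ _ _ _ _ _ fun {W W'} hW s => ?_)
    rw [Fin.sum_univ_two, Fin.sum_univ_one, h2.1, h2.2, tmul_zero, zero_add]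
    rfl
  · refine (map_twCl _ _ _ Art.plus _ (fun i j => dual_sqzero _ _ ((Art.res_app _ _).trans (res_eps2 i)) ((Art.res_app _ _).trans (res_eps2 j)))
      (fun l => (Art.res_app _ _).trans (res_eps2 l))).trans (twCl_congr _ _ _ _ _ _ _ _ fun {W W'} hW s => ?_)
    rw [Fin.sum_univ_two, Fin.sum_univ_one, h3.1, h3.2, cocDer_add, ← add_tmul]
    rfl

variable [TangentStr (defFunctor (Λ := k) X (X ↘ Spec (CommRingCat.of k)))]

/-- Cocycles give first order deformations linearly. -/
def clLin : cocHom k X →ₗ[k] TangentSpace (defFunctor (Λ := k) X (X ↘ Spec (CommRingCat.of k))) where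
  toFun c := TangentSpace.mk (clOf c)
  map_add' c c' := by
    obtain ⟨z, h1, h2, h3⟩ := exists_pair_clOf c c'
    have := TangentStr.add_eq (F := defFunctor (Λ := k) X (X ↘ Spec (CommRingCat.of k))) z
    rw [h1, h2, h3] at this
    exact this.symm
  map_smul' r c := (map_scale_clOf r c).symm.trans
    (TangentStr.smul_eq (F := defFunctor (Λ := k) X (X ↘ Spec (CommRingCat.of k))) r (clOf c)).symm

/-- The tangent space of deformations of a smooth separated scheme is the first Ext group of its differentials. -/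
theorem nonempty_tangent_ext [HasExt.{u} X.Modules] :
    Nonempty (TangentSpace (defFunctor (Λ := k) X (X ↘ Spec (CommRingCat.of k))) ≃ₗ[k]
      Ext (Omega.sheaf (X ↘ Spec (CommRingCat.of k))) (Coh.structureModule X) 1) := by
  have hcov : ⨆ W, affCov X W = ⊤ := iSup_affineOpens_eq_top X
  haveI := mono_aug (affCov X) (Coh.structureModule X) hcov
  obtain ⟨Φ, hΦ, hker⟩ := exists_cocycle_ext k (K := affCech X) _ (aug_d (affCov X) (Coh.structureModule X))
    (exact_zero _ _ hcov) (exact_succ _ _ hcov 0)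
    (ext_one_cech_zero (AVOmega.isFinLocFree_omega (X ↘ Spec (CommRingCat.of k))) (Devissage.isCoh_unit X).1
      (affCov X) fun W => W.2)
  have hsurj : Function.Surjective (clLin (k := k) (X := X)) := fun t => by
    induction t using Quotient.inductionOn with
    | h η =>
      obtain ⟨c, hc⟩ := exists_clOf_eq η
      exact ⟨c, hc⟩
  have hk : LinearMap.ker (clLin (k := k) (X := X)) = LinearMap.ker Φ := by
    ext c
    rw [LinearMap.mem_ker, LinearMap.mem_ker, hker, ← map_zero (clLin (k := k) (X := X))]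
    exact ⟨exists_split_of_clOf_eq c, fun ⟨b, hb⟩ => clOf_eq_of_boundary c b hb⟩
  exact ⟨((LinearMap.quotKerEquivOfSurjective _ hsurj).symm.trans (Submodule.quotEquivOfEq _ _ hk)).trans
    (LinearMap.quotKerEquivOfSurjective Φ hΦ)⟩

end Groth.Agent.DefLift
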