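import Groth.Agent.DefFun.Marked
import Groth.Agent.DefFun.Basic
import Groth.Agent.ArtKit.Tangent
import Groth.Agent.DefLift.TwistLin
import Groth.Agent.SerrePn.SheafHomExt
import Mathlib

/-!
# The number of extensions of a deformation of a smooth scheme
-/

set_option autoImplicit false
set_option linter.style.haveILetI false
set_option backward.isDefEq.respectTransparency false
set_option synthInstance.maxHeartbeats 400000
universe u

open CategoryTheory CategoryTheory.Limits AlgebraicGeometry TensorProduct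

noncomputable section

namespace Groth.Agent.DefLift

open ArtFun ArtFun.Art Groth.Agent.ArtKit

/-- The kernel of a semismall extension as an infinitesimal split extension. -/
theorem exists_split_fibreProd {k : Type u} [Field k] {C' C : Art k k} (p : C' ⟶ C) (hp : IsSemismallExt p) :
    ∃ (d : ℕ) (_ : ↥(RingHom.ker p.toAlgHom) ≃ₗ[k] (Fin d → k)) (P : Art k k) (p₁ p₂ : P ⟶ C')
      (g : P ⟶ dualN k k d), IsFibreProd p₁ p₂ p p ∧ IsFibreProd p₁ g (toBase C') (toBase (dualN k k d)) := by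
  classical
  obtain ⟨hs, hm⟩ := hp
  haveI : Module.Finite k C' := ArtFib.module_finite C'
  haveI : Module.Finite k ↥(RingHom.ker p.toAlgHom) :=
    Module.Finite.of_injective ((Submodule.subtype (RingHom.ker p.toAlgHom)).restrictScalars k) Subtype.val_injective
  let e := (Module.finBasis k ↥(RingHom.ker p.toAlgHom)).equivFun
  obtain ⟨P, p₁, p₂, hP⟩ := ArtFib.exists_isFibreProd_of_surjective p p hs
  let J := RingHom.ker p.toAlgHom
  let c : P → J := fun z => ⟨p₂ z - p₁ z, by
    rw [RingHom.mem_ker, map_sub, sub_eq_zero]; exact (hP.w_apply z).symm⟩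
  have hmul : ∀ (a : C') (t : J), a * (t : C') = C'.res a • (t : C') := fun a t => by
    have h0 : (a - algebraMap k C' (C'.res a)) * (t : C') = 0 := Ideal.mem_bot.1 (hm ▸
      Ideal.mul_mem_mul ((C'.mem_maximalIdeal_iff _).2 (by
        rw [map_sub, AlgHom.commutes, Algebra.algebraMap_self_apply, sub_self])) t.2)
    rw [sub_mul, sub_eq_zero] at h0
    rw [h0, Algebra.smul_def]
  have hcl : ∀ z w, c (z * w) = P.res z • c w + P.res w • c z := fun z w => Subtype.ext (by
    show p₂ (z * w) - p₁ (z * w) = P.res z • (c w : C') + P.res w • (c z : C')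
    rw [← Art.res_app p₂ z, ← Art.res_app p₁ w, ← hmul, ← hmul, map_mul, map_mul]
    show _ = p₂ z * (p₂ w - p₁ w) + p₁ w * (p₂ z - p₁ z)
    ring)
  have hca : ∀ z w, c (z + w) = c z + c w := fun z w => Subtype.ext (by
    show p₂ (z + w) - p₁ (z + w) = (p₂ z - p₁ z) + (p₂ w - p₁ w)
    rw [map_add, map_add]; abel)
  have hcc : ∀ r : k, c (algebraMap k P r) = 0 := fun r => Subtype.ext (by
    show p₂ _ - p₁ _ = (0 : C')
    rw [AlgHom.commutes, AlgHom.commutes, sub_self])
  let G : P →ₐ[k] TrivSqZeroExt k (Fin _ → k) :=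
    { toFun := fun z => (P.res z, e (c z))
      map_one' := TrivSqZeroExt.ext (map_one P.res) (by
        show e (c 1) = 0
        rw [← map_one (algebraMap k P), hcc, map_zero])
      map_zero' := TrivSqZeroExt.ext (map_zero P.res) (by
        show e (c 0) = 0
        rw [← map_zero (algebraMap k P), hcc, map_zero])
      map_add' := fun z w => TrivSqZeroExt.ext (map_add P.res z w) (by
        show e (c (z + w)) = e (c z) + e (c w)
        rw [hca, map_add])
      map_mul' := fun z w => TrivSqZeroExt.ext (map_mul P.res z w) (by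
        show e (c (z * w)) = P.res z • e (c w) + MulOpposite.op (P.res w) • e (c z)
        rw [hcl, map_add, map_smul, map_smul, op_smul_eq_smul])
      commutes' := fun r => TrivSqZeroExt.ext (P.res.commutes r) (by
        show e (c (algebraMap k P r)) = _
        rw [hcc, map_zero, TrivSqZeroExt.algebraMap_eq_inl', TrivSqZeroExt.snd_inl]) }
  let g : P ⟶ dualN k k _ := Art.homMk G (AlgHom.ext fun z => rfl)
  refine ⟨_, e, P, p₁, p₂, g, hP, ⟨?_, fun z w e₁ e₂ => hP.inj z w e₁ ?_, fun b dd h => ?_⟩⟩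
  · rw [Art.eq_toBase (p₁ ≫ toBase C'), Art.eq_toBase (g ≫ toBase _)]
  · have h' : c z = c w := e.injective (congrArg TrivSqZeroExt.snd e₂)
    have h'' : p₂ z - p₁ z = p₂ w - p₁ w := congrArg Subtype.val h'
    rw [e₁] at h''
    exact sub_left_inj.1 h''
  · let t : J := e.symm (TrivSqZeroExt.snd (show TrivSqZeroExt k (Fin _ → k) from dd))
    have hpt : p (t : C') = 0 := RingHom.mem_ker.1 t.2
    obtain ⟨z, hz₁, hz₂⟩ := hP.surj b (b + t) (by rw [map_add, hpt, add_zero])
    refine ⟨z, hz₁, TrivSqZeroExt.ext ((Art.res_app p₁ z).symm.trans ((congrArg C'.res hz₁).trans h)) ?_⟩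
    show e (c z) = _
    have hc : c z = t := Subtype.ext (by show p₂ z - p₁ z = (t : C'); rw [hz₁, hz₂]; abel)
    rw [hc]
    exact e.apply_symm_apply _

/-- Extensions of a deformation of a smooth separated scheme are counted by `H¹(T) ⊗ J`. -/
theorem nonempty_ext_hh {k : Type u} [Field k] (X₀ : Scheme.{u}) [X₀.Over (Spec (CommRingCat.of k))]
    [IsSeparated (X₀ ↘ Spec (CommRingCat.of k))] [Smooth (X₀ ↘ Spec (CommRingCat.of k))]
    [DCoh.HasSheafHom (Omega.sheaf (X₀ ↘ Spec (CommRingCat.of k)))] {C' C : Art k k} (p : C' ⟶ C)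
    (hp : IsSemismallExt p) (𝒳 : DefSch X₀ (X₀ ↘ Spec (CommRingCat.of k)) C)
    (hne : ∃ 𝒳' : DefSch X₀ (X₀ ↘ Spec (CommRingCat.of k)) C', Nonempty ((𝒳'.baseChange p).Iso 𝒳)) :
    Nonempty (Quot (DefFun.extRel p 𝒳) ≃
      (Coh.HH X₀ ((DCoh.sheafHom (Omega.sheaf (X₀ ↘ Spec (CommRingCat.of k)))).obj (Coh.structureModule X₀)) 1 ⊗[k]
        ↥(RingHom.ker p.toAlgHom))) := by
  obtain ⟨X₁, ⟨φ₀⟩⟩ := hne
  obtain ⟨d, e, P, p₁, p₂, g, hP, hD⟩ := exists_split_fibreProd p hp
  obtain ⟨e₀⟩ := DefFun.nonempty_ext_equiv hP hp.1 hD X₁ φ₀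
  let F := defFunctor (Λ := k) X₀ (X₀ ↘ Spec (CommRingCat.of k))
  obtain ⟨T⟩ := ArtKit.nonempty_tangentStr (F := F) (DefFun.h0 X₀ _) (DefFun.heps X₀ _)
  letI := T
  haveI := SerrePn.enoughInjectives (X := X₀)
  haveI : HasExt.{u} X₀.Modules := hasExt_of_enoughInjectives _
  obtain ⟨e₁⟩ := nonempty_tangent_ext (k := k) (X := X₀)
  obtain ⟨e₂⟩ := SerrePn.ext_equiv_hh k (Omega.sheaf (X₀ ↘ Spec (CommRingCat.of k)))
    (AVOmega.isFinLocFree_omega _) 1 (Coh.structureModule X₀)
  let e₃ : F.obj (dualN k k d) ≃ (Fin d → TangentSpace F) :=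
    Equiv.ofBijective _ (DefFun.dualN_elt_bijective (DefFun.h0 X₀ _) (DefFun.heps X₀ _) d)
  exact ⟨e₀.trans (e₃.trans ((Equiv.piCongrRight fun _ : Fin d => (e₁.trans e₂).toEquiv).trans
    ((TensorProduct.piScalarRight k k
      (Coh.HH X₀ ((DCoh.sheafHom (Omega.sheaf (X₀ ↘ Spec (CommRingCat.of k)))).obj (Coh.structureModule X₀)) 1)
      (Fin d)).symm.trans (TensorProduct.congr (LinearEquiv.refl k _) e.symm)).toEquiv))⟩

end Groth.Agent.DefLift
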