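import Groth.Agent.DefLift.CechSplit
import Groth.Agent.OmegaLib.FiniteType
import Groth.Agent.SerrePn.SheafHomExt
import Mathlib

/-!
# Splitting cocycles of derivations with values in a module on another scheme
-/

set_option autoImplicit false
set_option linter.style.haveILetI false
set_option backward.isDefEq.respectTransparency false
universe u

open CategoryTheory CategoryTheory.Limits AlgebraicGeometry Opposite TopologicalSpace Abelian

noncomputable section

namespace Groth.Agent.DefLift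

open Groth.Agent.QC Groth.Agent.CechShRes

variable {Z X S : Scheme.{u}} (g : Z ⟶ X) {f : X ⟶ S} [QuasiSeparated f] {G : Z.Modules}
  {ι : Type u} (U : ι → Z.Opens)

/-- The value of a derivation into the direct image of a term of the Čech complex. -/
abbrev derVal {n : ℕ} {a : Fin (n + 1) → ι} (D : OmegaSh.Der f ((Scheme.Modules.pushforward g).obj (term U G a)))
    (V : X.Opens) (s : Γ(X, V)) : Γ(G, cut U (g ⁻¹ᵁ V) a) :=
  D.app V s

theorem homEquiv_app {F : X.Modules} {M : Z.Modules} (φ : (Scheme.Modules.pullback g).obj F ⟶ M)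
    {N : Z.Modules} (q : M ⟶ N) :
    (Scheme.Modules.pullbackPushforwardAdjunction g).homEquiv _ _ (φ ≫ q) =
      (Scheme.Modules.pullbackPushforwardAdjunction g).homEquiv _ _ φ ≫ (Scheme.Modules.pushforward g).map q :=
  Adjunction.homEquiv_naturality_right _ _ _

/-- A sum of composites with restriction maps, evaluated on a differential. -/
theorem sum_val {n : ℕ} (φ : ∀ a : Fin (n + 1) → ι,
      (Scheme.Modules.pullback g).obj (Omega.sheaf f) ⟶ term U G a) (a : Fin (n + 2) → ι) (V : X.Opens) (s : Γ(X, V)) :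
    ((Scheme.Modules.pullbackPushforwardAdjunction g).homEquiv _ _
        (∑ k : Fin (n + 2), (-1 : ℤ) ^ (k : ℕ) • (φ (a ∘ k.succAbove) ≫ CechOX.pushRestrMapApp (le_drop U a k) G))).app V
          (OmegaSh.dSect f V s) =
      ∑ k : Fin (n + 2), (-1 : ℤ) ^ (k : ℕ) • res G (cut_drop U (g ⁻¹ᵁ V) a k)
        (((Scheme.Modules.pullbackPushforwardAdjunction g).homEquiv _ _ (φ (a ∘ k.succAbove))).app V
          (OmegaSh.dSect f V s)) := by
  let adj := Scheme.Modules.pullbackPushforwardAdjunction g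
  have hadd : ∀ p q : (Scheme.Modules.pullback g).obj (Omega.sheaf f) ⟶ term U G a,
      adj.homEquiv _ _ (p + q) = adj.homEquiv _ _ p + adj.homEquiv _ _ q := fun p q => by
    rw [Adjunction.homEquiv_unit, Adjunction.homEquiv_unit, Adjunction.homEquiv_unit, Functor.map_add,
      Preadditive.comp_add]
  let ev : ((Scheme.Modules.pullback g).obj (Omega.sheaf f) ⟶ term U G a) →+ Γ(G, cut U (g ⁻¹ᵁ V) a) :=
    AddMonoidHom.mk' (fun p => (adj.homEquiv _ _ p).app V (OmegaSh.dSect f V s)) fun p q => by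
      rw [hadd]; rfl
  refine (map_sum ev _ _).trans (Finset.sum_congr rfl fun k _ => (map_zsmul ev _ _).trans (congrArg _ ?_))
  change (adj.homEquiv _ _ (φ (a ∘ k.succAbove) ≫ CechOX.pushRestrMapApp (le_drop U a k) G)).app V
    (OmegaSh.dSect f V s) = _
  rw [homEquiv_app]
  rfl

/-- A one cocycle of derivations with values in `G` splits when cocycles of
maps from `g^*Ω` to the Čech complex of `G` lift. -/
theorem exists_push_split_of_lift (hlift : ∀ c : (Scheme.Modules.pullback g).obj (Omega.sheaf f) ⟶ ((CechOX.cechSh U).obj G).X 1,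
      c ≫ ((CechOX.cechSh U).obj G).d 1 2 = 0 →
        ∃ b : (Scheme.Modules.pullback g).obj (Omega.sheaf f) ⟶ ((CechOX.cechSh U).obj G).X 0,
          b ≫ ((CechOX.cechSh U).obj G).d 0 1 = c)
    (D : ∀ a : Fin 2 → ι, OmegaSh.Der f ((Scheme.Modules.pushforward g).obj (term U G a)))
    (hD : ∀ (a : Fin 3 → ι) (V : X.Opens) (s : Γ(X, V)),
      ∑ k : Fin 3, (-1 : ℤ) ^ (k : ℕ) • res G (cut_drop U (g ⁻¹ᵁ V) a k) (derVal g U (D (a ∘ k.succAbove)) V s) = 0) :
    ∃ E : ∀ a : Fin 1 → ι, OmegaSh.Der f ((Scheme.Modules.pushforward g).obj (term U G a)),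
      ∀ (a : Fin 2 → ι) (V : X.Opens) (s : Γ(X, V)),
        derVal g U (D a) V s =
          ∑ k : Fin 2, (-1 : ℤ) ^ (k : ℕ) • res G (cut_drop U (g ⁻¹ᵁ V) a k) (derVal g U (E (a ∘ k.succAbove)) V s) := by
  let adj := Scheme.Modules.pullbackPushforwardAdjunction g
  let Ω := (Scheme.Modules.pullback g).obj (Omega.sheaf f)
  choose α hα hα' using fun a => OmegaLib.isUniversal_dOmega f _ (D a)
  have hval : ∀ a V s, (α a).app V (OmegaSh.dSect f V s) = derVal g U (D a) V s := fun a V s =>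
    congrArg (fun E : OmegaSh.Der f _ => E.app V s) (hα a)
  let φ : ∀ a : Fin 2 → ι, Ω ⟶ term U G a := fun a => (adj.homEquiv _ _).symm (α a)
  let c : Ω ⟶ ((CechOX.cechSh U).obj G).X 1 := Pi.lift φ
  have hcd : c ≫ ((CechOX.cechSh U).obj G).d 1 2 = 0 := Pi.hom_ext _ _ fun a => by
    rw [zero_comp, Category.assoc]
    refine Eq.trans ?_ ((adj.homEquiv _ _).injective (a₁ := ∑ k : Fin 3, (-1 : ℤ) ^ (k : ℕ) •
      (φ (a ∘ k.succAbove) ≫ CechOX.pushRestrMapApp (le_drop U a k) G)) (a₂ := 0) ?_)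
    · refine (congrArg (c ≫ ·) (d_π U G a)).trans ((Preadditive.comp_sum _ _ _).trans ?_)
      refine Finset.sum_congr rfl fun k _ => ?_
      rw [Preadditive.comp_zsmul]
      exact congrArg _ (Pi.lift_π_assoc (f := term U G) φ _ _)
    · let q := adj.homEquiv (Omega.sheaf f) (term U G a) (∑ k : Fin 3, (-1 : ℤ) ^ (k : ℕ) •
        (φ (a ∘ k.succAbove) ≫ CechOX.pushRestrMapApp (le_drop U a k) G))
      obtain ⟨β, -, hu⟩ := OmegaLib.isUniversal_dOmega f _ ((OmegaSh.dOmega f).postcomp q.val)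
      refine (hu _ rfl).trans (hu _ ?_).symm
      refine PresheafOfModules.Derivation.ext (funext fun V => ?_)
      ext s
      rw [show adj.homEquiv (Omega.sheaf f) (term U G a) 0 = 0 by
        rw [Adjunction.homEquiv_unit, Functor.map_zero, comp_zero]]
      refine Eq.trans ?_ (sum_val g U φ a V.unop s).symm
      refine Eq.trans (hD a V.unop s).symm (Finset.sum_congr rfl fun k _ => ?_)
      rw [← hval]
      simp only [φ, adj, Equiv.apply_symm_apply]
  obtain ⟨b, hb⟩ := hlift c hcd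
  refine ⟨fun a => (OmegaSh.dOmega f).postcomp (adj.homEquiv _ _ (b ≫ Pi.π (term U G) a)).val, fun a V s => ?_⟩
  have h1 : adj.homEquiv _ _ (φ a) = α a := Equiv.apply_symm_apply _ _
  have h2 : φ a = ∑ k : Fin 2, (-1 : ℤ) ^ (k : ℕ) •
      ((b ≫ Pi.π (term U G) (a ∘ k.succAbove)) ≫ CechOX.pushRestrMapApp (le_drop U a k) G) := by
    refine (Pi.lift_π (f := term U G) φ a).symm.trans ((congrArg (· ≫ Pi.π (term U G) a) hb.symm).trans ?_)
    refine (Category.assoc _ _ _).trans ((congrArg (b ≫ ·) (d_π U G a)).trans ((Preadditive.comp_sum _ _ _).trans ?_))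
    exact Finset.sum_congr rfl fun k _ => by rw [Preadditive.comp_zsmul, Category.assoc]
  rw [← hval, ← h1, h2]
  exact sum_val g U (fun a => b ≫ Pi.π (term U G) a) a V s

/-- A one cocycle of derivations with values in `G` splits when `Ext¹(g^*Ω, G) = 0`. -/
theorem exists_push_split_one [HasExt.{u} Z.Modules] (hcov : ⨆ i, U i = ⊤)
    (h : Subsingleton (Ext ((Scheme.Modules.pullback g).obj (Omega.sheaf f)) G 1))
    (D : ∀ a : Fin 2 → ι, OmegaSh.Der f ((Scheme.Modules.pushforward g).obj (term U G a)))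
    (hD : ∀ (a : Fin 3 → ι) (V : X.Opens) (s : Γ(X, V)),
      ∑ k : Fin 3, (-1 : ℤ) ^ (k : ℕ) • res G (cut_drop U (g ⁻¹ᵁ V) a k) (derVal g U (D (a ∘ k.succAbove)) V s) = 0) :
    ∃ E : ∀ a : Fin 1 → ι, OmegaSh.Der f ((Scheme.Modules.pushforward g).obj (term U G a)),
      ∀ (a : Fin 2 → ι) (V : X.Opens) (s : Γ(X, V)),
        derVal g U (D a) V s =
          ∑ k : Fin 2, (-1 : ℤ) ^ (k : ℕ) • res G (cut_drop U (g ⁻¹ᵁ V) a k) (derVal g U (E (a ∘ k.succAbove)) V s) :=
  exists_push_split_of_lift g U (fun c hc =>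
    haveI := mono_aug U G hcov
    exists_lift_one _ (aug_d U G) (exact_zero U G hcov) (exact_succ U G hcov 0) h c hc) D hD

end Groth.Agent.DefLift
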