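import Groth.Agent.DefLift.CechSplit
import Groth.Agent.ModHomEl.Basic
import Groth.Agent.W7Flasque.Basic
import Groth.Agent.DCohShriek.ExtH
import Groth.Agent.SerrePn.Twists
import Mathlib

/-!
# Splitting Čech one cocycles of homomorphisms when `H¹` of the sheaf Hom vanishes
-/

set_option autoImplicit false
set_option linter.style.haveILetI false
set_option backward.isDefEq.respectTransparency false
set_option backward.isDefEq.respectTransparency.types false
universe u

open CategoryTheory CategoryTheory.Limits AlgebraicGeometry Opposite TopologicalSpace Abelian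

noncomputable section

namespace Groth.Agent.DefLift

open Groth.Agent.QC Groth.Agent.CechShRes Groth.Agent.ModHomEl

variable {X : Scheme.{u}} {ι : Type u} (U : ι → X.Opens) {P G : X.Modules}

/-- Maps to the Čech complex are determined by their values on affine opens. -/
theorem hom_ext_coordLoc {n : ℕ} {φ χ : P ⟶ ((CechOX.cechSh U).obj G).X n}
    (h : ∀ (a : Fin (n + 1) → ι) (W : X.affineOpens) (hW : W.1 ≤ ⨅ k, U (a k)) (s : Γ(P, W.1)),
      (coordLoc U φ a).app W hW s = (coordLoc U χ a).app W hW s) : φ = χ := by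
  refine KosExt.hom_ext_affine fun V s => (coord_bijective U G n V.1).1 (funext fun a => ?_)
  refine section_eq_of_locally fun x hx => ?_
  obtain ⟨W, hxW, hW⟩ := KosExt.exists_affine_le hx
  refine ⟨W.1, hW, hxW, ?_⟩
  have key : ∀ ψ : P ⟶ ((CechOX.cechSh U).obj G).X n, res G hW (coord U G (ψ.app V.1 s) a) =
      (coordLoc U ψ a).app W (hW.trans (cut_le_inf U _ a)) (res P (hW.trans (cut_le U _ a)) s) := fun ψ => by
    change _ = res G _ (coord U G (ψ.app W.1 (res P _ s)) a)
    rw [← coord_app_res U ψ a (hW.trans (cut_le U _ a)) s, res_res]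
  rw [key, key, h]

/-- The value on an open inside the terms of a tuple of a map to a term of the Čech complex. -/
theorem exists_val_term {n : ℕ} (a : Fin (n + 1) → ι) (φ : P ⟶ term U G a) (V : X.Opens) (hV : ∀ k, V ≤ U (a k)) :
    ∃ ψ : Γ(P, V) →ₗ[Γ(X, V)] Γ(G, V), ∀ x, ψ x = res G (cut_eq U hV) (show Γ(G, cut U V a) from φ.app V x) :=
  ⟨{ toFun := fun x => res G (cut_eq U hV) (show Γ(G, cut U V a) from φ.app V x)
     map_add' := fun x y =>
      (congrArg (fun t : Γ(G, cut U V a) => res G (cut_eq U hV) t) ((φ.app V).hom.map_add x y)).trans (map_add _ _ _)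
     map_smul' := fun r x => by
      rw [RingHom.id_apply, Scheme.Modules.Hom.app_smul]
      refine ((congrArg (res G _) (term_smul U a _ _ _)).trans (res_smul G _ _ _)).trans ?_
      rw [resO_resO, resO_self] }, fun _ => rfl⟩

variable [ModSite.HasSheafHom (O := X.sheaf) P]

/-- A map to a term of the Čech complex as a section of the sheaf Hom. -/
theorem exists_sect_term {n : ℕ} (a : Fin (n + 1) → ι) (φ : P ⟶ term U G a) (W : X.Opens) (hW : ∀ k, W ≤ U (a k)) :
    ∃ s : ModSite.sect (O := X.sheaf) (hom (O := X.sheaf) P G) W, ∀ (V : X.Opens) (g : V ⟶ W) (x : Γ(P, V)),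
      ev (ModSiteFlat.rmap (hom (O := X.sheaf) P G) g s) x =
        res G (cut_eq U fun k => g.le.trans (hW k)) (show Γ(G, cut U V a) from φ.app V x) := by
  choose val hval using fun (V : Over W) => exists_val_term U a φ V.left fun k => V.hom.le.trans (hW k)
  obtain ⟨s, hs⟩ := exists_sect (O := X.sheaf) (U := W) (F := P) (G := G) ⟨PresheafOfModules.homMk
    { app := fun V => AddCommGrpCat.ofHom (val V.unop).toAddMonoidHom
      naturality := fun V V' k => AddCommGrpCat.ext fun x => by
        change val V'.unop (res P k.unop.left.le x) = res G k.unop.left.le (val V.unop x)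
        rw [hval, hval, ← app_res φ k.unop.left.le x, res_res]
        exact res_res G _ (cut_mono U k.unop.left.le a) _ }
    fun V r x => (val V.unop).map_smul r x⟩
  refine ⟨s, fun V g x => (hs g x).trans ?_⟩
  exact hval (Over.mk g) x

/-- A one cocycle in the Čech complex of local homomorphisms splits when `H¹(ℋom(P, G)) = 0`. -/
theorem exists_lift_one_of_hom (hcov : ⨆ i, U i = ⊤)
    (h : Subsingleton (Coh.HH X (show X.Modules from hom (O := X.sheaf) P G) 1))
    (c : P ⟶ ((CechOX.cechSh U).obj G).X 1) (hc : c ≫ ((CechOX.cechSh U).obj G).d 1 2 = 0) :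
    ∃ b : P ⟶ ((CechOX.cechSh U).obj G).X 0, b ≫ ((CechOX.cechSh U).obj G).d 0 1 = c := by
  let A : X.Modules := hom (O := X.sheaf) P G
  haveI := SerrePn.enoughInjectives (X := X)
  haveI : HasExt.{u} X.Modules := hasExt_of_enoughInjectives.{u} X.Modules
  haveI : HasExt.{u} (SheafOfModules.{u} X.ringCatSheaf) := inferInstanceAs (HasExt.{u} X.Modules)
  have hE : Subsingleton (Abelian.Ext.{u} (Coh.structureModule X) A 1) :=
    @Equiv.subsingleton _ _ (DCohShriek.ExtH.cmpEquiv (R := X.ringCatSheaf) A 1).toEquiv h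
  choose σ hσ using fun (a : Fin 2 → ι) (W : X.affineOpens) (hW : ∀ k, W.1 ≤ U (a k)) =>
    exists_sect_term U a (c ≫ Pi.π (term U G) a) W.1 hW
  have hk : ∀ {i j : ι} {W : X.Opens}, W ≤ U i ⊓ U j → ∀ k, W ≤ U (![i, j] k) := fun hW k => by
    fin_cases k
    · exact hW.trans inf_le_left
    · exact hW.trans inf_le_right
  let ψ : ∀ i j, LocHom (Coh.structureModule X) A (U i ⊓ U j) := fun i j =>
    { app := fun W hW => LinearMap.toSpanSingleton Γ(X, W.1) Γ(A, W.1) (σ ![i, j] W (hk hW))
      res_app := fun W V hW hVW r => by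
        change res A hVW ((show Γ(X, W.1) from r) • (show Γ(A, W.1) from σ _ W _)) =
          resO X hVW r • (show Γ(A, V.1) from σ _ V _)
        rw [res_smul]
        refine congrArg _ (hom_sect_ext (O := X.sheaf) fun {V'} g x => ?_)
        refine Eq.trans ?_ (hσ _ V (hk (hVW.trans hW)) V' g x).symm
        refine Eq.trans ?_ (hσ _ W (hk hW) V' (g ≫ homOfLE hVW) x)
        rw [ModSiteFlat.rmap_comp]
        rfl }
  obtain ⟨η, hη⟩ := exists_split_one U hcov hE ψ fun i j l W hi hj hl r => by
    change (show Γ(X, W.1) from r) • (show Γ(A, W.1) from σ _ W _) =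
      (show Γ(X, W.1) from r) • (show Γ(A, W.1) from σ _ W _) + (show Γ(X, W.1) from r) • (show Γ(A, W.1) from σ _ W _)
    rw [← smul_add]
    refine congrArg _ (hom_sect_ext (O := X.sheaf) fun {V} g x => ?_)
    refine Eq.trans ?_ ((congrArg (fun t => ev t x) (map_add _ _ _)).trans (ev_add_left _ _ _)).symm
    refine (hσ _ W _ V g x).trans (Eq.trans ?_ (congrArg₂ (· + ·) (hσ _ W _ V g x) (hσ _ W _ V g x)).symm)
    have hV : ∀ k, V ≤ U (![i, j, l] k) := fun k => g.le.trans (by fin_cases k <;> assumption)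
    have h1 := congrArg (fun t : P ⟶ ((CechOX.cechSh U).obj G).X 2 =>
      res G (cut_eq U hV) (coord U G (t.app V x) ![i, j, l])) hc
    change res G _ (coord U G ((((CechOX.cechSh U).obj G).d 1 2).app V (c.app V x)) _) =
      res G _ (coord U G 0 _) at h1
    rw [coord_zero, map_zero, coord_d, Fin.sum_univ_three] at h1
    simp only [Fin.val_zero, Fin.val_one, Fin.val_two, pow_zero, pow_one, neg_one_sq, one_zsmul, neg_smul, map_add,
      map_neg, res_res] at h1
    have key : ∀ (a b : Fin 2 → ι) (_ : a = b) (ha : V ≤ cut U V a) (hb : V ≤ cut U V b),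
        res G ha (coord U G (c.app V x) a) = res G hb (coord U G (c.app V x) b) :=
      fun a b hab _ _ => by subst hab; rfl
    rw [key _ ![j, l] (by funext k; fin_cases k <;> rfl : ![i, j, l] ∘ (0 : Fin 3).succAbove = ![j, l]) _ (cut_eq U fun k => g.le.trans (hk (le_inf hj hl) k)),
      key _ ![i, l] (by funext k; fin_cases k <;> rfl : ![i, j, l] ∘ (1 : Fin 3).succAbove = ![i, l]) _ (cut_eq U fun k => g.le.trans (hk (le_inf hi hl) k)),
      key _ ![i, j] (by funext k; fin_cases k <;> rfl : ![i, j, l] ∘ (2 : Fin 3).succAbove = ![i, j]) _ (cut_eq U fun k => g.le.trans (hk (le_inf hi hj) k))] at h1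
    change res G _ (coord U G (c.app V x) _) = res G _ (coord U G (c.app V x) _) + res G _ (coord U G (c.app V x) _)
    rw [← sub_eq_zero, ← neg_eq_zero]
    refine Eq.trans ?_ h1
    abel
  let τ : ∀ (i : ι) (W : X.affineOpens) (hW : W.1 ≤ U i), ModSite.sect (O := X.sheaf) (hom (O := X.sheaf) P G) W.1 :=
    fun i W hW => (η i).app W hW (1 : Γ(X, W.1))
  let ηP : ∀ i, LocHom P G (U i) := fun i =>
    { app := fun W hW =>
        { toFun := fun x => ev (τ i W hW) x
          map_add' := fun x y => ev_add_right (τ i W hW) x y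
          map_smul' := fun r x => ev_smul_right r (τ i W hW) x }
      res_app := fun W V hW hVW x => by
        change res G hVW (ev (τ i W hW) x) = ev (τ i V _) (res P hVW x)
        refine (rmap_ev (homOfLE hVW) (τ i W hW) x).trans (congrArg (fun t => ev t (res P hVW x)) ?_)
        refine ((η i).res_app W V hW hVW _).trans (congrArg _ ?_)
        exact map_one (X.presheaf.map (homOfLE hVW).op).hom }
  obtain ⟨b, hb⟩ := exists_hom_cech U 0 (fun a => (ηP (a 0)).restrict (iInf_le _ 0))
  refine ⟨b, hom_ext_coordLoc U fun a W hW x => ?_⟩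
  rw [app_d, Fin.sum_univ_two, hb, hb]
  simp only [LocHom.restrict, Fin.val_zero, Fin.val_one, pow_zero, pow_one, one_zsmul, neg_smul]
  have hi : W.1 ≤ U (a 0) := hW.trans (iInf_le _ 0)
  have hj : W.1 ≤ U (a 1) := hW.trans (iInf_le _ 1)
  change ev (τ (a 1) W hj) x + -ev (τ (a 0) W hi) x = _
  have he := hη (a 0) (a 1) W hi hj (1 : Γ(X, W.1))
  change (1 : Γ(X, W.1)) • (show Γ(A, W.1) from σ _ W _) = _ at he
  rw [one_smul] at he
  have hadd := ev_add_left (τ (a 0) W hi) (show ModSite.sect (O := X.sheaf) (hom (O := X.sheaf) P G) W.1 from σ ![a 0, a 1] W (hk (le_inf hi hj))) x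
  rw [show τ (a 0) W hi + σ ![a 0, a 1] W (hk (le_inf hi hj)) = τ (a 1) W hj from
    (congrArg (τ (a 0) W hi + ·) he).trans (add_sub_cancel _ _)] at hadd
  rw [← sub_eq_add_neg, hadd, add_sub_cancel_left]
  have h2 := hσ ![a 0, a 1] W (hk (le_inf hi hj)) W.1 (𝟙 _) x
  rw [show ModSiteFlat.rmap (hom (O := X.sheaf) P G) (𝟙 W.1) (σ ![a 0, a 1] W (hk (le_inf hi hj))) =
    σ ![a 0, a 1] W (hk (le_inf hi hj)) from res_self A _ _] at h2
  refine h2.trans ?_
  change res G _ (coord U G (c.app W.1 x) _) = res G _ (coord U G (c.app W.1 x) _)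
  have : ![a 0, a 1] = a := by funext k; fin_cases k <;> rfl
  clear h2 he hadd
  have key : ∀ (a' a'' : Fin 2 → ι) (_ : a' = a'') (ha : W.1 ≤ cut U W.1 a') (hb : W.1 ≤ cut U W.1 a''),
      res G ha (coord U G (c.app W.1 x) a') = res G hb (coord U G (c.app W.1 x) a'') :=
    fun a' a'' e _ _ => by subst e; rfl
  exact key _ _ this _ _

end Groth.Agent.DefLift
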