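import Groth.Agent.DefLift.Extend
import Groth.Agent.DefLift.HomSplit
import Mathlib

/-!
# Gluing local lifts when `H¹` of the sheaf of derivations vanishes
-/

set_option autoImplicit false
set_option linter.style.haveILetI false
set_option backward.isDefEq.respectTransparency false
set_option backward.isDefEq.respectTransparency.types false
universe u

open CategoryTheory CategoryTheory.Limits AlgebraicGeometry Opposite TopologicalSpace Abelian

noncomputable section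

namespace Groth.Agent.DefLift

variable {T₀ T X S : Scheme.{u}} {i : T₀ ⟶ T} [IsClosedImmersion i] (hsq : IsSqZero i)
  (f : X ⟶ S) [QuasiSeparated f] (a : T ⟶ S) (a₀ : T₀ ⟶ X)
  {ι : Type u} (U : ι → T.Opens) (b : ∀ j, (U j).toScheme ⟶ X)
  (hb₁ : ∀ j, b j ≫ f = (U j).ι ≫ a) (hb₂ : ∀ j, (i ∣_ U j) ≫ b j = (i ⁻¹ᵁ U j).ι ≫ a₀)

include hsq hb₁ hb₂ in
/-- Local lifts glue to a global lift when `H¹(T₀, ℋom(a₀^*Ω, 𝒥)) = 0`. -/
theorem exists_extension_of_hh (hsqr : a₀ ≫ f = i ≫ a) (hU : iSup U = ⊤)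
    [DCoh.HasSheafHom ((Scheme.Modules.pullback a₀).obj (Omega.sheaf f))]
    (h : Subsingleton (Coh.HH T₀ ((DCoh.sheafHom ((Scheme.Modules.pullback a₀).obj (Omega.sheaf f))).obj
      (Omega.conormal i)) 1)) :
    ∃ b' : T ⟶ X, b' ≫ f = a ∧ i ≫ b' = a₀ := by
  let P := (Scheme.Modules.pullback a₀).obj (Omega.sheaf f)
  have hcov : ⨆ j, i ⁻¹ᵁ U j = ⊤ := eq_top_iff.2 fun z _ => by
    obtain ⟨j, hj⟩ := Opens.mem_iSup.1 (hU.ge (trivial : i z ∈ (⊤ : T.Opens)))
    exact Opens.mem_iSup.2 ⟨j, hj⟩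
  haveI : ModSite.HasSheafHom (O := T₀.sheaf) P := ModSiteTensor.hasSheafHom (O := T₀.sheaf) P
  let e : ModSite.sheafHom (O := T₀.sheaf) P ≅ DCoh.sheafHom P :=
    (ModSite.sheafHomAdj (O := T₀.sheaf) P).rightAdjointUniq
      ((DCoh.sheafHomAdj P).ofNatIsoLeft (W7Flasque.tensorIso P).symm)
  have h' : Subsingleton (Coh.HH T₀ ((ModSite.sheafHom (O := T₀.sheaf) P).obj (Omega.conormal i)) 1) := by
    let e₀ : Coh.toAb ((ModSite.sheafHom (O := T₀.sheaf) P).obj (Omega.conormal i)) ≅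
        Coh.toAb ((DCoh.sheafHom P).obj (Omega.conormal i)) :=
      (SheafOfModules.toSheaf T₀.ringCatSheaf).mapIso (e.app (Omega.conormal i))
    let e' := ((Sheaf.functorH.{u, u} (Opens.grothendieckTopology T₀.toTopCat) 1).mapIso e₀.symm).addCommGroupIsoToAddEquiv
    exact @Function.Surjective.subsingleton _ _ _ h e'.surjective
  exact exists_extension_of_split hsq f a a₀ U b hb₁ hb₂ hsqr hU
    (exists_push_split_of_lift a₀ (fun j => i ⁻¹ᵁ U j)
      (fun c hc => exists_lift_one_of_hom (fun j => i ⁻¹ᵁ U j) hcov h' c hc)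
      (diffDer hsq f a a₀ U b hb₁ hb₂ hsqr) (diffDer_cocycle hsq f a a₀ U b hb₁ hb₂ hsqr))

end Groth.Agent.DefLift
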