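import Groth.Agent.DefLift.HomLift
import Groth.Agent.DefLift.RigidTriv
import Groth.Agent.DefLift.SmallExt
import Mathlib

/-!
# Uniqueness of extensions of locally free modules along semismall extensions
-/

set_option autoImplicit false
set_option linter.style.haveILetI false
set_option backward.isDefEq.respectTransparency false
set_option backward.isDefEq.respectTransparency.types false
universe u

open CategoryTheory CategoryTheory.Limits AlgebraicGeometry Opposite TopologicalSpace Abelian
open ArtFun

noncomputable section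

namespace Groth.Agent.DefLift

theorem ker_pow_two_of_isSqZero {X Z : Scheme.{u}} (j : Z ⟶ X) [IsClosedImmersion j] (h : IsSqZero j) :
    j.ker ^ 2 = ⊥ := by
  refine Scheme.IdealSheafData.ext (funext fun U => ?_)
  rw [Scheme.IdealSheafData.ideal_pow, Scheme.IdealSheafData.ideal_bot, Pi.pow_apply, Pi.bot_apply, pow_two,
    eq_bot_iff, Ideal.mul_le]
  exact fun r hr s hs => Ideal.mem_bot.2
    (h U r s (by rwa [Scheme.Hom.ker_apply] at hr) (by rwa [Scheme.Hom.ker_apply] at hs))

/-- Ext into a tensor product with a retract of a finite sum of copies of `O`. -/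
theorem subsingleton_ext_tensor_retract {X : Scheme.{u}} [HasExt.{u} X.Modules] {G : X.Modules} {m : ℕ}
    (β : Fin m → (G ⟶ Coh.structureModule X)) (α : Fin m → (Coh.structureModule X ⟶ G))
    (hid : ∑ l, β l ≫ α l = 𝟙 G) {F M : X.Modules} {n : ℕ} (h : Subsingleton (Ext F M n)) :
    Subsingleton (Ext F (CohB1.tensorMod G M) n) := by
  haveI := LefRel.additive_tensor_flip M
  let T := DCoh.tensorBi.flip.obj M
  let eO : T.obj (Coh.structureModule X) ≅ M := TMul.leftUnitIso M
  refine subsingleton_ext_of_retract (G := T.obj G) (fun l => T.map (β l) ≫ eO.hom)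
    (fun l => eO.inv ≫ T.map (α l)) ?_ h
  simp only [Category.assoc, Iso.hom_inv_id_assoc, ← Functor.map_comp, ← T.map_sum, hid, CategoryTheory.Functor.map_id]

variable {k : Type u} [Field k] {X₀ : Scheme.{u}} {x : X₀ ⟶ Spec (CommRingCat.of k)} {C' C : ArtFun.Art k k}
  {p : C' ⟶ C} (hp : ArtFun.Art.IsSemismallExt p) (X' : ArtFun.DefSch X₀ x C')

include hp in
/-- The kernel of the base change along a semismall extension squares to zero, and its conormal module
is a retract of a finite sum of copies of the structure sheaf of the closed fibre. -/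
theorem exists_conormal_baseChange : ∃ (_ : IsClosedImmersion (pullback.fst X'.f (Art.specMap p)))
    (_ : IsClosedImmersion (X'.baseChange p).i),
    (pullback.fst X'.f (Art.specMap p)).ker ^ 2 = ⊥ ∧ ∃ (G : X₀.Modules) (m : ℕ)
      (β : Fin m → (G ⟶ Coh.structureModule X₀)) (α : Fin m → (Coh.structureModule X₀ ⟶ G)),
      ∑ l, β l ≫ α l = 𝟙 G ∧ Nonempty ((Scheme.Modules.pullback (pullback.fst X'.f (Art.specMap p))).obj
        (ClSub.idealMod (pullback.fst X'.f (Art.specMap p)).ker) ≅
        (Scheme.Modules.pushforward (X'.baseChange p).i).obj G) := by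
  let π := p.toAlgHom.toRingHom
  let e := C.res.toRingHom
  have hπ : Function.Surjective π := hp.1
  have he : Function.Surjective e := C.res_surjective
  have hmax : RingHom.ker e = IsLocalRing.maximalIdeal C :=
    Ideal.ext fun a => (C.mem_maximalIdeal_iff a).symm
  have hn : IsNilpotent (RingHom.ker e) := by
    rw [hmax, ← IsLocalRing.jacobson_eq_maximalIdeal (⊥ : Ideal C) bot_ne_top]
    exact IsArtinianRing.isNilpotent_jacobson_bot
  have hkill : ∀ a, e (π a) = 0 → ∀ r ∈ RingHom.ker π, a * r = 0 := by
    intro a ha r hr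
    have hm : a ∈ IsLocalRing.maximalIdeal C' :=
      (C'.mem_maximalIdeal_iff a).2 ((AlgHom.congr_fun p.res_comp a).symm.trans ha)
    have := Ideal.mul_mem_mul hm (show r ∈ RingHom.ker p.toAlgHom from hr)
    rw [hp.2] at this
    exact Ideal.mem_bot.1 this
  have hfg : (RingHom.ker π).FG := (isNoetherianRing_iff_ideal_fg _).1 inferInstance _
  haveI : IsClosedImmersion (Spec.map (CommRingCat.ofHom π)) := IsClosedImmersion.spec_of_surjective _ hπ
  haveI : IsClosedImmersion (Art.specMap p) := IsClosedImmersion.spec_of_surjective _ hπ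
  haveI : IsClosedImmersion (Art.specRes C) := IsClosedImmersion.spec_of_surjective _ he
  have hP : IsPullback (pullback.fst X'.f (Art.specMap p)) (pullback.snd X'.f (Art.specMap p)) X'.f (Art.specMap p) :=
    IsPullback.of_hasPullback _ _
  haveI hj : IsClosedImmersion (pullback.fst X'.f (Art.specMap p)) := inferInstance
  haveI hi : IsClosedImmersion (X'.baseChange p).i :=
    MorphismProperty.of_isPullback (X'.baseChange p).isPullback.flip inferInstance
  obtain ⟨G, η, -, m, β, α, hid⟩ := exists_fibre_coeff_retract π hπ e he hn hkill hfg (X'.baseChange p).f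
    (X'.baseChange p).i x (X'.baseChange p).isPullback
  haveI := X'.flat
  obtain ⟨γ⟩ := nonempty_coeff_iso_conormal hP
  exact ⟨hj, hi, ker_pow_two_of_isSqZero _ (isSqZero_of_isPullback hP (isSqZero_small π hπ e he hn hkill)),
    G, m, β, α, hid, ⟨γ.symm ≪≫ η⟩⟩

include hp in
/-- Extensions of a finite locally free module along a semismall extension are unique when the
endomorphisms of its restriction to the closed fibre have no first cohomology. -/
theorem nonempty_iso_extensions [HasExt.{u} X₀.Modules] (F : (X'.baseChange p).total.Modules)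
    (hF : FlatMod.IsFinLocFree F)
    (h1 : Subsingleton (Ext ((Scheme.Modules.pullback (X'.baseChange p).i).obj F)
      ((Scheme.Modules.pullback (X'.baseChange p).i).obj F) 1))
    {F' F'' : X'.total.Modules} (hF' : FlatMod.IsFinLocFree F') (hF'' : FlatMod.IsFinLocFree F'')
    (e' : (Scheme.Modules.pullback (pullback.fst X'.f (Art.specMap p))).obj F' ≅ F)
    (e'' : (Scheme.Modules.pullback (pullback.fst X'.f (Art.specMap p))).obj F'' ≅ F) :
    Nonempty (F' ≅ F'') := by
  let Y := (X'.baseChange p).total
  haveI := SerrePn.enoughInjectives (X := Y)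
  obtain ⟨hj, hi, hI, G, m, β, α, hid, ⟨γ⟩⟩ := exists_conormal_baseChange hp X'
  let i := (X'.baseChange p).i
  let F₀ := (Scheme.Modules.pullback i).obj F
  have h2 : Subsingleton (Ext F₀ (CohB1.tensorMod G F₀) 1) := subsingleton_ext_tensor_retract β α hid h1
  have h3 := ext_one_push i hF (LocFree.isQCoh_of_isFinLocFree hF) (CohB1.tensorMod G F₀) h2
  let T := (Scheme.Modules.pullback (pullback.fst X'.f (Art.specMap p))).obj
    (ClSub.idealMod (pullback.fst X'.f (Art.specMap p)).ker)
  let φ : CohB1.tensorMod T ((Scheme.Modules.pullback (pullback.fst X'.f (Art.specMap p))).obj F') ≅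
      (Scheme.Modules.pushforward i).obj (CohB1.tensorMod G F₀) :=
    PicGrp.tensorModIso γ e' ≪≫ @asIso _ _ _ _ (KFlat.projHom i G F) (KFlat.isIso_projHom i G F)
  refine nonempty_iso_of_map_iso (pullback.fst X'.f (Art.specMap p)) hI hF' hF'' (e' ≪≫ e''.symm) ?_
  refine subsingleton_of_forall_eq 0 fun ξ => ?_
  have hz : ((Ext.mk₀ e'.inv).comp ξ (zero_add 1)).comp (Ext.mk₀ φ.hom) (add_zero 1) = 0 := h3.elim _ _
  have h0 : (Ext.mk₀ e'.inv).comp ξ (zero_add 1) = 0 := by
    rw [← Ext.comp_mk₀_id ((Ext.mk₀ e'.inv).comp ξ (zero_add 1)), ← φ.hom_inv_id, ← Ext.mk₀_comp_mk₀,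
      ← Ext.comp_assoc_of_second_deg_zero, hz, Ext.zero_comp]
  rw [← Ext.mk₀_id_comp ξ, ← e'.hom_inv_id, ← Ext.mk₀_comp_mk₀, Ext.comp_assoc_of_second_deg_zero, h0, Ext.comp_zero]

end Groth.Agent.DefLift
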