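import Groth.Agent.DefLift.SplitReduce
import Groth.Agent.DefLift.SmallExt
import Groth.Agent.ThickProp.Deform
import Groth.Agent.ThickSys.Desc
import Mathlib

/-!
# Lifting deformations of a smooth scheme over a field along small extensions
-/
set_option autoImplicit false
set_option linter.style.haveILetI false
set_option backward.isDefEq.respectTransparency false
universe u

open CategoryTheory CategoryTheory.Limits AlgebraicGeometry Opposite TopologicalSpace Abelian

noncomputable section

namespace Groth.Agent.DefLift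

open Groth.Agent.QC Groth.Agent.ModDesc

variable {A A₀ : Type u} [CommRing A] [CommRing A₀] {K : Type u} [Field K]
  (π : A →+* A₀) (hπ : Function.Surjective π) (e : A₀ →+* K) (he : Function.Surjective e)
  (hn : IsNilpotent (RingHom.ker e)) (hkill : ∀ a, e (π a) = 0 → ∀ r ∈ RingHom.ker π, a * r = 0)
  (hfg : (RingHom.ker π).FG) {Y X : Scheme.{u}} (f : Y ⟶ Spec (CommRingCat.of A₀)) [Flat f] (i : X ⟶ Y)
  (x : X ⟶ Spec (CommRingCat.of K)) [Smooth x] [IsSeparated x] [HasExt.{u} X.Modules]
  (hc : IsPullback i x f (Spec.map (CommRingCat.ofHom e)))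
  (h2 : Subsingleton (Ext (Omega.sheaf x) (Coh.structureModule X) 2))

include hπ he hn hkill hfg hc h2 in
/-- A deformation of a smooth separated scheme over a field lifts along a small extension when the
second obstruction group of the scheme vanishes. -/
theorem exists_lifting_of_fibre :
    ∃ (Y' : Scheme.{u}) (f' : Y' ⟶ Spec (CommRingCat.of A)) (j : Y ⟶ Y'),
      Smooth f' ∧ IsPullback j f f' (Spec.map (CommRingCat.ofHom π)) := by
  let ι := Spec.map (CommRingCat.ofHom π)
  let s := Spec.map (CommRingCat.ofHom e)
  haveI : IsClosedImmersion ι := IsClosedImmersion.spec_of_surjective _ hπ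
  haveI : IsClosedImmersion s := IsClosedImmersion.spec_of_surjective _ he
  haveI : Surjective s := ⟨surjective_specMap_nilpotent e he hn⟩
  haveI : IsClosedImmersion i := MorphismProperty.of_isPullback hc.flip inferInstance
  have hι : IsSqZero ι := isSqZero_small π hπ e he hn hkill
  obtain ⟨G, η, hG, hGext⟩ := exists_fibre_coeff π hπ e he hn hkill hfg f i x hc
  have h2' := hGext _ 2 h2
  -- properties of the deformation
  haveI : Flat (f ≫ 𝟙 _) := by rw [Category.comp_id]; infer_instance
  haveI : Smooth f := ThickProp.smooth_of_deform (iX := i) (iY := s) (iS := s) (f := x) (f' := f)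
    (g := 𝟙 _) (g' := 𝟙 _) (by rw [Category.comp_id, Category.comp_id]; exact hc) (IsPullback.id_vert s) hc.w
    (isNilpotent_ker_specMap _ he hn)
  haveI : IsSeparated f := ThickSys.isSeparated_of_thickening hc
  haveI : Y.IsSeparated := ⟨by
    rw [show terminal.from Y = f ≫ terminal.from _ from terminal.hom_ext _ _]
    infer_instance⟩
  haveI : X.IsSeparated := ⟨by
    rw [show terminal.from X = x ≫ terminal.from _ from terminal.hom_ext _ _]
    infer_instance⟩
  refine exists_lifting_of_splits hι fun U hU hcov hQ => ?_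
  choose Q hQ using hQ
  refine splitsTwo_of_fibre hc η (fun a => ⟨ι ⁻¹ᵁ (Q a).1, (Q a).2.preimage ι⟩) hQ fun D hD => ?_
  exact exists_der_split_two (fun a => i ⁻¹ᵁ U a) (fun _ => ⟨⊤, isAffineOpen_top _⟩) (fun _ => le_top)
    (fun a => (hU a).preimage i) (by
      refine eq_top_iff.2 fun z _ => ?_
      obtain ⟨a, ha⟩ := Opens.mem_iSup.1 (hcov.ge (trivial : i z ∈ (⊤ : Y.Opens)))
      exact Opens.mem_iSup.2 ⟨a, ha⟩)
    (AVOmega.isFinLocFree_omega x) hG h2' D hD

end Groth.Agent.DefLift
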