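import Groth.Agent.DefLift.AffineLift
import Groth.Agent.DefLift.RigidTriv
import Groth.Agent.DefLift.Extend2
import Groth.Agent.InfLift.SchemeSmallExt
import Groth.Agent.ThickSys.Sheaf
import Groth.Prelude.Def_FSch2

/-!
# Lifts along the completion of a closed subscheme
-/
set_option autoImplicit false
set_option linter.style.haveILetI false
set_option backward.isDefEq.respectTransparency false
set_option backward.isDefEq.respectTransparency.types false
universe u

open CategoryTheory CategoryTheory.Limits AlgebraicGeometry Opposite TopologicalSpace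

noncomputable section

namespace Groth.Agent.DefLift

variable (S : Scheme.{u}) (J : S.IdealSheafData)

theorem isSqZero_of_ker {T₀ T : Scheme.{u}} (i : T₀ ⟶ T) [IsClosedImmersion i] (h : i.ker ^ 2 ≤ ⊥) : IsSqZero i := by
  intro U x y hx hy
  have hm : x * y ∈ (i.ker ^ 2).ideal U := by
    rw [Scheme.IdealSheafData.ideal_pow, pow_two, Pi.mul_apply, Scheme.Hom.ker_apply]
    exact Ideal.mul_mem_mul hx hy
  simpa [Scheme.IdealSheafData.ideal_bot] using h U hm

instance isClosedImmersion_completion_ι (n : ℕ) : IsClosedImmersion ((FSch.completionAlong S J).ι n) := by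
  haveI : IsClosedImmersion ((FSch.completionAlong S J).ι n ≫ (J ^ (n + 1 + 1)).subschemeι) := by
    rw [show (FSch.completionAlong S J).ι n ≫ (J ^ (n + 1 + 1)).subschemeι = (J ^ (n + 1)).subschemeι from
      Scheme.IdealSheafData.inclusion_subschemeι _]
    infer_instance
  exact IsClosedImmersion.of_comp _ (J ^ (n + 1 + 1)).subschemeι

/-- The steps of a completion have square-zero ideals. -/
theorem isSqZero_completion_ι (n : ℕ) : IsSqZero ((FSch.completionAlong S J).ι n) := by
  refine isSqZero_of_ker _ ?_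
  let sub := (J ^ (n + 1 + 1)).subschemeι
  let ι := (FSch.completionAlong S J).ι n
  have hι : ι ≫ sub = (J ^ (n + 1)).subschemeι := Scheme.IdealSheafData.inclusion_subschemeι _
  have hpb : IsPullback ι (𝟙 _) sub (J ^ (n + 1)).subschemeι :=
    IsPullback.of_isLimit' ⟨by rw [hι, Category.id_comp]⟩ (PullbackCone.IsLimit.mk _ (fun c => c.snd)
      (fun c => (cancel_mono sub).1 (by rw [Category.assoc, hι, c.condition]))
      (fun c => Category.comp_id _) (fun c m _ hm => (Category.comp_id m).symm.trans hm))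
  have hker : ι.ker = (J ^ (n + 1)).comap sub := by
    rw [← hpb.isoPullback_hom_fst, Scheme.Hom.ker_comp_of_isIso, Scheme.IdealSheafData.ker_fst_of_isClosedImmersion,
      Scheme.IdealSheafData.ker_subschemeι]
  show ι.ker ^ 2 ≤ ⊥
  rw [hker, ← ThickSys.comap_pow, ← pow_mul, le_bot_iff, eq_bot_iff]
  calc (J ^ ((n + 1) * 2)).comap sub ≤ (J ^ (n + 1 + 1)).comap sub :=
        Scheme.IdealSheafData.comap_mono sub (pow_le_pow_of_le_one bot_le le_top (show n + 1 + 1 ≤ (n + 1) * 2 by omega))
    _ ≤ ⊥ := (Scheme.IdealSheafData.map_gc sub).l_le (by rw [Scheme.IdealSheafData.map_bot, Scheme.IdealSheafData.ker_subschemeι])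

variable {S J} {U V : Scheme.{u}} (gU : U ⟶ S) (gV : V ⟶ S)

/-- The system of thickenings cut out in a scheme over the base. -/
def pullSys : FSch.Sys.{u} where
  X n := pullback gU (J ^ (n + 1)).subschemeι
  ι n := pullback.map _ _ _ _ (𝟙 U) ((FSch.completionAlong S J).ι n) (𝟙 S) (by simp)
    ((Category.comp_id _).trans (Scheme.IdealSheafData.inclusion_subschemeι _).symm)

lemma pullSys_ι_fst (n : ℕ) : (pullSys (J := J) gU).ι n ≫ pullback.fst gU (J ^ (n + 1 + 1)).subschemeι =
    pullback.fst gU (J ^ (n + 1)).subschemeι := (pullback.lift_fst _ _ _).trans (Category.comp_id _)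

lemma pullSys_ι_snd (n : ℕ) : (pullSys (J := J) gU).ι n ≫ pullback.snd gU (J ^ (n + 1 + 1)).subschemeι =
    pullback.snd gU (J ^ (n + 1)).subschemeι ≫ (FSch.completionAlong S J).ι n := pullback.lift_snd _ _ _

/-- The projection to the completion. -/
def pullSysHom : pullSys (J := J) gU ⟶ FSch.completionAlong S J :=
  ⟨fun n => pullback.snd gU (J ^ (n + 1)).subschemeι, fun n => (pullSys_ι_snd gU n).symm⟩

theorem isAdicHom_pullSysHom : FSch.IsAdicHom (pullSysHom (J := J) gU) := fun n => by
  refine IsPullback.of_right ?_ (pullSys_ι_snd gU n) (IsPullback.of_hasPullback gU (J ^ (n + 1 + 1)).subschemeι).flip.flip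
  rw [pullSys_ι_fst, show (FSch.completionAlong S J).ι n ≫ (J ^ (n + 1 + 1)).subschemeι = (J ^ (n + 1)).subschemeι
    from Scheme.IdealSheafData.inclusion_subschemeι _]
  exact IsPullback.of_hasPullback gU (J ^ (n + 1)).subschemeι

theorem smooth_pullSysHom [Smooth gU] (n : ℕ) : Smooth (((pullSysHom (J := J) gU : FSch.Hom _ _)).app n) :=
  MorphismProperty.pullback_snd _ _ inferInstance

/-- A morphism from the bottom level lifts to the whole system when the target is smooth. -/
theorem exists_pullSys_map [IsAffine U] [Smooth gV] (γ₀ : (pullSys (J := J) gU).X 0 ⟶ V)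
    (h : γ₀ ≫ gV = pullback.fst gU (J ^ (0 + 1)).subschemeι ≫ gU) :
    ∃ Φ : pullSys (J := J) gU ⟶ pullSys (J := J) gV, Φ ≫ pullSysHom gV = pullSysHom gU ∧
      ((Φ : FSch.Hom _ _).app 0) ≫ pullback.fst gV (J ^ (0 + 1)).subschemeι = γ₀ := by
  have step : ∀ n (γ : {γ : (pullSys (J := J) gU).X n ⟶ V // γ ≫ gV = pullback.fst gU (J ^ (n + 1)).subschemeι ≫ gU}),
      ∃ γ' : {γ : (pullSys (J := J) gU).X (n + 1) ⟶ V // γ ≫ gV = pullback.fst gU (J ^ (n + 1 + 1)).subschemeι ≫ gU},
        (pullSys (J := J) gU).ι n ≫ γ'.1 = γ.1 := by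
    intro n γ
    let P := (pullSys (J := J) gU).X n
    let T := (pullSys (J := J) gU).X (n + 1)
    haveI : IsAffine T := isAffine_of_isAffineHom (pullback.fst gU (J ^ (n + 1 + 1)).subschemeι)
    haveI : IsAffine P := isAffine_of_isAffineHom (pullback.fst gU (J ^ (n + 1)).subschemeι)
    let i : P ⟶ T := (pullSys (J := J) gU).ι n
    haveI : IsClosedImmersion i := MorphismProperty.of_isPullback (isAdicHom_pullSysHom (J := J) gU n).flip inferInstance
    have hi := isSqZero_of_isPullback (isAdicHom_pullSysHom (J := J) gU n) (isSqZero_completion_ι S J n)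
    have hs : Function.Surjective i.appTop.hom := i.app_surjective ⊤ (isAffineOpen_top T)
    have hsq : RingHom.ker i.appTop.hom ^ 2 = ⊥ := by
      rw [pow_two, eq_bot_iff, Ideal.mul_le]
      exact fun a ha b hb => (Submodule.mem_bot _).2 (hi ⟨⊤, isAffineOpen_top T⟩ a b ha hb)
    have hiso : Spec.map i.appTop = P.isoSpec.inv ≫ i ≫ T.isoSpec.hom := by
      rw [← Scheme.isoSpec_hom_naturality, Iso.inv_hom_id_assoc]
    obtain ⟨γ', h₁, h₂⟩ := InfLift.exists_lift_of_smooth gV i.appTop.hom hs hsq (P.isoSpec.inv ≫ γ.1)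
      (T.isoSpec.inv ≫ pullback.fst gU (J ^ (n + 1 + 1)).subschemeι ≫ gU) (by
        rw [show CommRingCat.ofHom i.appTop.hom = i.appTop from rfl, hiso]
        simp only [Category.assoc, Iso.hom_inv_id_assoc, γ.2]
        rw [← Category.assoc i, pullSys_ι_fst])
    refine ⟨⟨T.isoSpec.hom ≫ γ', by rw [Category.assoc, h₂, Iso.hom_inv_id_assoc]⟩, ?_⟩
    rw [show CommRingCat.ofHom i.appTop.hom = i.appTop from rfl, hiso] at h₁
    exact (cancel_epi P.isoSpec.inv).1 (by rw [← h₁]; simp [i])
  choose up hup using step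
  let γs : ∀ n, {γ : (pullSys (J := J) gU).X n ⟶ V // γ ≫ gV = pullback.fst gU (J ^ (n + 1)).subschemeι ≫ gU} :=
    fun n => Nat.rec (motive := fun n => {γ : (pullSys (J := J) gU).X n ⟶ V //
      γ ≫ gV = pullback.fst gU (J ^ (n + 1)).subschemeι ≫ gU}) ⟨γ₀, h⟩ (fun n γ => up n γ) n
  have hc : ∀ n, (pullSys (J := J) gU).ι n ≫ (γs (n + 1)).1 = (γs n).1 := fun n => hup n (γs n)
  refine ⟨⟨fun n => pullback.lift (γs n).1 (pullback.snd gU (J ^ (n + 1)).subschemeι)
    ((γs n).2.trans pullback.condition), fun n => ?_⟩, FSch.Hom.ext (funext fun n => pullback.lift_snd _ _ _),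
    pullback.lift_fst _ _ _⟩
  apply pullback.hom_ext
  · rw [Category.assoc, pullSys_ι_fst, Category.assoc, pullback.lift_fst, pullback.lift_fst, hc]
  · rw [Category.assoc, pullSys_ι_snd, Category.assoc, pullback.lift_snd_assoc, pullback.lift_snd, pullSys_ι_snd]

end Groth.Agent.DefLift
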