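import Groth.Agent.DefLift.ExtPush
import Groth.Agent.LefRel.Bound
import Groth.Agent.ClSubLib.EssSurj
import Groth.Agent.KFlat.ClosedImm
import Groth.Agent.TMul.Assoc
import Groth.Agent.CurveRR.Tensor
import Groth.Agent.QC.IdealMod
import Groth.Agent.DerPerf.Local
import Mathlib

/-!
# Lifting homomorphisms of locally free modules through a square-zero ideal
-/

set_option autoImplicit false
set_option linter.style.haveILetI false
set_option backward.isDefEq.respectTransparency false
set_option backward.isDefEq.respectTransparency.types false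
universe u

open CategoryTheory CategoryTheory.Limits AlgebraicGeometry Opposite TopologicalSpace Abelian TensorProduct

noncomputable section

namespace Groth.Agent.DefLift

variable {X : Scheme.{u}}

theorem killedBy_idealMod (I : X.IdealSheafData) (hI : I ^ 2 = ⊥) : ClSub.KilledByIdeal I (ClSub.idealMod I) := by
  intro U a ha m
  haveI : Mono (ClSub.idealModι I) := by unfold ClSub.idealModι; infer_instance
  refine QC.app_injective_of_mono (ClSub.idealModι I) U.1 ?_
  rw [map_zero]
  refine (Scheme.Modules.Hom.app_smul (ClSub.idealModι I) a m).trans ?_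
  let t : Γ(X, U.1) := (ClSub.idealModι I).app U.1 m
  have h2 : a * t ∈ (I ^ 2).ideal U := by
    rw [Scheme.IdealSheafData.ideal_pow, Pi.pow_apply, pow_two]
    exact Ideal.mul_mem_mul ha ((QC.mem_range_idealModι_affine I U _).1 ⟨m, rfl⟩)
  rw [hI, Scheme.IdealSheafData.ideal_bot, Pi.bot_apply, Ideal.mem_bot] at h2
  exact h2

theorem killedBy_tensor (I : X.IdealSheafData) {M : X.Modules} (hM : ClSub.KilledByIdeal I M) (N : X.Modules) :
    ClSub.KilledByIdeal I ((DCoh.tensorBi.obj M).obj N) := by
  intro U a ha m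
  let T : X.Modules := (DCoh.tensorBi.obj M).obj N
  refine TopCat.Presheaf.section_ext (⟨T.presheaf, T.isSheaf⟩ : TopCat.Sheaf AddCommGrpCat.{u} X.toTopCat) U.1 _ _
    fun y hy => ?_
  have hM' : ∀ v : (DerSch.stalkFunctor X y).obj M, (X.presheaf.germ U.1 y hy).hom a • v = 0 := by
    intro v
    obtain ⟨W, hW, s, rfl⟩ := TopCat.Presheaf.exists_germ_eq M.presheaf v
    obtain ⟨⟨V, hV⟩, hyV, hVW'⟩ := ClSubLib.exists_affine_le (W := W ⊓ U.1) (y := y) ⟨hW, hy⟩
    have haV : X.presheaf.map (homOfLE (hVW'.trans inf_le_right)).op a ∈ I.ideal ⟨V, hV⟩ := by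
      rw [← I.map_ideal (U := ⟨V, hV⟩) (V := U) (hVW'.trans inf_le_right)]
      exact Ideal.mem_map_of_mem _ ha
    have h0 := hM ⟨V, hV⟩ _ haV (QC.res M (hVW'.trans inf_le_left) s)
    have := (PresheafOfModules.germ_smul M.val y V hyV _ (QC.res M (hVW'.trans inf_le_left) s)).symm.trans
      ((congrArg _ h0).trans (map_zero _))
    rw [← QC.germ_res M (hVW'.trans inf_le_left) y hyV s]
    exact Eq.trans (congrArg (· • M.presheaf.germ V y hyV (QC.res M (hVW'.trans inf_le_left) s))
      (X.presheaf.germ_res_apply (homOfLE (hVW'.trans inf_le_right)) y hyV a).symm) this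
  refine ((PresheafOfModules.germ_smul T.val y U.1 hy a m).trans ?_).trans (map_zero _).symm
  let e := (KFlat.stTensorIso M N y).toLinearEquiv
  obtain ⟨v, hv⟩ := e.surjective (T.presheaf.germ U.1 y hy m)
  refine (congrArg ((X.presheaf.germ U.1 y hy).hom a • ·) hv.symm).trans ?_
  refine (e.map_smul _ v).symm.trans ?_
  suffices h : ∀ w, (X.presheaf.germ U.1 y hy).hom a • w = (0 : (DerSch.stalkFunctor X y).obj M ⊗[X.presheaf.stalk y] (DerSch.stalkFunctor X y).obj N) by
    exact (congrArg e (h v)).trans (map_zero e)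
  intro w
  induction w with
  | zero => exact smul_zero _
  | tmul p q => rw [TensorProduct.smul_tmul', hM' p, TensorProduct.zero_tmul]
  | add p q hp hq => rw [smul_add, hp, hq, add_zero]

/-- A surjective endomorphism of a finite locally free module is invertible. -/
theorem isIso_of_epi_endo {F : X.Modules} (hF : FlatMod.IsFinLocFree F) (g : F ⟶ F) [Epi g] : IsIso g := by
  refine KFlat.isIso_of_stalks g fun y => ?_
  rw [ConcreteCategory.isIso_iff_bijective]
  obtain ⟨W, n, hW, ⟨e⟩⟩ := hF y
  obtain ⟨b⟩ := LocFree.exists_basis_stalk e (LocFree.isQCoh_of_isFinLocFree hF) hW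
  haveI : Module.Finite (X.presheaf.stalk y) ((DerSch.stalkFunctor X y).obj F) := Module.Finite.of_basis b
  haveI : Epi ((DerSch.stalkFunctor X y).map g) := inferInstance
  exact OrzechProperty.bijective_of_surjective_endomorphism ((DerSch.stalkFunctor X y).map g).hom
    ((ModuleCat.epi_iff_surjective _).1 inferInstance)

theorem flat_stalk {F : X.Modules} (hF : FlatMod.IsFinLocFree F) (y : X) :
    Module.Flat (X.presheaf.stalk y) ((DerSch.stalkFunctor X y).obj F) := by
  obtain ⟨W, n, hW, ⟨e⟩⟩ := hF y
  obtain ⟨b⟩ := LocFree.exists_basis_stalk e (LocFree.isQCoh_of_isFinLocFree hF) hW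
  exact Module.Flat.of_linearEquiv b.repr

variable {Z : Scheme.{u}} (j : Z ⟶ X) [IsClosedImmersion j]

/-- The structure sheaf of the image of a closed immersion, as a module on the ambient scheme. -/
def quotModIso : ClSub.quotMod j.ker ≅ (Scheme.Modules.pushforward j).obj (Coh.structureModule Z) :=
  haveI : IsIso j.toImage := inferInstance
  haveI := CurveRR.unitToPush_isIso j.toImage
  (Scheme.Modules.pushforward j.imageι).mapIso (asIso (ClSub.unitToPush j.toImage)) ≪≫
    (Scheme.Modules.pushforwardComp j.toImage j.imageι).app _ ≪≫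
    (Scheme.Modules.pushforwardCongr j.toImage_imageι).app _

/-- For a square-zero closed immersion, the kernel of restriction of a finite locally free module. -/
theorem exists_unit_seq (hI : j.ker ^ 2 = ⊥) {F : X.Modules} (hF : FlatMod.IsFinLocFree F) :
    ∃ (K : X.Modules) (f : K ⟶ F) (w : f ≫ (Scheme.Modules.pullbackPushforwardAdjunction j).unit.app F = 0),
      (ShortComplex.mk f _ w).ShortExact ∧ IsIso ((Scheme.Modules.pullbackPushforwardAdjunction j).unit.app K) ∧
      Nonempty ((Scheme.Modules.pullback j).obj K ≅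
        CohB1.tensorMod ((Scheme.Modules.pullback j).obj (ClSub.idealMod j.ker)) ((Scheme.Modules.pullback j).obj F)) := by
  let P := Scheme.Modules.pullback j
  let Q := Scheme.Modules.pushforward j
  let adj := Scheme.Modules.pullbackPushforwardAdjunction j
  haveI : IsIso adj.counit := GrothSS.isIso_counit_push j
  haveI : Mono ((DCoh.tensorBi.map (ClSub.idealModι j.ker)).app F) := by
    rw [LefRel.mono_tensor_iff]
    intro y
    haveI := flat_stalk hF y
    exact Module.Flat.rTensor_preserves_injective_linearMap _ (CompInt.istalk_injective j.ker y)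
  let S := LefRel.tensorSeq j.ker F
  have hS : S.ShortExact := LefRel.tensorSeq_shortExact j.ker F ‹_›
  haveI := KFlat.isIso_projHom j (Coh.structureModule Z) F
  let e₂ : S.X₂ ≅ F := TMul.leftUnitIso F
  let e₃ : S.X₃ ≅ Q.obj (P.obj F) := (DCoh.tensorBi.mapIso (quotModIso j)).app F ≪≫
    asIso (KFlat.projHom j (Coh.structureModule Z) F) ≪≫ Q.mapIso (TMul.leftUnitIso (P.obj F))
  let g : F ⟶ Q.obj (P.obj F) := e₂.inv ≫ S.g ≫ e₃.hom
  let f : S.X₁ ⟶ F := S.f ≫ e₂.hom
  have hfg : f ≫ g = 0 := by
    simp only [f, g, Category.assoc, Iso.hom_inv_id_assoc, reassoc_of% S.zero, zero_comp]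
  have hS' : (ShortComplex.mk f g hfg).ShortExact := ShortComplex.shortExact_of_iso
    (ShortComplex.isoMk (Iso.refl _) e₂ e₃ (by simp [f]) (by simp [g]) : S ≅ ShortComplex.mk f g hfg) hS
  haveI : Epi g := hS'.epi_g
  let g' : P.obj F ⟶ P.obj F := P.map g ≫ adj.counit.app _
  haveI : P.IsLeftAdjoint := adj.isLeftAdjoint
  haveI : Epi g' := epi_comp _ _
  haveI : IsIso g' := isIso_of_epi_endo (DerPerf.isFinLocFree_pullback j hF) g'
  have hg : adj.unit.app F ≫ Q.map g' = g := by
    rw [Functor.map_comp, ← Category.assoc]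
    erw [← adj.unit.naturality g]
    rw [Category.assoc]
    exact (congrArg (g ≫ ·) (adj.right_triangle_components _)).trans (Category.comp_id g)
  have w : f ≫ adj.unit.app F = 0 := by
    rw [← cancel_mono (Q.map g'), Category.assoc, hg, hfg, zero_comp]
  refine ⟨S.X₁, f, w, ?_, ?_, ⟨(KFlat.pullTensorIso j (ClSub.idealMod j.ker) F).symm⟩⟩
  · let S'' : ShortComplex X.Modules := ShortComplex.mk f (adj.unit.app F) w
    let eI : ShortComplex.mk f g hfg ≅ S'' := ShortComplex.isoMk (Iso.refl _) (Iso.refl _)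
      (Q.mapIso (asIso g')).symm (by simp [S'']) (by
        change 𝟙 F ≫ adj.unit.app F = g ≫ Q.map (inv g')
        rw [← hg, Category.assoc, ← Q.map_comp, IsIso.hom_inv_id, CategoryTheory.Functor.map_id]
        erw [Category.comp_id, Category.id_comp])
    exact ShortComplex.shortExact_of_iso eI hS'
  · exact ClSubLib.isIso_unit j S.X₁ (killedBy_tensor j.ker (killedBy_idealMod j.ker hI) F)

/-- Homomorphisms of finite locally free modules lift through a square-zero closed immersion when the
obstruction group vanishes. -/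
theorem exists_hom_lift (hI : j.ker ^ 2 = ⊥) {E F : X.Modules}
    (hE : FlatMod.IsFinLocFree E) (hF : FlatMod.IsFinLocFree F) [HasExt.{u} Z.Modules]
    (h1 : Subsingleton (Ext.{u} ((Scheme.Modules.pullback j).obj E)
      (CohB1.tensorMod ((Scheme.Modules.pullback j).obj (ClSub.idealMod j.ker))
        ((Scheme.Modules.pullback j).obj F)) 1))
    (u₀ : (Scheme.Modules.pullback j).obj E ⟶ (Scheme.Modules.pullback j).obj F) :
    ∃ u : E ⟶ F, (Scheme.Modules.pullback j).map u = u₀ := by
  haveI := SerrePn.enoughInjectives (X := X)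
  let P := Scheme.Modules.pullback j
  let adj := Scheme.Modules.pullbackPushforwardAdjunction j
  obtain ⟨K, f, w, hS, hK, ⟨eK⟩⟩ := exists_unit_seq j hI hF
  have hker : Subsingleton (Ext E K 1) := by
    have h' : Subsingleton (Ext (P.obj E) (P.obj K) 1) := @Equiv.subsingleton _ _
      ((extFunctorObj (P.obj E) 1).mapIso eK).addCommGroupIsoToAddEquiv.toEquiv h1
    have := ext_one_push j hE (LocFree.isQCoh_of_isFinLocFree hE) (P.obj K) h'
    exact @Equiv.subsingleton _ _
      ((extFunctorObj E 1).mapIso (asIso (adj.unit.app K))).addCommGroupIsoToAddEquiv.toEquiv this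
  obtain ⟨u, hu⟩ := @SiteCoh.exists_lift_of_subsingleton_ext_one _ _ _ _ _ hS E hker (adj.homEquiv _ _ u₀)
  refine ⟨u, (adj.homEquiv E (P.obj F)).injective ?_⟩
  rw [← hu, Adjunction.homEquiv_unit]
  exact (adj.unit.naturality u).symm

/-- An endomorphism restricting to the identity along a square-zero closed immersion is invertible. -/
theorem isIso_of_map_eq_id (hI : j.ker ^ 2 = ⊥) {F : X.Modules} (hF : FlatMod.IsFinLocFree F) (v : F ⟶ F)
    (hv : (Scheme.Modules.pullback j).map v = 𝟙 _) : IsIso v := by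
  let P := Scheme.Modules.pullback j
  let Q := Scheme.Modules.pushforward j
  let adj := Scheme.Modules.pullbackPushforwardAdjunction j
  obtain ⟨K, f, w, hS, hK, -⟩ := exists_unit_seq j hI hF
  haveI := P.additive_of_preserves_binary_products
  have hn : (v - 𝟙 F) ≫ adj.unit.app F = 0 := by
    rw [Preadditive.sub_comp, Category.id_comp, show v ≫ adj.unit.app F = _ from adj.unit.naturality v,
      Functor.comp_map, hv, CategoryTheory.Functor.map_id]
    erw [Category.comp_id]
    exact sub_self _
  obtain ⟨l, hl⟩ := KernelFork.IsLimit.lift' hS.fIsKernel (v - 𝟙 F) hn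
  have hl' : l ≫ f = v - 𝟙 F := hl
  have h0 : f ≫ l = 0 := by
    rw [← cancel_mono (adj.unit.app K), zero_comp, Category.assoc,
      show l ≫ adj.unit.app K = _ from adj.unit.naturality l, reassoc_of% w, zero_comp]
  refine ⟨𝟙 F - (v - 𝟙 F), ?_, ?_⟩
  all_goals
    rw [show v = 𝟙 F + l ≫ f by rw [hl', add_sub_cancel]]
    simp only [add_sub_cancel_left, Preadditive.comp_sub, Preadditive.sub_comp, Preadditive.add_comp,
      Preadditive.comp_add, Category.comp_id, Category.id_comp, Category.assoc, reassoc_of% h0, zero_comp,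
      comp_zero, add_zero]
    abel

/-- Finite locally free modules with isomorphic restrictions are isomorphic when the deformation group
vanishes. -/
theorem nonempty_iso_of_map_iso (hI : j.ker ^ 2 = ⊥) {E E' : X.Modules}
    (hE : FlatMod.IsFinLocFree E) (hE' : FlatMod.IsFinLocFree E') [HasExt.{u} Z.Modules]
    (e : (Scheme.Modules.pullback j).obj E ≅ (Scheme.Modules.pullback j).obj E')
    (h1 : Subsingleton (Ext.{u} ((Scheme.Modules.pullback j).obj E)
      (CohB1.tensorMod ((Scheme.Modules.pullback j).obj (ClSub.idealMod j.ker))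
        ((Scheme.Modules.pullback j).obj E)) 1)) : Nonempty (E ≅ E') := by
  let T := (Scheme.Modules.pullback j).obj (ClSub.idealMod j.ker)
  have h₁ : Subsingleton (Ext.{u} ((Scheme.Modules.pullback j).obj E) (CohB1.tensorMod T ((Scheme.Modules.pullback j).obj E')) 1) :=
    @Equiv.subsingleton _ _ ((extFunctorObj _ 1).mapIso (PicGrp.tensorModIso (Iso.refl T) e.symm)).addCommGroupIsoToAddEquiv.toEquiv h1
  have h₂ : Subsingleton (Ext.{u} ((Scheme.Modules.pullback j).obj E') (CohB1.tensorMod T ((Scheme.Modules.pullback j).obj E)) 1) := by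
    refine subsingleton_of_forall_eq 0 fun ξ => ?_
    rw [← Ext.mk₀_id_comp ξ, ← e.inv_hom_id, ← Ext.mk₀_comp_mk₀, Ext.comp_assoc_of_second_deg_zero]
    rw [h1.elim ((Ext.mk₀ e.hom).comp ξ (zero_add 1)) 0, Ext.comp_zero]
  obtain ⟨a, ha⟩ := exists_hom_lift j hI hE hE' h₁ e.hom
  obtain ⟨b, hb⟩ := exists_hom_lift j hI hE' hE h₂ e.inv
  haveI := isIso_of_map_eq_id j hI hE (a ≫ b) (by rw [Functor.map_comp, ha, hb, e.hom_inv_id])
  haveI := isIso_of_map_eq_id j hI hE' (b ≫ a) (by rw [Functor.map_comp, ha, hb, e.inv_hom_id])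
  haveI : Mono a := mono_of_mono a b
  haveI : Epi a := epi_of_epi b a
  haveI : IsIso a := isIso_of_mono_of_epi a
  exact ⟨asIso a⟩

end Groth.Agent.DefLift
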