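import Groth.Agent.Conormal.Basic
import Groth.Agent.ClSubLib.EssSurj
import Mathlib

/-!
# Sections killed on a first order thickening
-/

set_option autoImplicit false
set_option linter.style.haveILetI false
set_option backward.isDefEq.respectTransparency false
universe u

open CategoryTheory CategoryTheory.Limits AlgebraicGeometry Opposite TopologicalSpace

noncomputable section

namespace Groth.Agent.DefLift

open Groth.Agent.QC

variable {T₀ T : Scheme.{u}} (i : T₀ ⟶ T)

/-- The kernel of a closed immersion squares to zero on affine opens. -/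
def IsSqZero : Prop :=
  ∀ (U : T.affineOpens) (x y : Γ(T, U.1)), x ∈ RingHom.ker (i.app U.1).hom → y ∈ RingHom.ker (i.app U.1).hom → x * y = 0

variable {i} [IsClosedImmersion i] (hsq : IsSqZero i)

include hsq in
theorem surjective_of_sqZero : Function.Surjective i := by
  intro p
  obtain ⟨_, ⟨W, hW, rfl⟩, hpW, -⟩ := T.isBasis_affineOpens.exists_subset_of_mem_open
    (show p ∈ ((⊤ : T.Opens) : Set T) from trivial) (⊤ : T.Opens).2
  have hsupp : p ∈ (i.ker.support : Set T) := by
    refine (Scheme.IdealSheafData.mem_support_iff_of_mem (U := ⟨W, hW⟩) hpW).2 ?_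
    rw [Scheme.mem_zeroLocus_iff]
    intro x hx hmem
    have hn : x * x = 0 := hsq ⟨W, hW⟩ x x (by rwa [Scheme.Hom.ker_apply] at hx) (by rwa [Scheme.Hom.ker_apply] at hx)
    have h2 : p ∈ T.basicOpen (x * x) := by
      rw [T.basicOpen_mul]
      exact ⟨hmem, hmem⟩
    rw [hn, T.basicOpen_zero] at h2
    exact h2
  rwa [Scheme.Hom.support_ker, i.isClosedEmbedding.isClosed_range.closure_eq] at hsupp

include hsq in
theorem killedByIdeal_idealMod : ClSub.KilledByIdeal i.ker (ClSub.idealMod i.ker) := fun U a ha m => by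
  refine Conormal.idealSect_injective i.ker U.1 ?_
  rw [Conormal.idealSect_smul, map_zero]
  exact hsq U a _ (by rwa [Scheme.Hom.ker_apply] at ha) (Conormal.app_idealSect i U.1 m)

include hsq in
theorem conormalSect_bijective (W : T.Opens) : Function.Bijective (OmegaSh.conormalSect i W) := by
  haveI : IsIso ((Scheme.Modules.pullbackPushforwardAdjunction i).unit.app (ClSub.idealMod i.ker)) :=
    ClSubLib.isIso_unit i _ (killedByIdeal_idealMod hsq)
  exact ConcreteCategory.bijective_of_isIso
    (((Scheme.Modules.pullbackPushforwardAdjunction i).unit.app (ClSub.idealMod i.ker)).app W)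

theorem exists_kerSect (W : T.Opens) (r : Γ(T, W)) :
    ∃ s : Γ(ClSub.idealMod i.ker, W), i.app W r = 0 → OmegaSh.idealSect i.ker W s = r := by
  classical
  by_cases h : i.app W r = 0
  · obtain ⟨s, hs⟩ := Conormal.exists_idealSect i W r h
    exact ⟨s, fun _ => hs⟩
  · exact ⟨0, fun h' => absurd h' h⟩

/-- The conormal section of a function killed on the subscheme. -/
def kerVal (W : T.Opens) (r : Γ(T, W)) : Γ(Omega.conormal i, i ⁻¹ᵁ W) :=
  OmegaSh.conormalSect i W (exists_kerSect (i := i) W r).choose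

theorem kerVal_eq {W : T.Opens} (s : Γ(ClSub.idealMod i.ker, W)) :
    kerVal W (OmegaSh.idealSect i.ker W s) = OmegaSh.conormalSect i W s :=
  congrArg _ (Conormal.idealSect_injective _ _
    ((exists_kerSect (i := i) W _).choose_spec (Conormal.app_idealSect i W s)))

theorem kerVal_add {W : T.Opens} {a b : Γ(T, W)} (ha : i.app W a = 0) (hb : i.app W b = 0) :
    kerVal W (a + b) = kerVal (i := i) W a + kerVal W b := by
  obtain ⟨s, rfl⟩ := Conormal.exists_idealSect i W a ha
  obtain ⟨t, rfl⟩ := Conormal.exists_idealSect i W b hb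
  rw [← map_add, kerVal_eq, kerVal_eq, kerVal_eq, map_add]

theorem kerVal_zero (W : T.Opens) : kerVal (i := i) W 0 = 0 := by
  rw [← map_zero (OmegaSh.idealSect i.ker W), kerVal_eq, map_zero]

theorem kerVal_neg {W : T.Opens} {a : Γ(T, W)} (ha : i.app W a = 0) : kerVal (i := i) W (-a) = -kerVal W a := by
  obtain ⟨s, rfl⟩ := Conormal.exists_idealSect i W a ha
  rw [← map_neg, kerVal_eq, kerVal_eq, map_neg]

theorem kerVal_sub {W : T.Opens} {a b : Γ(T, W)} (ha : i.app W a = 0) (hb : i.app W b = 0) :
    kerVal W (a - b) = kerVal (i := i) W a - kerVal W b := by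
  rw [sub_eq_add_neg, kerVal_add ha (by rw [map_neg, hb, neg_zero]), kerVal_neg hb, sub_eq_add_neg]

theorem kerVal_mul {W : T.Opens} (c : Γ(T, W)) {a : Γ(T, W)} (ha : i.app W a = 0) :
    kerVal (i := i) W (c * a) = i.app W c • kerVal W a := by
  obtain ⟨s, rfl⟩ := Conormal.exists_idealSect i W a ha
  rw [← Conormal.idealSect_smul, kerVal_eq, kerVal_eq, Conormal.conormalSect_smul]

theorem app_res_eq_zero {V W : T.Opens} (h : V ≤ W) {a : Γ(T, W)} (ha : i.app W a = 0) :
    i.app V (resO T h a) = 0 := by
  refine (ConcreteCategory.congr_hom (i.naturality (homOfLE h).op) a).trans ?_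
  change (T₀.presheaf.map _).hom (i.app W a) = 0
  rw [ha, map_zero]

theorem kerVal_res {V W : T.Opens} (h : V ≤ W) {a : Γ(T, W)} (ha : i.app W a = 0) :
    res (Omega.conormal i) (i.preimage_mono h) (kerVal W a) = kerVal V (resO T h a) := by
  obtain ⟨s, rfl⟩ := Conormal.exists_idealSect i W a ha
  rw [← Conormal.idealSect_res, kerVal_eq, kerVal_eq, Conormal.res_conormalSect]

include hsq in
theorem kerVal_injective {W : T.Opens} {a : Γ(T, W)} (ha : i.app W a = 0) (h : kerVal (i := i) W a = 0) : a = 0 := by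
  obtain ⟨s, rfl⟩ := Conormal.exists_idealSect i W a ha
  rw [kerVal_eq] at h
  rw [show s = 0 from (conormalSect_bijective hsq W).1 (h.trans (map_zero _).symm), map_zero]

include hsq in
theorem exists_kerVal_eq (W : T.Opens) (m : Γ(Omega.conormal i, i ⁻¹ᵁ W)) :
    ∃ a : Γ(T, W), i.app W a = 0 ∧ kerVal W a = m := by
  obtain ⟨s, rfl⟩ := (conormalSect_bijective hsq W).2 m
  exact ⟨_, Conormal.app_idealSect i W s, kerVal_eq s⟩

end Groth.Agent.DefLift
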