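import Groth.Agent.DefLift.PushDer
import Mathlib

/-!
# Linear dependence of cocycles of derivations modulo coboundaries
-/

set_option autoImplicit false
set_option linter.style.haveILetI false
set_option linter.unusedSectionVars false
set_option backward.isDefEq.respectTransparency false
set_option maxHeartbeats 800000
universe u

open CategoryTheory CategoryTheory.Limits AlgebraicGeometry Opposite TopologicalSpace Abelian

noncomputable section

namespace Groth.Agent.DefLift

open Groth.Agent.QC Groth.Agent.CechShRes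

section Hom

variable {Z X S : Scheme.{u}} (g : Z ⟶ X) {f : X ⟶ S} [QuasiSeparated f] {G : Z.Modules}
  {ι : Type u} (U : ι → Z.Opens)

/-- A map to the direct image of a coordinate gives a derivation. -/
abbrev coordDer {n : ℕ} (b : (Scheme.Modules.pullback g).obj (Omega.sheaf f) ⟶ ((CechOX.cechSh U).obj G).X n)
    (a : Fin (n + 1) → ι) : OmegaSh.Der f ((Scheme.Modules.pushforward g).obj (term U G a)) :=
  (OmegaSh.dOmega f).postcomp
    ((Scheme.Modules.pullbackPushforwardAdjunction g).homEquiv _ _ (b ≫ Pi.π (term U G) a)).val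

/-- A one cocycle of derivations is a map to the Čech complex killed by the differential. -/
theorem exists_cocycleHom (D : ∀ a : Fin 2 → ι, OmegaSh.Der f ((Scheme.Modules.pushforward g).obj (term U G a)))
    (hD : ∀ (a : Fin 3 → ι) (V : X.Opens) (s : Γ(X, V)),
      ∑ k : Fin 3, (-1 : ℤ) ^ (k : ℕ) • res G (cut_drop U (g ⁻¹ᵁ V) a k) (derVal g U (D (a ∘ k.succAbove)) V s) = 0) :
    ∃ c : (Scheme.Modules.pullback g).obj (Omega.sheaf f) ⟶ ((CechOX.cechSh U).obj G).X 1,
      c ≫ ((CechOX.cechSh U).obj G).d 1 2 = 0 ∧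
      ∀ a V s, derVal g U (coordDer g U c a) V s = derVal g U (D a) V s := by
  let adj := Scheme.Modules.pullbackPushforwardAdjunction g
  let Ω := (Scheme.Modules.pullback g).obj (Omega.sheaf f)
  choose α hα hα' using fun a => OmegaLib.isUniversal_dOmega f _ (D a)
  have hval : ∀ a V s, (α a).app V (OmegaSh.dSect f V s) = derVal g U (D a) V s := fun a V s =>
    congrArg (fun E : OmegaSh.Der f _ => E.app V s) (hα a)
  let φ : ∀ a : Fin 2 → ι, Ω ⟶ term U G a := fun a => (adj.homEquiv _ _).symm (α a)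
  let c : Ω ⟶ ((CechOX.cechSh U).obj G).X 1 := Pi.lift φ
  refine ⟨c, Pi.hom_ext _ _ fun a => ?_, fun a V s => ?_⟩
  · rw [zero_comp, Category.assoc]
    refine Eq.trans ?_ ((adj.homEquiv _ _).injective (a₁ := ∑ k : Fin 3, (-1 : ℤ) ^ (k : ℕ) •
      (φ (a ∘ k.succAbove) ≫ CechOX.pushRestrMapApp (le_drop U a k) G)) (a₂ := 0) ?_)
    · refine (congrArg (c ≫ ·) (d_π U G a)).trans ((Preadditive.comp_sum _ _ _).trans ?_)
      refine Finset.sum_congr rfl fun k _ => ?_
      rw [Preadditive.comp_zsmul]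
      exact congrArg _ (Pi.lift_π_assoc (f := term U G) φ _ _)
    · let q := adj.homEquiv (Omega.sheaf f) (term U G a) (∑ k : Fin 3, (-1 : ℤ) ^ (k : ℕ) •
        (φ (a ∘ k.succAbove) ≫ CechOX.pushRestrMapApp (le_drop U a k) G))
      obtain ⟨β, -, hu⟩ := OmegaLib.isUniversal_dOmega f _ ((OmegaSh.dOmega f).postcomp q.val)
      refine (hu _ rfl).trans (hu _ ?_).symm
      refine PresheafOfModules.Derivation.ext (funext fun V => ?_)
      ext s
      rw [show adj.homEquiv (Omega.sheaf f) (term U G a) 0 = 0 by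
        rw [Adjunction.homEquiv_unit, Functor.map_zero, comp_zero]]
      refine Eq.trans ?_ (sum_val g U φ a V.unop s).symm
      refine Eq.trans (hD a V.unop s).symm (Finset.sum_congr rfl fun k _ => ?_)
      rw [← hval]
      simp only [φ, adj, Equiv.apply_symm_apply]
  · have h1 : adj.homEquiv _ _ (c ≫ Pi.π (term U G) a) = α a :=
      (congrArg (adj.homEquiv _ _) (Pi.lift_π (f := term U G) φ a)).trans (Equiv.apply_symm_apply _ _)
    rw [← hval, ← h1]
    rfl

/-- The values of the boundary of a zero cochain. -/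
theorem derVal_coordDer_d (b : (Scheme.Modules.pullback g).obj (Omega.sheaf f) ⟶ ((CechOX.cechSh U).obj G).X 0)
    (a : Fin 2 → ι) (V : X.Opens) (s : Γ(X, V)) :
    derVal g U (coordDer g U (b ≫ ((CechOX.cechSh U).obj G).d 0 1) a) V s =
      ∑ k : Fin 2, (-1 : ℤ) ^ (k : ℕ) •
        res G (cut_drop U (g ⁻¹ᵁ V) a k) (derVal g U (coordDer g U b (a ∘ k.succAbove)) V s) := by
  have h2 : (b ≫ ((CechOX.cechSh U).obj G).d 0 1) ≫ Pi.π (term U G) a = ∑ k : Fin 2, (-1 : ℤ) ^ (k : ℕ) •
      ((b ≫ Pi.π (term U G) (a ∘ k.succAbove)) ≫ CechOX.pushRestrMapApp (le_drop U a k) G) := by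
    refine (Category.assoc _ _ _).trans ((congrArg (b ≫ ·) (d_π U G a)).trans ((Preadditive.comp_sum _ _ _).trans ?_))
    exact Finset.sum_congr rfl fun k _ => by rw [Preadditive.comp_zsmul, Category.assoc]
  exact (congrArg (fun q => ((Scheme.Modules.pullbackPushforwardAdjunction g).homEquiv (Omega.sheaf f) (term U G a) q).app V
    (OmegaSh.dSect f V s)) h2).trans (sum_val g U (fun a => b ≫ Pi.π (term U G) a) a V s)

end Hom

section Linear

variable {k : Type u} [Field k] {Z X S : Scheme.{u}} [Z.Over (Spec (CommRingCat.of k))] (g : Z ⟶ X) {f : X ⟶ S}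
  [QuasiSeparated f] {G : Z.Modules} {ι : Type u} (U : ι → Z.Opens)

/-- The scalars on the sections over an open. -/
abbrev scal (C : Z.Opens) (a : k) : Γ(Z, C) :=
  Z.presheaf.map (homOfLE (le_top : C ≤ ⊤)).op (Coh.toGlobal (Z ↘ Spec (CommRingCat.of k)) a)

theorem resO_scal {C C' : Z.Opens} (h : C' ≤ C) (a : k) : resO Z h (scal C a) = scal C' a := by
  change resO Z h (resO Z le_top _) = resO Z le_top _
  rw [resO_resO]

theorem derVal_coordDer_sum {n d : ℕ} (c : Fin d → ((Scheme.Modules.pullback g).obj (Omega.sheaf f) ⟶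
      ((CechOX.cechSh U).obj G).X n)) (lam : Fin d → k) (a : Fin (n + 1) → ι) (V : X.Opens) (s : Γ(X, V)) :
    derVal g U (coordDer g U (∑ j, lam j • c j) a) V s =
      ∑ j, scal (cut U (g ⁻¹ᵁ V) a) (lam j) • derVal g U (coordDer g U (c j) a) V s := by
  let ev : ((Scheme.Modules.pullback g).obj (Omega.sheaf f) ⟶ ((CechOX.cechSh U).obj G).X n) →+
      Γ(G, cut U (g ⁻¹ᵁ V) a) :=
    AddMonoidHom.mk' (fun q => derVal g U (coordDer g U q a) V s) fun p q => by
      change ((Scheme.Modules.pullbackPushforwardAdjunction g).homEquiv _ _ ((p + q) ≫ _)).app V _ = _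
      rw [Preadditive.add_comp, Adjunction.homEquiv_unit, Functor.map_add, Preadditive.comp_add]
      rfl
  change ev _ = _
  rw [map_sum]
  refine Finset.sum_congr rfl fun j _ => ?_
  change ((Scheme.Modules.pullbackPushforwardAdjunction g).homEquiv _ _ ((lam j • c j) ≫ _)).app V _ =
    _ • (show Γ(G, cut U (g ⁻¹ᵁ V) a) from
      ((Scheme.Modules.pullbackPushforwardAdjunction g).homEquiv _ _ (c j ≫ Pi.π (term U G) a)).app V _)
  rw [Linear.smul_comp, Adjunction.homEquiv_unit, Adjunction.homEquiv_unit]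
  refine (KLin.smul_app_apply (lam j) (c j ≫ Pi.π (term U G) a) (g ⁻¹ᵁ V) _).trans ((term_smul U a _ _ _).trans ?_)
  rw [← resO_scal (cut_le U (g ⁻¹ᵁ V) a)]
  rfl

/-- More cocycles than the dimension of the first Ext group are dependent modulo coboundaries. -/
theorem exists_dependence [HasExt.{u} Z.Modules]
    [Module.Finite k (Ext ((Scheme.Modules.pullback g).obj (Omega.sheaf f)) G 1)] {d : ℕ}
    (hd : Module.finrank k (Ext ((Scheme.Modules.pullback g).obj (Omega.sheaf f)) G 1) < d) (hcov : ⨆ i, U i = ⊤)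
    (D : Fin d → ∀ a : Fin 2 → ι, OmegaSh.Der f ((Scheme.Modules.pushforward g).obj (term U G a)))
    (hD : ∀ j (a : Fin 3 → ι) (V : X.Opens) (s : Γ(X, V)),
      ∑ l : Fin 3, (-1 : ℤ) ^ (l : ℕ) •
        res G (cut_drop U (g ⁻¹ᵁ V) a l) (derVal g U (D j (a ∘ l.succAbove)) V s) = 0) :
    ∃ lam : Fin d → k, lam ≠ 0 ∧ ∃ E : ∀ a : Fin 1 → ι, OmegaSh.Der f ((Scheme.Modules.pushforward g).obj (term U G a)),
      ∀ (a : Fin 2 → ι) (V : X.Opens) (s : Γ(X, V)),
        ∑ j, scal (cut U (g ⁻¹ᵁ V) a) (lam j) • derVal g U (D j a) V s =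
          ∑ l : Fin 2, (-1 : ℤ) ^ (l : ℕ) •
            res G (cut_drop U (g ⁻¹ᵁ V) a l) (derVal g U (E (a ∘ l.succAbove)) V s) := by
  let K := (CechOX.cechSh U).obj G
  let F := (Scheme.Modules.pullback g).obj (Omega.sheaf f)
  let aug := CechOX.cechShAug U G
  choose c hcd hc using fun j => exists_cocycleHom g U (D j) (hD j)
  have h1 := exact_succ U G hcov 0
  haveI := mono_aug U G hcov
  rw [HomologicalComplex.exactAt_iff' _ 0 1 2 (by simp) (by simp)] at h1
  let p : K.X 0 ⟶ kernel (K.d 1 2) := kernel.lift _ (K.d 0 1) (K.d_comp_d 0 1 2)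
  haveI : Epi p := (ShortComplex.exact_iff_epi_kernel_lift (K.sc' 0 1 2)).1 h1
  have hp : aug ≫ p = 0 := by
    rw [← cancel_mono (kernel.ι (K.d 1 2))]
    simp [p, aug, K, aug_d U G]
  let S' : ShortComplex Z.Modules := ShortComplex.mk aug p hp
  have hS : S'.ShortExact :=
    { exact := by
        have h0 := exact_zero U G hcov
        rw [← ShortComplex.exact_iff_of_epi_of_isIso_of_mono
          (φ := ({ τ₁ := 𝟙 _, τ₂ := 𝟙 _, τ₃ := kernel.ι (K.d 1 2), comm₁₂ := by simp [S', aug],
                   comm₂₃ := by simp [S', p, K] } : S' ⟶ ShortComplex.mk _ _ (aug_d U G)))] at h0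
        exact h0
      mono_f := inferInstanceAs (Mono aug)
      epi_g := inferInstanceAs (Epi p) }
  let v : Fin d → Ext F G 1 := fun j => (Ext.mk₀ (kernel.lift _ (c j) (hcd j))).comp hS.extClass (zero_add 1)
  have hdep : ¬ LinearIndependent k v := fun hli => by
    have := hli.fintype_card_le_finrank
    rw [Fintype.card_fin] at this
    exact absurd hd (not_lt.2 this)
  obtain ⟨lam, hlam, i₀, hi₀⟩ := Fintype.not_linearIndependent_iff.1 hdep
  let w : F ⟶ kernel (K.d 1 2) := ∑ j, lam j • kernel.lift _ (c j) (hcd j)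
  have hw : (Ext.mk₀ w).comp hS.extClass (zero_add 1) = 0 := by
    rw [← hlam]
    simp only [w, v, Ext.mk₀_sum, Ext.mk₀_smul, Ext.sum_comp, Ext.smul_comp]
  obtain ⟨e, he⟩ := Ext.covariant_sequence_exact₃ F hS (Ext.mk₀ w) (zero_add 1) hw
  obtain ⟨b, rfl⟩ := Ext.addEquiv₀.symm.surjective e
  rw [Ext.addEquiv₀_symm_apply, Ext.mk₀_comp_mk₀] at he
  have hb : b ≫ p = w := (Ext.mk₀_bijective F (kernel (K.d 1 2))).1 he
  have hb' : b ≫ K.d 0 1 = ∑ j, lam j • c j := by
    have := congrArg (· ≫ kernel.ι (K.d 1 2)) hb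
    simpa only [p, w, K, Category.assoc, Preadditive.sum_comp, Linear.smul_comp, kernel.lift_ι] using this
  refine ⟨lam, fun h => hi₀ (congrFun h i₀), fun a => coordDer g U b a, fun a V s => ?_⟩
  rw [← derVal_coordDer_d, hb', derVal_coordDer_sum]
  exact Finset.sum_congr rfl fun j _ => by rw [hc]

end Linear

end Groth.Agent.DefLift
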