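import Groth.Agent.DefLift.Coord
import Groth.Agent.DefLift.PushLin
import Groth.Agent.DefLift.Extend2
import Groth.Prelude.Def_ArtFun6
import Mathlib

/-!
# Few first order deformations fail to map to a given smooth scheme
-/

set_option autoImplicit false
set_option linter.style.haveILetI false
set_option linter.unusedSectionVars false
set_option backward.isDefEq.respectTransparency false
set_option maxHeartbeats 800000
universe u

open CategoryTheory CategoryTheory.Limits AlgebraicGeometry Opposite TopologicalSpace Abelian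

noncomputable section

namespace Groth.Agent.DefLift

open Groth.Agent.QC Groth.Agent.CechShRes ArtFun ArtFun.Art Groth.Agent.ArtKit

/-- Lifts extend to a thickening on which their differences become a boundary. -/
theorem exists_lift_of_factor {T₀ T T' X S : Scheme.{u}} {i : T₀ ⟶ T} {i' : T₀ ⟶ T'} {π : T' ⟶ T}
    [IsClosedImmersion i] [IsClosedImmersion i'] (hπ : i' ≫ π = i) (hs : IsSqZero i) (hs' : IsSqZero i')
    (f : X ⟶ S) [QuasiSeparated f] (a : T ⟶ S) (a₀ : T₀ ⟶ X) {ι : Type u} (U : ι → T.Opens) (hU : iSup U = ⊤)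
    (b : ∀ j, (U j).toScheme ⟶ X) (hb₁ : ∀ j, b j ≫ f = (U j).ι ≫ a)
    (hb₂ : ∀ j, (i ∣_ U j) ≫ b j = (i ⁻¹ᵁ U j).ι ≫ a₀) (hsqr : a₀ ≫ f = i ≫ a) {G : T₀.Modules}
    (η : G ⟶ Omega.conormal i') (Ψ : Omega.conormal i ⟶ G)
    (hfac : ∀ (C : T₀.Opens) (r : Γ(T, up hs C)) (e : up hs' C ≤ π ⁻¹ᵁ up hs C),
      downVal hs C r = 0 → kv hs' C (π.appLE _ _ e r) = η.app C (Ψ.app C (kv hs C r)))
    (hsplit : ∃ E : ∀ c : Fin 1 → ι,
        OmegaSh.Der f ((Scheme.Modules.pushforward a₀).obj (term (fun j => i ⁻¹ᵁ U j) G c)),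
      ∀ (c : Fin 2 → ι) (V : X.Opens) (s : Γ(X, V)),
        Ψ.app (cut (fun j => i ⁻¹ᵁ U j) (a₀ ⁻¹ᵁ V) c)
            (derVal a₀ (fun j => i ⁻¹ᵁ U j) (diffDer hs f a a₀ U b hb₁ hb₂ hsqr c) V s) =
          ∑ l : Fin 2, (-1 : ℤ) ^ (l : ℕ) •
            res G (cut_drop (fun j => i ⁻¹ᵁ U j) (a₀ ⁻¹ᵁ V) c l)
              (derVal a₀ (fun j => i ⁻¹ᵁ U j) (E (c ∘ l.succAbove)) V s)) :
    ∃ b' : T' ⟶ X, b' ≫ f = π ≫ a ∧ i' ≫ b' = a₀ := by
  subst hπ
  obtain ⟨E, hE⟩ := hsplit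
  have hb₁' : ∀ j, pullLift U b (π := π) j ≫ f = (π ⁻¹ᵁ U j).ι ≫ π ≫ a := fun j => by
    rw [Category.assoc, hb₁, morphismRestrict_ι_assoc]
  refine exists_extension_of_split hs' f (π ≫ a) a₀ (fun j => π ⁻¹ᵁ U j) (pullLift U b) hb₁'
    (pullLift_comp a₀ U b hb₂) (by rw [hsqr, Category.assoc]) ?_ ⟨fun c => mapDer a₀ _ η (E c), fun c V s => ?_⟩
  · refine eq_top_iff.2 fun p _ => ?_
    obtain ⟨j, hj⟩ := Opens.mem_iSup.1 (hU.ge (trivial : π p ∈ (⊤ : T.Opens)))
    exact Opens.mem_iSup.2 ⟨j, hj⟩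
  let U' : ι → T₀.Opens := fun j => (i' ≫ π) ⁻¹ᵁ U j
  let C := cut U' (a₀ ⁻¹ᵁ V) c
  let r : Γ(T, up hs C) := liftSec hs a₀ U b hb₂ V (cut_le U' _ c) (c 1) (cut_le' U' _ c 1) s -
    liftSec hs a₀ U b hb₂ V (cut_le U' _ c) (c 0) (cut_le' U' _ c 0) s
  change diffVal hs' a₀ (fun j => π ⁻¹ᵁ U j) (pullLift U b) (pullLift_comp a₀ U b hb₂) C V (cut_le U' _ c) (c 0) (c 1)
    (cut_le' U' _ c 0) (cut_le' U' _ c 1) s = _
  rw [diffVal, liftSec_pullLift hs hs' a₀ U b hb₂, liftSec_pullLift hs hs' a₀ U b hb₂, ← map_sub]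
  refine (hfac C r (up_le_preimage hs hs' C) (downVal_diff hs a₀ U b hb₂ _ _ _ _ _ _ _ s)).trans ?_
  refine (congrArg (η.app C) (hE c V s)).trans ?_
  rw [map_sum]
  refine Finset.sum_congr rfl fun l _ => ?_
  rw [map_zsmul, ← app_res η]
  rfl

variable {k : Type u} [Field k] {X P : Scheme.{u}} [X.Over (Spec (CommRingCat.of k))]
  (p : P ⟶ Spec (CommRingCat.of k)) [Smooth p] [QuasiSeparated p] (c : X ⟶ P)
  (hc : c ≫ p = X ↘ Spec (CommRingCat.of k))

include hc in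
/-- A large family of first order deformations has a combination mapping to `P`. -/
theorem exists_dependent_lift [HasExt.{u} X.Modules]
    [Module.Finite k (Ext ((Scheme.Modules.pullback c).obj (Omega.sheaf p)) (Coh.structureModule X) 1)] {d : ℕ}
    (hd : Module.finrank k (Ext ((Scheme.Modules.pullback c).obj (Omega.sheaf p)) (Coh.structureModule X) 1) < d)
    (ζ : DefSch X (X ↘ Spec (CommRingCat.of k)) (dualN k k d)) :
    ∃ lam : Fin d → k, lam ≠ 0 ∧ ∃ b : (ζ.baseChange (dualNHom (formOf lam))).total ⟶ P,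
      b ≫ p = (ζ.baseChange (dualNHom (formOf lam))).f ≫ specOver (Art.dual k k) ∧
      (ζ.baseChange (dualNHom (formOf lam))).i ≫ b = c := by
  classical
  let x := X ↘ Spec (CommRingCat.of k)
  let hs := isSqZero_defSch ζ dualN_sqzero
  let a := ζ.f ≫ specOver (dualN k k d)
  have hsqr : c ≫ p = ζ.i ≫ a := by
    rw [← Category.assoc, ζ.i_f, Category.assoc, specRes_comp, comp_specRes_base, hc]
  obtain ⟨U, b, hU, hb₁, hb₂⟩ := exists_local_lifts hs p a c hsqr
  let U' : X → X.Opens := fun j => ζ.i ⁻¹ᵁ U j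
  choose ψ hψfac hψval using fun j : Fin d => exists_coord ζ (LinearMap.proj j)
  let D : Fin d → ∀ a : Fin 2 → X, OmegaSh.Der p ((Scheme.Modules.pushforward c).obj (term U' (Coh.structureModule X) a)) :=
    fun j a' => mapDer c U' (ψ j) (diffDer hs p a c U b hb₁ hb₂ hsqr a')
  have hcov : ⨆ j, U' j = ⊤ := eq_top_iff.2 fun z _ => by
    obtain ⟨j, hj⟩ := Opens.mem_iSup.1 (hU.ge (trivial : ζ.i z ∈ (⊤ : ζ.total.Opens)))
    exact Opens.mem_iSup.2 ⟨j, hj⟩
  have hD : ∀ j (a' : Fin 3 → X) (V : P.Opens) (s : Γ(P, V)),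
      ∑ l : Fin 3, (-1 : ℤ) ^ (l : ℕ) •
        res (Coh.structureModule X) (cut_drop U' (c ⁻¹ᵁ V) a' l) (derVal c U' (D j (a' ∘ l.succAbove)) V s) = 0 := by
    intro j a' V s
    refine Eq.trans ?_ ((congrArg ((ψ j).app _) (diffDer_cocycle hs p a c U b hb₁ hb₂ hsqr a' V s)).trans (map_zero _))
    rw [map_sum]
    refine Finset.sum_congr rfl fun l _ => ?_
    rw [map_zsmul, ← app_res (ψ j)]
    rfl
  obtain ⟨lam, hlam, E, hE⟩ := exists_dependence c U' hd hcov D hD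
  refine ⟨lam, hlam, ?_⟩
  let g := dualNHom (Λ := k) (formOf lam)
  obtain ⟨ψ', hfac, hval⟩ := exists_coord ζ (formOf lam)
  let Ψ : Omega.conormal ζ.i ⟶ Coh.structureModule X := ∑ j, lam j • ψ j
  have happ : ∀ (C : X.Opens) (m : Γ(Omega.conormal ζ.i, C)), Ψ.app C m = ∑ j, scal C (lam j) • (ψ j).app C m := by
    intro C m
    let ev : (Omega.conormal ζ.i ⟶ Coh.structureModule X) →+ Γ(Coh.structureModule X, C) :=
      AddMonoidHom.mk' (fun q => q.app C m) fun _ _ => rfl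
    exact (map_sum ev _ _).trans (Finset.sum_congr rfl fun j _ => KLin.smul_app_apply (lam j) (ψ j) C m)
  have heq : ψ' = Ψ := by
    refine KosExt.hom_ext_affine fun C m => ?_
    obtain ⟨co, rfl⟩ := exists_repr ζ epsN (fun _ => rfl) mem_span_epsN hs C m
    rw [map_sum, map_sum]
    refine Finset.sum_congr rfl fun l _ => ?_
    rw [Scheme.Modules.Hom.app_smul, Scheme.Modules.Hom.app_smul, hval, happ, Finset.sum_eq_single l]
    · rw [hψval, LinearMap.proj_apply, Pi.single_eq_same, formOf_apply, Finset.sum_eq_single l]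
      · rw [Pi.single_eq_same, mul_one]
        refine congrArg (co l • ·) ?_
        change scal C.1 (lam l) = scal C.1 (lam l) * scalOn C.1 (1 : k)
        simp only [scalOn, map_one, mul_one]
      · intro j _ hj
        rw [Pi.single_eq_of_ne hj, mul_zero]
      · simp
    · intro j _ hj
      rw [hψval, LinearMap.proj_apply, Pi.single_eq_of_ne hj]
      simp only [scalOn, map_zero]
      exact smul_zero _
    · simp
  subst heq
  obtain ⟨b', hb', hb''⟩ := exists_lift_of_factor (DefSch.baseChange_i_fst ζ g) hs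
    (isSqZero_defSch (ζ.baseChange g) dual_sqzero) p a c U hU b hb₁ hb₂ hsqr (epsHom (ζ.baseChange g)) _ hfac
    ⟨E, fun c' V s => (happ _ _).trans (hE c' V s)⟩
  refine ⟨b', ?_, hb''⟩
  rw [hb', ← Category.assoc, pullback.condition, Category.assoc]
  exact congrArg (_ ≫ ·) (specOver_comp g)

end Groth.Agent.DefLift
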