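import Groth.Agent.DefLift.PieceOf
import Groth.Agent.AVOmega.Push
import Mathlib

/-!
# Lifting smooth schemes over square-zero thickenings
-/

set_option autoImplicit false
set_option linter.style.haveILetI false
set_option backward.isDefEq.respectTransparency false
universe u

open CategoryTheory CategoryTheory.Limits AlgebraicGeometry Opposite TopologicalSpace Abelian

noncomputable section

namespace Groth.Agent.DefLift

variable {S S₀ X₀ : Scheme.{u}} {ι : S₀ ⟶ S} [IsClosedImmersion ι] (hι : IsSqZero ι) {f₀ : X₀ ⟶ S₀}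

include hι in
/-- A smooth separated scheme lifts when two cocycles of derivations on affine covers split. -/
theorem exists_lifting_of_splits [Smooth f₀] [X₀.IsSeparated]
    (hsplit : ∀ (U : X₀ → X₀.Opens), (∀ x, IsAffineOpen (U x)) → (⨆ x, U x = ⊤) →
      (∀ x, ∃ Q : S.affineOpens, U x ≤ f₀ ⁻¹ᵁ (ι ⁻¹ᵁ Q.1)) → SplitsTwo f₀ (coeff ι f₀) U) :
    ∃ (X : Scheme.{u}) (f : X ⟶ S) (j : X₀ ⟶ X), Smooth f ∧ IsPullback j f₀ f ι := by
  have key : ∀ x : X₀, ∃ (U : X₀.affineOpens) (Q : S.affineOpens), x ∈ U.1 ∧ U.1 ≤ f₀ ⁻¹ᵁ (ι ⁻¹ᵁ Q.1) := fun x => by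
    obtain ⟨Q, hQ, -⟩ := KosExt.exists_affine_le (O := (⊤ : S.Opens)) (x := ι (f₀ x)) trivial
    obtain ⟨U, hU, hle⟩ := KosExt.exists_affine_le (O := f₀ ⁻¹ᵁ (ι ⁻¹ᵁ Q.1)) (x := x) hQ
    exact ⟨U, Q, hU, hle⟩
  choose U Q hxU hUQ using key
  choose V g k hg hc using fun x => exists_affine_deformation hι (U x) (Q x) (hUQ x)
  have hP : ∀ x, Nonempty (Piece ι f₀ (U x).1) := fun x =>
    haveI := hg x
    exists_piece hι (g x) (k x) (hc x) (Q x) (hUQ x)
  have hcov : ⨆ x, (U x).1 = ⊤ := eq_top_iff.2 fun x _ => Opens.mem_iSup.2 ⟨x, hxU x⟩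
  obtain ⟨T⟩ := exists_thickSystem_of_splits hι (fun x => (hP x).some) (fun a b => (U a).2.inf (U b).2) hcov
    (hsplit (fun x => (U x).1) (fun x => (U x).2) hcov fun x => ⟨Q x, hUQ x⟩)
  exact T.exists_thickening

include hι in
/-- A smooth separated scheme lifts when the second obstruction group vanishes. -/
theorem exists_lifting [Smooth f₀] [X₀.IsSeparated] [HasExt.{u} X₀.Modules]
    (h2 : Subsingleton (Ext (Omega.sheaf f₀) (coeff ι f₀) 2)) :
    ∃ (X : Scheme.{u}) (f : X ⟶ S) (j : X₀ ⟶ X), Smooth f ∧ IsPullback j f₀ f ι := by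
  refine exists_lifting_of_splits hι fun U hU hcov hQ => ?_
  choose Q hQ using hQ
  exact fun D hD => exists_der_split_two U (fun x => ⟨ι ⁻¹ᵁ (Q x).1, (Q x).2.preimage ι⟩) hQ hU hcov
    (AVOmega.isFinLocFree_omega f₀) (QC.isQCoh_pullback f₀ (Conormal.isQCoh_conormal ι)) h2 D hD

end Groth.Agent.DefLift
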