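import Groth.Agent.DefLift.Extend
import Groth.Agent.NilAffine.Main
import Groth.Agent.KosExt.Hom
import Mathlib

/-!
# Differences of local lifts under a change of the thickening
-/

set_option autoImplicit false
set_option linter.style.haveILetI false
set_option linter.unusedSectionVars false
set_option backward.isDefEq.respectTransparency false
universe u

open CategoryTheory CategoryTheory.Limits AlgebraicGeometry Opposite TopologicalSpace

noncomputable section

namespace Groth.Agent.DefLift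

open Groth.Agent.QC Groth.Agent.CechShRes

variable {T₀ T T' : Scheme.{u}} {i' : T₀ ⟶ T'} {π : T' ⟶ T} [IsClosedImmersion i'] [IsClosedImmersion (i' ≫ π)]
  (hsq : IsSqZero (i' ≫ π)) (hsq' : IsSqZero i')

theorem up_le_preimage (C : T₀.Opens) : up hsq' C ≤ π ⁻¹ᵁ up hsq C := by
  rintro p ⟨z, hz, rfl⟩
  exact ⟨z, hz, rfl⟩

/-- A function on an open of the thickening pulled back to the other thickening. -/
def pushUp (C : T₀.Opens) : Γ(T, up hsq C) →+* Γ(T', up hsq' C) :=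
  (π.appLE (up hsq C) (up hsq' C) (up_le_preimage hsq hsq' C)).hom

theorem downVal_pushUp (C : T₀.Opens) (r : Γ(T, up hsq C)) :
    downVal hsq' C (pushUp hsq hsq' C r) = downVal hsq C r := by
  change (π.appLE _ _ _ ≫ i'.appLE _ _ _) r = (i' ≫ π).appLE _ _ _ r
  rw [Scheme.Hom.appLE_comp_appLE]

theorem resO_pushUp {C C' : T₀.Opens} (h : C' ≤ C) (r : Γ(T, up hsq C)) :
    resO T' (up_mono hsq' h) (pushUp hsq hsq' C r) = pushUp hsq hsq' C' (resO T (up_mono hsq h) r) := by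
  change (π.appLE _ _ _ ≫ T'.presheaf.map (homOfLE _).op) r = (T.presheaf.map (homOfLE _).op ≫ π.appLE _ _ _) r
  rw [Scheme.Hom.appLE_map, Scheme.Hom.map_appLE]

/-- A map of conormal modules pushing the classes of functions. -/
def IsPush (φ : Omega.conormal (i' ≫ π) ⟶ Omega.conormal i') : Prop :=
  ∀ (C : T₀.Opens) (r : Γ(T, up hsq C)), downVal hsq C r = 0 →
    φ.app C (kv hsq C r) = kv hsq' C (pushUp hsq hsq' C r)

theorem isAffineOpen_up {i : T₀ ⟶ T} [IsClosedImmersion i] (hsq : IsSqZero i) (C : T₀.affineOpens) :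
    IsAffineOpen (up hsq C.1) := by
  haveI : Surjective i := ⟨surjective_of_sqZero hsq⟩
  haveI : IsClosedImmersion (i ∣_ up hsq C.1) := IsZariskiLocalAtTarget.restrict (P := @IsClosedImmersion) inferInstance _
  haveI : Surjective (i ∣_ up hsq C.1) := IsZariskiLocalAtTarget.restrict (P := @Surjective) inferInstance _
  haveI : IsAffine (i ⁻¹ᵁ up hsq C.1).toScheme := by
    rw [preimage_up]
    exact C.2
  exact NilAffine.isAffine_of_surjective (i ∣_ up hsq C.1)

theorem downVal_surjective {i : T₀ ⟶ T} [IsClosedImmersion i] (hsq : IsSqZero i) (C : T₀.affineOpens) :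
    Function.Surjective (downVal hsq C.1) := fun s => by
  obtain ⟨r, hr⟩ := i.app_surjective _ (isAffineOpen_up hsq C) (resO T₀ (preimage_up hsq C.1).le s)
  exact ⟨r, by rw [downVal_eq, hr, resO_resO, resO_self]⟩

theorem exists_isPush : ∃ φ : Omega.conormal (i' ≫ π) ⟶ Omega.conormal i', IsPush hsq hsq' φ := by
  choose e he he' using fun (C : T₀.affineOpens) (m : Γ(Omega.conormal (i' ≫ π), C.1)) => exists_kv_eq hsq C.1 m
  have huniq : ∀ (C : T₀.affineOpens) m r, downVal hsq C.1 r = 0 → kv hsq C.1 r = m → e C m = r := fun C m r h1 h2 => by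
    rw [← sub_eq_zero]
    refine kv_injective hsq (by rw [map_sub, he, h1, sub_self]) ?_
    rw [kv_sub hsq (he C m) h1, he', h2, sub_self]
  have hd : ∀ C m, downVal hsq' C.1 (pushUp hsq hsq' C.1 (e C m)) = 0 := fun C m => by rw [downVal_pushUp, he]
  obtain ⟨φ, hφ⟩ := KosExt.exists_hom_affine (Omega.conormal (i' ≫ π)) (Omega.conormal i')
    (fun C =>
      { toFun := fun m => kv hsq' C.1 (pushUp hsq hsq' C.1 (e C m))
        map_add' := fun m m' => by
          rw [huniq C (m + m') (e C m + e C m') (by rw [map_add, he, he, add_zero])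
            (by rw [kv_add hsq (he C m) (he C m'), he', he']), map_add, kv_add hsq' (hd C m) (hd C m')]
        map_smul' := fun s m => by
          obtain ⟨c, rfl⟩ := downVal_surjective hsq C s
          rw [huniq C _ (c * e C m) (by rw [map_mul, he, mul_zero]) (by rw [kv_mul hsq c (he C m), he']), map_mul,
            kv_mul hsq' _ (hd C m), downVal_pushUp, RingHom.id_apply] })
    (fun C C' h m => by
      change res _ h (kv hsq' C.1 _) = kv hsq' C'.1 (pushUp hsq hsq' C'.1 (e C' _))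
      rw [kv_res hsq' h (hd C m), resO_pushUp (h := h)]
      congr 2
      exact (huniq C' _ _ (by rw [downVal_res hsq h, he, map_zero]) (by rw [← kv_res hsq h (he C m), he']; try exact h)).symm)
  refine ⟨φ, fun C r hr => section_eq_of_locally fun z hz => ?_⟩
  obtain ⟨W, hzW, hW⟩ := KosExt.exists_affine_le hz
  refine ⟨W.1, hW, hzW, ?_⟩
  rw [app_res, kv_res hsq hW hr, kv_res hsq' hW (by rw [downVal_pushUp, hr]), resO_pushUp (h := hW), hφ]
  change kv hsq' W.1 (pushUp hsq hsq' W.1 (e W _)) = _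
  rw [huniq W _ _ (by rw [downVal_res hsq hW, hr, map_zero]) rfl]

section Lift

variable {X : Scheme.{u}} (a₀ : T₀ ⟶ X) {ι : Type u} (U : ι → T.Opens) (b : ∀ j, (U j).toScheme ⟶ X)
  (hb₂ : ∀ j, ((i' ≫ π) ∣_ U j) ≫ b j = ((i' ≫ π) ⁻¹ᵁ U j).ι ≫ a₀)

/-- The local lifts on the other thickening. -/
abbrev pullLift (j : ι) : (π ⁻¹ᵁ U j).toScheme ⟶ X := (π ∣_ U j) ≫ b j

include hb₂ in
theorem pullLift_comp (j : ι) :
    (i' ∣_ (π ⁻¹ᵁ U j)) ≫ pullLift U b (π := π) j = (i' ⁻¹ᵁ (π ⁻¹ᵁ U j)).ι ≫ a₀ := by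
  change _ = ((i' ≫ π) ⁻¹ᵁ U j).ι ≫ a₀
  rw [← hb₂ j, morphismRestrict_comp, Category.assoc]

theorem liftSec_pullLift (C : T₀.Opens) (V : X.Opens) (hC : C ≤ a₀ ⁻¹ᵁ V) (j : ι)
    (hj : C ≤ (i' ≫ π) ⁻¹ᵁ U j) (s : Γ(X, V)) :
    liftSec hsq' a₀ (fun j => π ⁻¹ᵁ U j) (pullLift U b) (pullLift_comp a₀ U b hb₂) V hC j hj s =
      pushUp hsq hsq' C (liftSec hsq a₀ U b hb₂ V hC j hj s) := by
  let O := up hsq C
  let O' := up hsq' C
  have hP : O ≤ U j := up_le hsq hj
  have hP' : O' ≤ π ⁻¹ᵁ U j := up_le hsq' hj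
  have hV := preimage_b hsq a₀ U b hb₂ hC j
  have hV' := preimage_b hsq' a₀ (fun j => π ⁻¹ᵁ U j) (pullLift U b) (pullLift_comp a₀ U b hb₂) hC j
  have key : secHom (pullLift U b j) V O' hP' hV' = secHom (b j) V O hP hV ≫ π.appLE O O' (up_le_preimage hsq hsq' C) := by
    have hO : (π ⁻¹ᵁ U j).ι ⁻¹ᵁ O' ≤ (π ∣_ U j) ⁻¹ᵁ ((U j).ι ⁻¹ᵁ O) := by
      rw [← Scheme.Hom.comp_preimage, morphismRestrict_ι, Scheme.Hom.comp_preimage]
      exact (π ⁻¹ᵁ U j).ι.preimage_mono (up_le_preimage hsq hsq' C)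
    rw [secHom, secHom, ← Scheme.Hom.appLE_comp_appLE (π ∣_ U j) (b j) V ((U j).ι ⁻¹ᵁ O) _ hV hO, Category.assoc,
      Category.assoc]
    congr 1
    rw [morphismRestrict_appLE, Scheme.Hom.appLE_map, Scheme.Hom.map_appLE]
  exact congr($key s)

variable {φ : Omega.conormal (i' ≫ π) ⟶ Omega.conormal i'} (hφ : IsPush hsq hsq' φ)

include hφ in
theorem diffVal_pullLift (C : T₀.Opens) (V : X.Opens) (hC : C ≤ a₀ ⁻¹ᵁ V) (j l : ι)
    (hj : C ≤ (i' ≫ π) ⁻¹ᵁ U j) (hl : C ≤ (i' ≫ π) ⁻¹ᵁ U l) (s : Γ(X, V)) :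
    diffVal hsq' a₀ (fun j => π ⁻¹ᵁ U j) (pullLift U b) (pullLift_comp a₀ U b hb₂) C V hC j l hj hl s =
      φ.app C (diffVal hsq a₀ U b hb₂ C V hC j l hj hl s) := by
  rw [diffVal, diffVal, liftSec_pullLift hsq hsq' a₀ U b hb₂, liftSec_pullLift hsq hsq' a₀ U b hb₂,
    hφ C _ (downVal_diff hsq a₀ U b hb₂ C V hC j l hj hl s), map_sub]

end Lift

section Push

variable {X S Z : Scheme.{u}} {f : X ⟶ S} (g : Z ⟶ X) {G G' : Z.Modules} {ι : Type u} (U : ι → Z.Opens)

/-- A derivation followed by a map of coefficients. -/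
abbrev mapDer {n : ℕ} {a : Fin (n + 1) → ι} (ψ : G ⟶ G')
    (D : OmegaSh.Der f ((Scheme.Modules.pushforward g).obj (term U G a))) :
    OmegaSh.Der f ((Scheme.Modules.pushforward g).obj (term U G' a)) :=
  D.postcomp ((Scheme.Modules.pushforward g).map ((CechOX.pushRestr (∏ᶜ (U ∘ a))).map ψ)).val

theorem derVal_mapDer {n : ℕ} {a : Fin (n + 1) → ι} (ψ : G ⟶ G')
    (D : OmegaSh.Der f ((Scheme.Modules.pushforward g).obj (term U G a))) (V : X.Opens) (s : Γ(X, V)) :
    derVal g U (mapDer g U ψ D) V s = ψ.app (cut U (g ⁻¹ᵁ V) a) (derVal g U D V s) := rfl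

end Push

end Groth.Agent.DefLift
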