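import Groth.Agent.DefLift.RingTau
import Groth.Agent.DefLift.DerLoc
import Mathlib

/-!
# Natural families of maps between thickenings
-/

set_option autoImplicit false
set_option linter.style.haveILetI false
set_option backward.isDefEq.respectTransparency false
universe u

open CategoryTheory CategoryTheory.Limits AlgebraicGeometry Opposite TopologicalSpace

noncomputable section

namespace Groth.Agent.DefLift

open Groth.Agent.QC

variable {S S₀ X₀ : Scheme.{u}} {ι : S₀ ⟶ S} [IsClosedImmersion ι] (hι : IsSqZero ι) {f₀ : X₀ ⟶ S₀}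
  {O₁ O₂ O₃ : X₀.Opens}

/-- A natural family of maps between two systems of thickenings. -/
structure MapFam (P : Piece ι f₀ O₁) (P' : Piece ι f₀ O₂) (O : X₀.Opens) where
  le : O ≤ O₁
  le' : O ≤ O₂
  φ : ∀ (W : X₀.affineOpens) (hW : W.1 ≤ O), P.A W (hW.trans le) ⟶ P'.A W (hW.trans le')
  isMap : ∀ (W : X₀.affineOpens) (hW : W.1 ≤ O), Piece.IsMap P P' (hW.trans le) (hW.trans le') (φ W hW)
  res_φ : ∀ {W W' : X₀.affineOpens} (hW : W.1 ≤ O) (h : W'.1 ≤ W.1),
    P.res (hW.trans le) h ≫ φ W' (h.trans hW) = φ W hW ≫ P'.res (hW.trans le') h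

variable {P : Piece ι f₀ O₁} {P' : Piece ι f₀ O₂} {P'' : Piece ι f₀ O₃} {O : X₀.Opens}

include hι in
theorem exists_mapFam (hO : IsAffineOpen O) (h₁ : O ≤ O₁) (h₂ : O ≤ O₂) : Nonempty (MapFam P P' O) := by
  obtain ⟨φ₀, hφ₀⟩ := Piece.exists_map hι P P' (W := ⟨O, hO⟩) h₁ h₂
  choose ψ hψ hψr using fun (W : X₀.affineOpens) (hW : W.1 ≤ O) => Piece.exists_map_res hι hφ₀ (W₁ := W) hW
  refine ⟨⟨h₁, h₂, ψ, hψ, fun {W W'} hW h => ?_⟩⟩
  refine CommRingCat.hom_ext (ringHom_lift_unique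
    (formallyUnramified_of_formallyEtale (P.formallyEtale_res (W := ⟨O, hO⟩) h₁ hW))
    (P'.red W' ((h.trans hW).trans h₂)).hom (P'.sqZero hι _) _ _ ?_ ?_)
  · rw [← CommRingCat.hom_comp, ← CommRingCat.hom_comp, reassoc_of% (P.res_trans (W := ⟨O, hO⟩) h₁ hW h), hψr W' (h.trans hW),
      reassoc_of% (hψr W hW), P'.res_trans (W := ⟨O, hO⟩) h₂ hW h]
  · rw [← CommRingCat.hom_comp, ← CommRingCat.hom_comp, Category.assoc, Category.assoc, (hψ W' _).red,
      P.res_red (hW.trans h₁) h, P'.res_red (hW.trans h₂) h, reassoc_of% (hψ W hW).red]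

/-- Restriction of a family of maps. -/
def MapFam.restrict (F : MapFam P P' O) {O' : X₀.Opens} (h : O' ≤ O) : MapFam P P' O' where
  le := h.trans F.le
  le' := h.trans F.le'
  φ W hW := F.φ W (hW.trans h)
  isMap W hW := F.isMap W (hW.trans h)
  res_φ hW h' := F.res_φ (hW.trans h) h'

theorem exists_diff (F G : MapFam P P' O) : ∃ D : LocDer f₀ (coeff ι f₀) O,
    ∀ (W : X₀.affineOpens) (hW : W.1 ≤ O) (a : P.A W (hW.trans F.le)),
      P'.tau (hW.trans F.le') hι (D.app W hW (P.red W _ a)) = F.φ W hW a - G.φ W hW a := by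
  have hred : ∀ W hW a, P'.red W (hW.trans F.le') (F.φ W hW a) = P.red W (hW.trans F.le) a ∧
      P'.red W (hW.trans F.le') (G.φ W hW a) = P.red W (hW.trans F.le) a :=
    fun W hW a => ⟨congr($((F.isMap W hW).red) a), congr($((G.isMap W hW).red) a)⟩
  have hex : ∀ W (hW : W.1 ≤ O) (x : Γ(X₀, W.1)), ∃ d, ∀ a, P.red W (hW.trans F.le) a = x →
      P'.tau (hW.trans F.le') hι d = F.φ W hW a - G.φ W hW a := by
    intro W hW x
    obtain ⟨a, rfl⟩ := P.red_surjective W (hW.trans F.le) x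
    obtain ⟨d, hd⟩ := (P'.red_eq_zero_iff (hW.trans F.le') hι (F.φ W hW a - G.φ W hW a)).1
      (by rw [map_sub, (hred W hW a).1, (hred W hW a).2, sub_self])
    refine ⟨d, fun a' ha' => ?_⟩
    obtain ⟨m, hm⟩ := (P.red_eq_zero_iff (hW.trans F.le) hι (a' - a)).1 (by rw [map_sub, ha', sub_self])
    rw [hd, ← sub_eq_zero]
    have h1 := (F.isMap W hW).tau hι m
    have h2 := (G.isMap W hW).tau hι m
    rw [hm, map_sub] at h1 h2
    linear_combination h2 - h1
  choose D hD using hex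
  have hinj := fun (W : X₀.affineOpens) (hW : W.1 ≤ O) => P'.tau_injective (W := W) (hW.trans F.le') hι
  refine ⟨{ app := fun W hW => AddMonoidHom.mk' (D W hW) fun x y => hinj W hW ?_
            app_mul := fun W hW x y => hinj W hW ?_
            app_base := fun W hW V e c => hinj W hW ?_
            res_app := fun W W' hW h x => hinj W' (h.trans hW) ?_ }, fun W hW a => hD W hW _ a rfl⟩
  · obtain ⟨a, rfl⟩ := P.red_surjective W (hW.trans F.le) x
    obtain ⟨b, rfl⟩ := P.red_surjective W (hW.trans F.le) y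
    rw [map_add, hD W hW _ (a + b) (map_add _ _ _), hD W hW _ a rfl, hD W hW _ b rfl, map_add, map_add]
    abel
  · obtain ⟨a, rfl⟩ := P.red_surjective W (hW.trans F.le) x
    obtain ⟨b, rfl⟩ := P.red_surjective W (hW.trans F.le) y
    change P'.tau _ hι (D W hW _) = P'.tau _ hι (_ • D W hW _ + _ • D W hW _)
    have s1 : ∀ m, P'.tau (hW.trans F.le') hι (P.red W (hW.trans F.le) a • m) = F.φ W hW a * P'.tau _ hι m :=
      fun m => by rw [← (hred W hW a).1, P'.tau_smul]
    have s2 : ∀ m, P'.tau (hW.trans F.le') hι (P.red W (hW.trans F.le) b • m) = G.φ W hW b * P'.tau _ hι m :=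
      fun m => by rw [← (hred W hW b).2, P'.tau_smul]
    rw [hD W hW _ (a * b) (map_mul _ _ _), map_add, s1, s2, hD W hW _ b rfl, hD W hW _ a rfl, map_mul, map_mul]
    ring
  · let Q : S.affineOpens := ⟨up hι V.1, by
      haveI : IsClosedImmersion (ι ∣_ up hι V.1) := IsZariskiLocalAtTarget.restrict (P := @IsClosedImmersion) inferInstance _
      haveI : Surjective ι := ⟨surjective_of_sqZero hι⟩
      haveI : Surjective (ι ∣_ up hι V.1) := IsZariskiLocalAtTarget.restrict (P := @Surjective) inferInstance _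
      haveI : IsAffine (ι ⁻¹ᵁ up hι V.1).toScheme := by rw [preimage_up]; exact V.2
      exact NilAffine.isAffine_of_surjective (ι ∣_ up hι V.1)⟩
    have eQ : W.1 ≤ (f₀ ≫ ι) ⁻¹ᵁ Q.1 := e.trans (f₀.preimage_mono (preimage_up hι V.1).ge)
    obtain ⟨c', hc'⟩ := ι.app_surjective Q.1 Q.2 (resO S₀ (preimage_up hι V.1).le c)
    have hc : c = downVal hι V.1 c' := by rw [downVal_eq, hc', resO_resO, resO_self]
    have hx : P.red W (hW.trans F.le) (P.str W _ Q eQ c') = f₀.appLE V.1 W.1 e c := by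
      rw [hc]
      refine (congr($(P.red_str W (hW.trans F.le) Q eQ) c')).trans ?_
      exact congr($((Scheme.Hom.appLE_comp_appLE f₀ ι Q.1 V.1 W.1 (preimage_up hι V.1).ge e).symm) c')
    change P'.tau _ hι (D W hW _) = P'.tau _ hι 0
    rw [hD W hW _ _ hx, map_zero, sub_eq_zero]
    exact (congr($((F.isMap W hW).str Q eQ) c')).trans (congr($((G.isMap W hW).str Q eQ) c')).symm
  · obtain ⟨a, rfl⟩ := P.red_surjective W (hW.trans F.le) x
    change P'.tau _ hι (res _ h (D W hW _)) = P'.tau _ hι (D W' _ _)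
    have h3 := hD W' (h.trans hW) (resO X₀ h (P.red W (hW.trans F.le) a)) (P.res (hW.trans F.le) h a)
      (congr($(P.res_red (hW.trans F.le) h) a))
    rw [h3, ← P'.res_tau (hW.trans F.le') hι h, hD W hW _ a rfl, map_sub]
    exact congrArg₂ (· - ·) (congr($((F.res_φ hW h).symm) a)) (congr($((G.res_φ hW h).symm) a))

end Groth.Agent.DefLift
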