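import Groth.Agent.DefLift.RingPiece
import Mathlib

/-!
# Maps between thickenings of affine opens
-/

set_option autoImplicit false
set_option linter.style.haveILetI false
set_option backward.isDefEq.respectTransparency false
universe u

open CategoryTheory CategoryTheory.Limits AlgebraicGeometry Opposite TopologicalSpace TensorProduct

noncomputable section

namespace Groth.Agent.DefLift

open Groth.Agent.QC Groth.Agent.ModDesc

variable {S S₀ X₀ : Scheme.{u}}

/-- Lifts along a square-zero surjection exist for formally smooth ring maps. -/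
theorem exists_ringHom_lift {R A B C : Type u} [CommRing R] [CommRing A] [CommRing B] [CommRing C]
    {sA : R →+* A} (hs : sA.FormallySmooth) (sB : R →+* B) (π : B →+* C) (hπ : Function.Surjective π)
    (hsq : ∀ x y, π x = 0 → π y = 0 → x * y = 0) (f : A →+* C) (h : f.comp sA = π.comp sB) :
    ∃ l : A →+* B, π.comp l = f ∧ l.comp sA = sB := by
  algebraize [sA, sB, π.comp sB]
  let f' : A →ₐ[R] C := ⟨f, fun r => RingHom.congr_fun h r⟩
  let g : B →ₐ[R] C := ⟨π, fun r => rfl⟩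
  have hn : IsNilpotent (RingHom.ker (g : B →+* C)) := ⟨2, by
    change RingHom.ker (g : B →+* C) ^ 2 = ⊥
    rw [pow_two, eq_bot_iff, Ideal.mul_le]
    exact fun x hx y hy => Ideal.mem_bot.2 (hsq x y hx hy)⟩
  refine ⟨(Algebra.FormallySmooth.liftOfSurjective f' g hπ hn).toRingHom, ?_, ?_⟩
  · ext a
    exact Algebra.FormallySmooth.liftOfSurjective_apply f' g hπ hn a
  · ext r
    exact (Algebra.FormallySmooth.liftOfSurjective f' g hπ hn).commutes r

/-- Lifts along a square-zero surjection are unique for formally unramified ring maps. -/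
theorem ringHom_lift_unique {R A B C : Type u} [CommRing R] [CommRing A] [CommRing B] [CommRing C]
    {r : R →+* A} (hr : r.FormallyUnramified) (π : B →+* C) (hsq : ∀ x y, π x = 0 → π y = 0 → x * y = 0)
    (l l' : A →+* B) (h : l.comp r = l'.comp r) (h' : π.comp l = π.comp l') : l = l' := by
  algebraize [r, l.comp r]
  let a : A →ₐ[R] B := ⟨l, fun x => rfl⟩
  let a' : A →ₐ[R] B := ⟨l', fun x => (RingHom.congr_fun h x).symm⟩
  have hI : RingHom.ker π ^ 2 = ⊥ := by
    rw [pow_two, eq_bot_iff, Ideal.mul_le]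
    exact fun x hx y hy => Ideal.mem_bot.2 (hsq x y hx hy)
  have : a = a' := Algebra.FormallyUnramified.comp_injective (RingHom.ker π) hI (AlgHom.ext fun x => by
    refine Ideal.Quotient.eq.2 ?_
    rw [RingHom.mem_ker, map_sub]
    exact sub_eq_zero.2 (RingHom.congr_fun h' x))
  exact congrArg AlgHom.toRingHom this

theorem formallyUnramified_of_formallyEtale {R A : Type u} [CommRing R] [CommRing A] {r : R →+* A}
    (hr : r.FormallyEtale) : r.FormallyUnramified := by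
  algebraize [r]
  exact inferInstanceAs (Algebra.FormallyUnramified R A)

theorem formallySmooth_of_formallyEtale {R A : Type u} [CommRing R] [CommRing A] {r : R →+* A}
    (hr : r.FormallyEtale) : r.FormallySmooth := by
  algebraize [r]
  exact inferInstanceAs (Algebra.FormallySmooth R A)

variable {ι : S₀ ⟶ S} [IsClosedImmersion ι] (hι : IsSqZero ι) {f₀ : X₀ ⟶ S₀}

/-- The coefficient module. -/
abbrev coeff (ι : S₀ ⟶ S) (f₀ : X₀ ⟶ S₀) : X₀.Modules :=
  (Scheme.Modules.pullback f₀).obj (Omega.conormal ι)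

/-- The class of a section of the ideal of the base. -/
def cls (W : X₀.affineOpens) (Q : S.affineOpens) (e : W.1 ≤ (f₀ ≫ ι) ⁻¹ᵁ Q.1) :
    Γ(ClSub.idealMod ι.ker, Q.1) →+ Γ(coeff ι f₀, W.1) :=
  (pullSectLE f₀ (Omega.conormal ι) (ι ⁻¹ᵁ Q.1) W.1 e).comp (OmegaSh.conormalSect ι Q.1).hom

namespace Piece

variable {O O' : X₀.Opens} (P : Piece ι f₀ O) (P' : Piece ι f₀ O')
  {W : X₀.affineOpens} (hW : W.1 ≤ O) (hW' : W.1 ≤ O')

include hι in
theorem sqZero (x y : P.A W hW) (hx : P.red W hW x = 0) (hy : P.red W hW y = 0) : x * y = 0 := by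
  have e : W.1 ≤ (f₀ ≫ ι) ⁻¹ᵁ P.base.1 := hW.trans P.base_le
  have h1 : x * y ∈ RingHom.ker (P.red W hW).hom * RingHom.ker (P.red W hW).hom := Ideal.mul_mem_mul hx hy
  rw [P.ker_red W hW P.base e, ← Ideal.map_mul] at h1
  have h0 : RingHom.ker (ι.app P.base.1).hom * RingHom.ker (ι.app P.base.1).hom = ⊥ := by
    rw [eq_bot_iff, Ideal.mul_le]
    exact fun r hr s hs => Ideal.mem_bot.2 (hι P.base r s hr hs)
  rwa [h0, Ideal.map_bot, Ideal.mem_bot] at h1

/-- A map of thickenings of the same affine open. -/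
structure IsMap (φ : P.A W hW ⟶ P'.A W hW') : Prop where
  red : φ ≫ P'.red W hW' = P.red W hW
  toS : Spec.map φ ≫ P.toS W hW = P'.toS W hW'

variable {P P' hW hW'}

omit [IsClosedImmersion ι] in
theorem IsMap.str {φ : P.A W hW ⟶ P'.A W hW'} (h : IsMap P P' hW hW' φ) (Q : S.affineOpens)
    (e : W.1 ≤ (f₀ ≫ ι) ⁻¹ᵁ Q.1) : P.str W hW Q e ≫ φ = P'.str W hW' Q e := by
  refine Spec.map_injective ?_
  rw [← cancel_mono Q.2.fromSpec, Spec.map_comp, Category.assoc, ← P.toS_eq, h.toS, ← P'.toS_eq]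

omit [IsClosedImmersion ι] in
theorem IsMap.of_str {φ : P.A W hW ⟶ P'.A W hW'} (hred : φ ≫ P'.red W hW' = P.red W hW) (Q : S.affineOpens)
    (e : W.1 ≤ (f₀ ≫ ι) ⁻¹ᵁ Q.1) (h : P.str W hW Q e ≫ φ = P'.str W hW' Q e) : IsMap P P' hW hW' φ :=
  ⟨hred, by rw [P.toS_eq W hW Q e, ← Category.assoc, ← Spec.map_comp, h, ← P'.toS_eq]⟩

omit [IsClosedImmersion ι] in
theorem isMap_id : IsMap P P hW hW (𝟙 _) := ⟨Category.id_comp _, by rw [Spec.map_id, Category.id_comp]⟩

omit [IsClosedImmersion ι] in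
theorem IsMap.comp {O'' : X₀.Opens} {P'' : Piece ι f₀ O''} {hW'' : W.1 ≤ O''} {φ : P.A W hW ⟶ P'.A W hW'}
    {ψ : P'.A W hW' ⟶ P''.A W hW''} (h : IsMap P P' hW hW' φ) (h' : IsMap P' P'' hW' hW'' ψ) :
    IsMap P P'' hW hW'' (φ ≫ ψ) :=
  ⟨by rw [Category.assoc, h'.red, h.red], by rw [Spec.map_comp, Category.assoc, h.toS, h'.toS]⟩

variable (P P' hW hW')

include hι in
theorem exists_map : ∃ φ, IsMap P P' hW hW' φ := by
  have e : W.1 ≤ (f₀ ≫ ι) ⁻¹ᵁ P.base.1 := hW.trans P.base_le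
  obtain ⟨l, hl, hl'⟩ := exists_ringHom_lift (P.smooth_str W hW P.base e).formallySmooth
    (P'.str W hW' P.base e).hom (P'.red W hW').hom (P'.red_surjective W hW') (P'.sqZero hι hW')
    (P.red W hW).hom (by rw [← CommRingCat.hom_comp, ← CommRingCat.hom_comp, P.red_str, P'.red_str])
  exact ⟨CommRingCat.ofHom l, .of_str (CommRingCat.hom_ext hl) P.base e (CommRingCat.hom_ext hl')⟩

variable {P P' hW hW'}

include hι in
theorem map_ext {W₁ : X₀.affineOpens} {hW₁ : W₁.1 ≤ O} {hW₁' : W₁.1 ≤ O'} (h : W₁.1 ≤ W.1)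
    (ψ ψ' : P.A W₁ hW₁ ⟶ P'.A W₁ hW₁') (e₁ : P.res hW h ≫ ψ = P.res hW h ≫ ψ')
    (e₂ : ψ ≫ P'.red W₁ hW₁' = ψ' ≫ P'.red W₁ hW₁') : ψ = ψ' :=
  CommRingCat.hom_ext (ringHom_lift_unique (formallyUnramified_of_formallyEtale (P.formallyEtale_res hW h))
    (P'.red W₁ hW₁').hom (P'.sqZero hι hW₁') _ _ (congrArg CommRingCat.Hom.hom e₁) (congrArg CommRingCat.Hom.hom e₂))

include hι in
theorem exists_map_res {φ : P.A W hW ⟶ P'.A W hW'} (hφ : IsMap P P' hW hW' φ) {W₁ : X₀.affineOpens}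
    (h : W₁.1 ≤ W.1) :
    ∃ ψ, IsMap P P' (h.trans hW) (h.trans hW') ψ ∧ P.res hW h ≫ ψ = φ ≫ P'.res hW' h := by
  obtain ⟨l, hl, hl'⟩ := exists_ringHom_lift (formallySmooth_of_formallyEtale (P.formallyEtale_res hW h))
    (φ ≫ P'.res hW' h).hom (P'.red W₁ (h.trans hW')).hom (P'.red_surjective _ _) (P'.sqZero hι _)
    (P.red W₁ (h.trans hW)).hom (by
      rw [← CommRingCat.hom_comp, ← CommRingCat.hom_comp, P.res_red hW h, Category.assoc, P'.res_red hW' h,
        ← Category.assoc, hφ.red])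
  have hr : P.res hW h ≫ CommRingCat.ofHom l = φ ≫ P'.res hW' h := CommRingCat.hom_ext hl'
  refine ⟨CommRingCat.ofHom l, ⟨CommRingCat.hom_ext hl, ?_⟩, hr⟩
  rw [← P.toS_res hW h, ← Category.assoc, ← Spec.map_comp, hr, Spec.map_comp, Category.assoc, hφ.toS, P'.toS_res]

/-! ### The kernel of the reduction -/

variable (P hW)

/-- The identification of the coefficients with the kernel of the reduction, for one chart of the base. -/
structure IsTau (Q : S.affineOpens) (e : W.1 ≤ (f₀ ≫ ι) ⁻¹ᵁ Q.1) (τ : Γ(coeff ι f₀, W.1) →+ P.A W hW) : Prop where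
  smul : ∀ (a : P.A W hW) (m), τ (P.red W hW a • m) = a * τ m
  cls_eq : ∀ s, τ (cls W Q e s) = P.str W hW Q e (OmegaSh.idealSect ι.ker Q.1 s)

omit [IsClosedImmersion ι] in
theorem IsTau.unique_aux (Q : S.affineOpens) (e : W.1 ≤ (f₀ ≫ ι) ⁻¹ᵁ Q.1) [IsClosedImmersion ι]
    {M : Type u} [AddCommGroup M] (F G : Γ(coeff ι f₀, W.1) →+ M)
    (h : ∀ (a : Γ(X₀, W.1)) s, F (a • cls W Q e s) = G (a • cls W Q e s)) : F = G := by
  letI : Algebra Γ(S₀, ι ⁻¹ᵁ Q.1) Γ(X₀, W.1) := (f₀.appLE (ι ⁻¹ᵁ Q.1) W.1 e).hom.toAlgebra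
  haveI : Coh.IsQCoh (Omega.conormal ι) := Conormal.isQCoh_conormal ι
  obtain ⟨Φ, hΦ⟩ := exists_bijective_liftBaseChange f₀ (Omega.conormal ι) (Q.2.preimage ι) W.2 e
  ext m
  obtain ⟨z, rfl⟩ := Φ.surjective m
  induction z with
  | zero => rw [map_zero, map_zero, map_zero]
  | add x y hx hy => rw [map_add, map_add, map_add, hx, hy]
  | tmul a c =>
    have hsurj : Function.Surjective (OmegaSh.conormalSect ι Q.1) :=
      Conormal.conormalSect_surjective ι ⟨Q.2, inferInstance⟩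
    obtain ⟨s, rfl⟩ := hsurj c
    have : a ⊗ₜ[Γ(S₀, ι ⁻¹ᵁ Q.1)] OmegaSh.conormalSect ι Q.1 s = a • ((1 : Γ(X₀, W.1)) ⊗ₜ OmegaSh.conormalSect ι Q.1 s) := by
      rw [TensorProduct.smul_tmul', smul_eq_mul, mul_one]
    rw [this, map_smul, hΦ]
    exact h a s

variable {P hW}

theorem IsTau.unique {Q : S.affineOpens} {e : W.1 ≤ (f₀ ≫ ι) ⁻¹ᵁ Q.1} {τ τ' : Γ(coeff ι f₀, W.1) →+ P.A W hW}
    (h : IsTau P hW Q e τ) (h' : IsTau P hW Q e τ') : τ = τ' :=
  IsTau.unique_aux Q e τ τ' fun a s => by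
    obtain ⟨b, rfl⟩ := P.red_surjective W hW a
    rw [h.smul, h'.smul, h.cls_eq, h'.cls_eq]

include hι in
theorem exists_tau (Q : S.affineOpens) (e : W.1 ≤ (f₀ ≫ ι) ⁻¹ᵁ Q.1) :
    ∃ τ, IsTau P hW Q e τ ∧ Function.Injective τ ∧ ∀ x, P.red W hW x = 0 ↔ x ∈ Set.range τ := by
  letI alg₀ : Algebra Γ(S₀, ι ⁻¹ᵁ Q.1) Γ(X₀, W.1) := (f₀.appLE (ι ⁻¹ᵁ Q.1) W.1 e).hom.toAlgebra
  haveI : Coh.IsQCoh (Omega.conormal ι) := Conormal.isQCoh_conormal ι
  obtain ⟨Φ, hΦ⟩ := exists_bijective_liftBaseChange f₀ (Omega.conormal ι) (Q.2.preimage ι) W.2 e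
  letI algB : Algebra Γ(S, Q.1) (P.A W hW) := (P.str W hW Q e).hom.toAlgebra
  haveI : Module.Flat Γ(S, Q.1) (P.A W hW) := (P.smooth_str W hW Q e).flat
  have hred : ∀ r, P.red W hW (P.str W hW Q e r) = f₀.appLE (ι ⁻¹ᵁ Q.1) W.1 e (ι.app Q.1 r) := fun r => by
    refine (congr($(P.red_str W hW Q e) r)).trans ?_
    rw [Scheme.Hom.app_eq_appLE]
    exact congr($((Scheme.Hom.appLE_comp_appLE f₀ ι Q.1 (ι ⁻¹ᵁ Q.1) W.1 le_rfl e).symm) r)
  -- the scalars act on the kernel through the reduction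
  let K : Submodule (P.A W hW) (P.A W hW) := RingHom.ker (P.red W hW).hom
  let σ := Function.surjInv (P.red_surjective W hW)
  have hσ : ∀ (a : P.A W hW) (x : K), σ (P.red W hW a) • x = a • x := fun a x => Subtype.ext (by
    change σ _ * x.1 = a * x.1
    rw [← sub_eq_zero, ← sub_mul]
    exact P.sqZero hι hW _ _ (by rw [map_sub, Function.surjInv_eq (P.red_surjective W hW), sub_self]) x.2)
  letI smK : SMul Γ(X₀, W.1) K := ⟨fun a x => σ a • x⟩
  letI modK : Module Γ(X₀, W.1) K := Function.Surjective.moduleLeft (P.red W hW).hom (P.red_surjective W hW) hσ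
  letI modK' : Module Γ(S₀, ι ⁻¹ᵁ Q.1) K := Module.compHom K (algebraMap Γ(S₀, ι ⁻¹ᵁ Q.1) Γ(X₀, W.1))
  haveI : IsScalarTower Γ(S₀, ι ⁻¹ᵁ Q.1) Γ(X₀, W.1) K := IsScalarTower.of_algebraMap_smul fun _ _ => rfl
  have hkill : ∀ s, P.red W hW (P.str W hW Q e (OmegaSh.idealSect ι.ker Q.1 s)) = 0 := fun s => by
    rw [hred, Conormal.app_idealSect, map_zero]
  let E := AddEquiv.ofBijective (OmegaSh.conormalSect ι Q.1).hom (conormalSect_bijective hι Q.1)
  let ev : Γ(ClSub.idealMod ι.ker, Q.1) → K := fun s =>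
    ⟨P.str W hW Q e (OmegaSh.idealSect ι.ker Q.1 s), hkill s⟩
  have hev : ∀ (r : Γ(S, Q.1)) s, ev (r • s) = ι.app Q.1 r • ev s := fun r s => by
    refine Subtype.ext ?_
    change P.str W hW Q e _ = σ (algebraMap Γ(S₀, ι ⁻¹ᵁ Q.1) Γ(X₀, W.1) (ι.app Q.1 r)) * _
    rw [Conormal.idealSect_smul, map_mul]
    have h1 : algebraMap Γ(S₀, ι ⁻¹ᵁ Q.1) Γ(X₀, W.1) (ι.app Q.1 r) = P.red W hW (P.str W hW Q e r) := (hred r).symm
    rw [h1]
    exact (congrArg Subtype.val (hσ (P.str W hW Q e r) ⟨_, hkill s⟩)).symm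
  let σ0 : Γ(Omega.conormal ι, ι ⁻¹ᵁ Q.1) →ₗ[Γ(S₀, ι ⁻¹ᵁ Q.1)] K :=
    { toFun := fun c => ev (E.symm c)
      map_add' := fun a b => Subtype.ext (by
        change P.str W hW Q e _ = P.str W hW Q e _ + P.str W hW Q e _
        rw [map_add E.symm, map_add, map_add])
      map_smul' := fun r c => by
        obtain ⟨r, rfl⟩ := ι.app_surjective Q.1 Q.2 r
        obtain ⟨s, rfl⟩ := E.surjective c
        have : E.symm (ι.app Q.1 r • E s) = r • s := E.symm_apply_eq.2 (Conormal.conormalSect_smul ι Q.1 r s).symm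
        rw [this, E.symm_apply_apply, hev]
        rfl }
  let L := LinearMap.liftBaseChange Γ(X₀, W.1) σ0
  let τ : Γ(coeff ι f₀, W.1) →+ P.A W hW :=
    K.subtype.toAddMonoidHom.comp (L.toAddMonoidHom.comp Φ.symm.toLinearMap.toAddMonoidHom)
  have hτ : IsTau P hW Q e τ := by
    refine ⟨fun a m => ?_, fun s => ?_⟩
    · change ((L (Φ.symm (P.red W hW a • m)) : K) : P.A W hW) = a * (L (Φ.symm m) : K)
      rw [map_smul, map_smul]
      exact congrArg Subtype.val (hσ a _)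
    · change ((L (Φ.symm (cls W Q e s)) : K) : P.A W hW) = _
      have : Φ.symm (cls W Q e s) = 1 ⊗ₜ OmegaSh.conormalSect ι Q.1 s := by
        rw [LinearEquiv.symm_apply_eq, hΦ]; rfl
      rw [this, LinearMap.liftBaseChange_one_tmul]
      exact congrArg (fun t => P.str W hW Q e (OmegaSh.idealSect ι.ker Q.1 t)) (E.symm_apply_apply s)
  have hτker : ∀ m, P.red W hW (τ m) = 0 := fun m => (L (Φ.symm m)).2
  -- the inclusion of the ideal tensored with the thickening
  let inc : Γ(ClSub.idealMod ι.ker, Q.1) →ₗ[Γ(S, Q.1)] P.A W hW :=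
    { toFun := fun s => P.str W hW Q e (OmegaSh.idealSect ι.ker Q.1 s)
      map_add' := fun a b => by rw [map_add, map_add]
      map_smul' := fun r s => by rw [Conormal.idealSect_smul, map_mul]; rfl }
  let μ := LinearMap.liftBaseChange (P.A W hW) inc
  have hμ : Function.Injective μ := by
    let i' : Γ(ClSub.idealMod ι.ker, Q.1) →ₗ[Γ(S, Q.1)] Γ(S, Q.1) :=
      { toFun := OmegaSh.idealSect ι.ker Q.1
        map_add' := map_add _
        map_smul' := fun b s => Conormal.idealSect_smul ι.ker Q.1 b s }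
    have hi := Module.Flat.lTensor_preserves_injective_linearMap (M := (P.A W hW : Type u)) i'
      (Conormal.idealSect_injective ι.ker Q.1)
    have he : ∀ x, μ x = TensorProduct.rid Γ(S, Q.1) (P.A W hW) (i'.lTensor (P.A W hW) x) := by
      intro x
      induction x with
      | zero => simp
      | add a b ha hb => simp [map_add, ha, hb]
      | tmul a s =>
        change a • P.str W hW Q e (OmegaSh.idealSect ι.ker Q.1 s) = OmegaSh.idealSect ι.ker Q.1 s • a
        rw [Algebra.smul_def (OmegaSh.idealSect ι.ker Q.1 s) a, smul_eq_mul, mul_comm]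
        rfl
    intro x y hxy
    rw [he, he] at hxy
    exact hi ((TensorProduct.rid _ _).injective hxy)
  let clsMul : P.A W hW → (Γ(ClSub.idealMod ι.ker, Q.1) →+ Γ(coeff ι f₀, W.1)) := fun b =>
    AddMonoidHom.mk' (fun s => P.red W hW b • cls W Q e s) fun s t => by rw [map_add, smul_add]
  let π₀ : P.A W hW ⊗[Γ(S, Q.1)] Γ(ClSub.idealMod ι.ker, Q.1) →+ Γ(coeff ι f₀, W.1) :=
    TensorProduct.liftAddHom
      (AddMonoidHom.mk' clsMul (fun a b => by
        ext s
        change P.red W hW (a + b) • cls W Q e s = _ + _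
        rw [map_add, add_smul]
        rfl))
      fun r b s => by
        change P.red W hW (r • b) • cls W Q e s = P.red W hW b • cls W Q e (r • s)
        have h1 : cls W Q e (r • s) = f₀.appLE (ι ⁻¹ᵁ Q.1) W.1 e (ι.app Q.1 r) • cls W Q e s := by
          change pullSectLE f₀ _ _ _ e (OmegaSh.conormalSect ι Q.1 (r • s)) = _
          rw [Conormal.conormalSect_smul, pullSectLE_smul]
          rfl
        rw [h1, Algebra.smul_def, map_mul, mul_comm, mul_smul, ← hred r]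
        rfl
  have hcomp : ∀ y, τ (π₀ y) = μ y := fun y => by
    induction y with
    | zero => rw [map_zero, map_zero, map_zero]
    | add a b ha hb => rw [map_add, map_add, map_add, ha, hb]
    | tmul b s =>
      change τ (P.red W hW b • cls W Q e s) = b • inc s
      rw [hτ.smul, hτ.cls_eq]
      rfl
  have hπ₀ : Function.Surjective π₀ := fun m => by
    obtain ⟨z, rfl⟩ := Φ.surjective m
    induction z with
    | zero => exact ⟨0, by rw [map_zero, map_zero]⟩
    | add x y hx hy =>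
      obtain ⟨a, ha⟩ := hx
      obtain ⟨b, hb⟩ := hy
      exact ⟨a + b, by rw [map_add, ha, hb, map_add]⟩
    | tmul a c =>
      obtain ⟨a, rfl⟩ := P.red_surjective W hW a
      obtain ⟨s, rfl⟩ := E.surjective c
      refine ⟨a ⊗ₜ s, ?_⟩
      change P.red W hW a • cls W Q e s = _
      have : (P.red W hW a) ⊗ₜ[Γ(S₀, ι ⁻¹ᵁ Q.1)] E s = P.red W hW a • ((1 : Γ(X₀, W.1)) ⊗ₜ E s) := by
        rw [TensorProduct.smul_tmul', smul_eq_mul, mul_one]
      rw [this, map_smul, hΦ]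
      rfl
  refine ⟨τ, hτ, (injective_iff_map_eq_zero τ).2 fun m hm => ?_, fun x => ⟨fun hx => ?_, ?_⟩⟩
  · obtain ⟨y, rfl⟩ := hπ₀ m
    rw [hcomp] at hm
    rw [show y = 0 from hμ (hm.trans (map_zero μ).symm), map_zero]
  · have hmem : x ∈ RingHom.ker (P.red W hW).hom := hx
    rw [P.ker_red W hW Q e] at hmem
    have : ∃ y, μ y = x := by
      refine (Submodule.span_le.mpr ?_ hmem : x ∈ LinearMap.range μ)
      rintro _ ⟨r, hr, rfl⟩
      obtain ⟨s, rfl⟩ := Conormal.exists_idealSect ι Q.1 r hr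
      exact ⟨1 ⊗ₜ s, LinearMap.liftBaseChange_one_tmul _ _ _⟩
    obtain ⟨y, rfl⟩ := this
    exact ⟨π₀ y, hcomp y⟩
  · rintro ⟨m, rfl⟩
    exact hτker m

end Piece

end Groth.Agent.DefLift
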