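import Groth.Agent.DefLift.SystemGlue
import Groth.Agent.DefLift.KerVal
import Groth.Agent.Conormal.BaseChange
import Groth.Agent.ModDesc.BaseChange
import Groth.Agent.KoszulLib.SchKer
import Mathlib

/-!
# Thickenings of the small affine opens inside an open
-/

set_option autoImplicit false
set_option linter.style.haveILetI false
set_option backward.isDefEq.respectTransparency false
universe u

open CategoryTheory CategoryTheory.Limits AlgebraicGeometry Opposite TopologicalSpace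

noncomputable section

namespace Groth.Agent.DefLift

open Groth.Agent.QC Groth.Agent.ModDesc

variable {S S₀ X₀ : Scheme.{u}}

/-- Compatible smooth thickenings of the affine opens inside `O`, an open over an affine open of the base. -/
structure Piece (ι : S₀ ⟶ S) (f₀ : X₀ ⟶ S₀) (O : X₀.Opens) where
  base : S.affineOpens
  base_le : O ≤ (f₀ ≫ ι) ⁻¹ᵁ base.1
  A : ∀ W : X₀.affineOpens, W.1 ≤ O → CommRingCat.{u}
  res : ∀ {W W' : X₀.affineOpens} (hW : W.1 ≤ O) (h : W'.1 ≤ W.1), A W hW ⟶ A W' (h.trans hW)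
  res_self : ∀ (W : X₀.affineOpens) (hW : W.1 ≤ O), res hW (le_refl W.1) = 𝟙 _
  res_trans : ∀ {W W' W'' : X₀.affineOpens} (hW : W.1 ≤ O) (h : W'.1 ≤ W.1) (h' : W''.1 ≤ W'.1),
    res hW h ≫ res (h.trans hW) h' = res hW (h'.trans h)
  red : ∀ (W : X₀.affineOpens) (hW : W.1 ≤ O), A W hW ⟶ Γ(X₀, W.1)
  red_surjective : ∀ W hW, Function.Surjective (red W hW)
  red_nil : ∀ W hW x, red W hW x = 0 → IsNilpotent x
  res_red : ∀ {W W' : X₀.affineOpens} (hW : W.1 ≤ O) (h : W'.1 ≤ W.1),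
    res hW h ≫ red W' (h.trans hW) = red W hW ≫ X₀.presheaf.map (homOfLE h).op
  isOpenImmersion : ∀ {W W' : X₀.affineOpens} (hW : W.1 ≤ O) (h : W'.1 ≤ W.1), IsOpenImmersion (Spec.map (res hW h))
  toS : ∀ (W : X₀.affineOpens) (hW : W.1 ≤ O), Spec (A W hW) ⟶ S
  toS_res : ∀ {W W' : X₀.affineOpens} (hW : W.1 ≤ O) (h : W'.1 ≤ W.1),
    Spec.map (res hW h) ≫ toS W hW = toS W' (h.trans hW)
  smooth : ∀ W hW, Smooth (toS W hW)
  cart : ∀ W hW, IsPullback (W.2.isoSpec.hom ≫ Spec.map (red W hW)) (W.1.ι ≫ f₀) (toS W hW) ι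

namespace Piece

variable {ι : S₀ ⟶ S} {f₀ : X₀ ⟶ S₀} {O : X₀.Opens} (P : Piece ι f₀ O)

theorem red_toS (W : X₀.affineOpens) (hW : W.1 ≤ O) :
    Spec.map (P.red W hW) ≫ P.toS W hW = W.2.fromSpec ≫ f₀ ≫ ι := by
  rw [← cancel_epi W.2.isoSpec.hom, ← Category.assoc, (P.cart W hW).w, IsAffineOpen.isoSpec_hom,
    IsAffineOpen.toSpecΓ_fromSpec_assoc, Category.assoc]

theorem specMap_red_surjective (W : X₀.affineOpens) (hW : W.1 ≤ O) :
    Function.Surjective (Spec.map (P.red W hW)) := fun p => by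
  have hp : p ∈ Set.range (PrimeSpectrum.comap (P.red W hW).hom) := by
    rw [range_comap_of_surjective _ _ (P.red_surjective W hW), PrimeSpectrum.mem_zeroLocus]
    intro x hx
    obtain ⟨n, hn⟩ := P.red_nil W hW x hx
    exact p.isPrime.mem_of_pow_mem n (hn ▸ p.asIdeal.zero_mem)
  exact hp

theorem top_le (W : X₀.affineOpens) (hW : W.1 ≤ O) {Q : S.Opens} (e : W.1 ≤ (f₀ ≫ ι) ⁻¹ᵁ Q) :
    ⊤ ≤ P.toS W hW ⁻¹ᵁ Q := fun p _ => by
  obtain ⟨z, rfl⟩ := P.specMap_red_surjective W hW p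
  change P.toS W hW (Spec.map (P.red W hW) z) ∈ Q
  rw [← Scheme.Hom.comp_apply, P.red_toS, Scheme.Hom.comp_apply]
  refine e ?_
  have : W.2.fromSpec z ∈ Set.range W.2.fromSpec := Set.mem_range_self z
  rwa [W.2.range_fromSpec] at this

/-- The scalars of the base. -/
def str (W : X₀.affineOpens) (hW : W.1 ≤ O) (Q : S.affineOpens) (e : W.1 ≤ (f₀ ≫ ι) ⁻¹ᵁ Q.1) :
    Γ(S, Q.1) ⟶ P.A W hW :=
  (P.toS W hW).appLE Q.1 ⊤ (P.top_le W hW e) ≫ (Scheme.ΓSpecIso _).hom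

theorem toS_eq (W : X₀.affineOpens) (hW : W.1 ≤ O) (Q : S.affineOpens) (e : W.1 ≤ (f₀ ≫ ι) ⁻¹ᵁ Q.1) :
    P.toS W hW = Spec.map (P.str W hW Q e) ≫ Q.2.fromSpec := by
  rw [str, Spec.map_comp, Category.assoc,
    IsAffineOpen.SpecMap_appLE_fromSpec (P.toS W hW) Q.2 (isAffineOpen_top _) (P.top_le W hW e),
    IsAffineOpen.fromSpec_top, ← Category.assoc]
  simp [Scheme.isoSpec_Spec]

theorem red_str (W : X₀.affineOpens) (hW : W.1 ≤ O) (Q : S.affineOpens) (e : W.1 ≤ (f₀ ≫ ι) ⁻¹ᵁ Q.1) :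
    P.str W hW Q e ≫ P.red W hW = (f₀ ≫ ι).appLE Q.1 W.1 e := by
  refine Spec.map_injective ?_
  rw [← cancel_mono Q.2.fromSpec, Spec.map_comp, Category.assoc, ← P.toS_eq, P.red_toS,
    IsAffineOpen.SpecMap_appLE_fromSpec (f₀ ≫ ι) Q.2 W.2 e]

theorem str_res {W W' : X₀.affineOpens} (hW : W.1 ≤ O) (h : W'.1 ≤ W.1) (Q : S.affineOpens)
    (e : W.1 ≤ (f₀ ≫ ι) ⁻¹ᵁ Q.1) :
    P.str W hW Q e ≫ P.res hW h = P.str W' (h.trans hW) Q (h.trans e) := by
  refine Spec.map_injective ?_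
  rw [← cancel_mono Q.2.fromSpec, Spec.map_comp, Category.assoc, ← P.toS_eq, P.toS_res, ← P.toS_eq]

theorem str_map {W : X₀.affineOpens} (hW : W.1 ≤ O) {Q Q' : S.affineOpens} (hQ : Q'.1 ≤ Q.1)
    (e' : W.1 ≤ (f₀ ≫ ι) ⁻¹ᵁ Q'.1) :
    S.presheaf.map (homOfLE hQ).op ≫ P.str W hW Q' e' = P.str W hW Q (e'.trans ((f₀ ≫ ι).preimage_mono hQ)) := by
  rw [str, str, Scheme.Hom.map_appLE_assoc]

theorem ker_red [IsClosedImmersion ι] (W : X₀.affineOpens) (hW : W.1 ≤ O) (Q : S.affineOpens)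
    (e : W.1 ≤ (f₀ ≫ ι) ⁻¹ᵁ Q.1) :
    RingHom.ker (P.red W hW).hom = (RingHom.ker (ι.app Q.1).hom).map (P.str W hW Q e).hom := by
  have h := (KoszulLib.ker_app_of_isPullback (P.cart W hW).flip Q inferInstance
    ⟨⊤, isAffineOpen_top (Spec (P.A W hW))⟩ (P.top_le W hW e)).2
  let k := W.2.isoSpec.hom ≫ Spec.map (P.red W hW)
  have hk : k.app ⊤ = (Scheme.ΓSpecIso _).hom ≫ P.red W hW ≫ ((Scheme.ΓSpecIso _).inv ≫ W.2.isoSpec.hom.app ⊤) := by
    rw [Scheme.Hom.comp_app, ← Scheme.ΓSpecIso_naturality_assoc]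
    simp
  have hb : Function.Bijective ((Scheme.ΓSpecIso Γ(X₀, W.1)).inv ≫ W.2.isoSpec.hom.app ⊤).hom :=
    ConcreteCategory.bijective_of_isIso _
  change RingHom.ker (k.app ⊤).hom = _ at h
  rw [str, CommRingCat.hom_comp, ← Ideal.map_map, ← h, hk]
  ext x
  simp only [RingHom.mem_ker, Ideal.mem_map_iff_of_surjective _ (ConcreteCategory.bijective_of_isIso
    (Scheme.ΓSpecIso (P.A W hW)).hom).2, CommRingCat.comp_apply]
  refine ⟨fun hx => ⟨(Scheme.ΓSpecIso _).inv x, by simp [hx]; exact map_zero _, by simp⟩, ?_⟩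
  rintro ⟨y, hy, rfl⟩
  exact hb.1 (hy.trans (map_zero _).symm)

theorem smooth_str (W : X₀.affineOpens) (hW : W.1 ≤ O) (Q : S.affineOpens) (e : W.1 ≤ (f₀ ≫ ι) ⁻¹ᵁ Q.1) :
    (P.str W hW Q e).hom.Smooth := by
  have := HasRingHomProperty.appLE (P := @Smooth) (P.toS W hW) (P.smooth W hW) Q ⟨⊤, isAffineOpen_top _⟩
    (P.top_le W hW e)
  exact RingHom.Smooth.respectsIso.1 _ (Scheme.ΓSpecIso _).commRingCatIsoToRingEquiv this

theorem formallyEtale_res {W W' : X₀.affineOpens} (hW : W.1 ≤ O) (h : W'.1 ≤ W.1) :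
    (P.res hW h).hom.FormallyEtale := by
  haveI := P.isOpenImmersion hW h
  have he : (P.res hW h).hom.Etale := (HasRingHomProperty.Spec_iff (P := @Etale)).1 inferInstance
  exact he.formallyEtale

end Piece

end Groth.Agent.DefLift
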