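import Groth.Agent.DefLift.RingMaps
import Groth.Agent.DefLift.Extend2
import Mathlib

/-!
# The kernel of the reduction and differences of maps
-/

set_option autoImplicit false
set_option linter.style.haveILetI false
set_option backward.isDefEq.respectTransparency false
universe u

open CategoryTheory CategoryTheory.Limits AlgebraicGeometry Opposite TopologicalSpace

noncomputable section

namespace Groth.Agent.DefLift

open Groth.Agent.QC Groth.Agent.ModDesc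

variable {S S₀ X₀ : Scheme.{u}} {ι : S₀ ⟶ S} [IsClosedImmersion ι] {f₀ : X₀ ⟶ S₀}

omit [IsClosedImmersion ι] in
theorem res_cls {W W' : X₀.affineOpens} (h : W'.1 ≤ W.1) (Q : S.affineOpens) (e : W.1 ≤ (f₀ ≫ ι) ⁻¹ᵁ Q.1)
    (s : Γ(ClSub.idealMod ι.ker, Q.1)) :
    res (coeff ι f₀) h (cls W Q e s) = cls W' Q (h.trans e) s := by
  simp only [cls, AddMonoidHom.comp_apply, pullSectLE_apply]
  exact res_res _ _ _ _

omit [IsClosedImmersion ι] in
theorem cls_map {W : X₀.affineOpens} {Q Q' : S.affineOpens} (hQ : Q'.1 ≤ Q.1) (e : W.1 ≤ (f₀ ≫ ι) ⁻¹ᵁ Q'.1)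
    (s : Γ(ClSub.idealMod ι.ker, Q.1)) :
    cls W Q (e.trans ((f₀ ≫ ι).preimage_mono hQ)) s = cls W Q' e (res (ClSub.idealMod ι.ker) hQ s) := by
  have h1 := res_pullSectLE f₀ (Omega.conormal ι) (ι.preimage_mono hQ) (le_refl W.1)
    (e.trans ((f₀ ≫ ι).preimage_mono hQ)) e (OmegaSh.conormalSect ι Q.1 s)
  rw [res_self, Conormal.res_conormalSect] at h1
  exact h1

namespace Piece

variable {O O' : X₀.Opens} {P : Piece ι f₀ O} {P' : Piece ι f₀ O'}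
  {W : X₀.affineOpens} {hW : W.1 ≤ O} {hW' : W.1 ≤ O'} (hι : IsSqZero ι)

theorem IsTau.res_eq {Q : S.affineOpens} {e : W.1 ≤ (f₀ ≫ ι) ⁻¹ᵁ Q.1} {τ : Γ(coeff ι f₀, W.1) →+ P.A W hW}
    (hτ : IsTau P hW Q e τ) {W' : X₀.affineOpens} (h : W'.1 ≤ W.1) {τ' : Γ(coeff ι f₀, W'.1) →+ P.A W' (h.trans hW)}
    (hτ' : IsTau P (h.trans hW) Q (h.trans e) τ') (m : Γ(coeff ι f₀, W.1)) :
    P.res hW h (τ m) = τ' (QC.res (coeff ι f₀) h m) := by
  refine DFunLike.congr_fun (IsTau.unique_aux Q e ((P.res hW h).hom.toAddMonoidHom.comp τ)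
    (τ'.comp (QC.res (coeff ι f₀) h)) fun a s => ?_) m
  obtain ⟨b, rfl⟩ := P.red_surjective W hW a
  have h1 : resO X₀ h (P.red W hW b) = P.red W' (h.trans hW) (P.res hW h b) := congr($((P.res_red hW h).symm) b)
  change P.res hW h (τ (P.red W hW b • cls W Q e s)) = τ' (QC.res (coeff ι f₀) h (P.red W hW b • cls W Q e s))
  rw [hτ.smul, hτ.cls_eq, map_mul, QC.res_smul, res_cls, h1, hτ'.smul, hτ'.cls_eq]
  exact congrArg (_ * ·) (congr($(P.str_res hW h Q e) (OmegaSh.idealSect ι.ker Q.1 s)))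

omit [IsClosedImmersion ι] in
theorem IsTau.of_le {Q Q' : S.affineOpens} (hQ : Q'.1 ≤ Q.1) {e' : W.1 ≤ (f₀ ≫ ι) ⁻¹ᵁ Q'.1}
    {τ : Γ(coeff ι f₀, W.1) →+ P.A W hW} (hτ : IsTau P hW Q' e' τ) :
    IsTau P hW Q (e'.trans ((f₀ ≫ ι).preimage_mono hQ)) τ :=
  ⟨hτ.smul, fun s => by
    rw [cls_map hQ e', hτ.cls_eq, Conormal.idealSect_res]
    exact congr($(P.str_map hW hQ e') (OmegaSh.idealSect ι.ker Q.1 s))⟩

include hι in
theorem IsTau.eq_of_any {Q Q' : S.affineOpens} {e : W.1 ≤ (f₀ ≫ ι) ⁻¹ᵁ Q.1} {e' : W.1 ≤ (f₀ ≫ ι) ⁻¹ᵁ Q'.1}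
    {τ τ' : Γ(coeff ι f₀, W.1) →+ P.A W hW} (hτ : IsTau P hW Q e τ) (hτ' : IsTau P hW Q' e' τ') : τ = τ' := by
  obtain ⟨τ₀, hτ₀, -, hr⟩ := exists_tau hι (P := P) (hW := hW) Q e
  obtain rfl := hτ.unique hτ₀
  obtain ⟨τ₁, hτ₁, -, hr'⟩ := exists_tau hι (P := P) (hW := hW) Q' e'
  obtain rfl := hτ'.unique hτ₁
  ext m
  obtain ⟨m', hm'⟩ := (hr (τ' m)).1 ((hr' (τ' m)).2 ⟨m, rfl⟩)
  suffices m' = m by rw [← hm', this]
  refine QC.section_eq_of_locally fun z hz => ?_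
  obtain ⟨Q'', hQ'', hQle⟩ := KosExt.exists_affine_le (O := Q.1 ⊓ Q'.1) (x := (f₀ ≫ ι) z) ⟨e hz, e' hz⟩
  obtain ⟨W', hW'z, hle⟩ := KosExt.exists_affine_le (O := W.1 ⊓ (f₀ ≫ ι) ⁻¹ᵁ Q''.1) (x := z) ⟨hz, hQ''⟩
  refine ⟨W'.1, hle.trans inf_le_left, hW'z, ?_⟩
  have h : W'.1 ≤ W.1 := hle.trans inf_le_left
  obtain ⟨t, ht, htinj, -⟩ := exists_tau hι (P := P) (hW := h.trans hW) Q'' (hle.trans inf_le_right)
  refine htinj ?_
  rw [← hτ.res_eq h (ht.of_le (hQle.trans inf_le_left)), ← hτ'.res_eq h (ht.of_le (hQle.trans inf_le_right)), hm']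

variable (P hW)

/-- The coefficients as elements of the thickening. -/
def tau : Γ(coeff ι f₀, W.1) →+ P.A W hW :=
  (exists_tau hι (P := P) (hW := hW) P.base (hW.trans P.base_le)).choose

theorem isTau_tau : IsTau P hW P.base (hW.trans P.base_le) (P.tau hW hι) :=
  (exists_tau hι (P := P) (hW := hW) P.base (hW.trans P.base_le)).choose_spec.1

theorem tau_injective : Function.Injective (P.tau hW hι) :=
  (exists_tau hι (P := P) (hW := hW) P.base (hW.trans P.base_le)).choose_spec.2.1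

theorem red_eq_zero_iff (x : P.A W hW) : P.red W hW x = 0 ↔ x ∈ Set.range (P.tau hW hι) :=
  (exists_tau hι (P := P) (hW := hW) P.base (hW.trans P.base_le)).choose_spec.2.2 x

theorem red_tau (m : Γ(coeff ι f₀, W.1)) : P.red W hW (P.tau hW hι m) = 0 :=
  (P.red_eq_zero_iff hW hι _).2 ⟨m, rfl⟩

theorem res_tau {W' : X₀.affineOpens} (h : W'.1 ≤ W.1) (m : Γ(coeff ι f₀, W.1)) :
    P.res hW h (P.tau hW hι m) = P.tau (h.trans hW) hι (QC.res (coeff ι f₀) h m) :=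
  (P.isTau_tau hW hι).res_eq h (P.isTau_tau (h.trans hW) hι) m

theorem tau_smul (a : P.A W hW) (m : Γ(coeff ι f₀, W.1)) :
    P.tau hW hι (P.red W hW a • m) = a * P.tau hW hι m := (P.isTau_tau hW hι).smul a m

variable {P hW}

include hι in
theorem IsMap.tau {φ : P.A W hW ⟶ P'.A W hW'} (h : IsMap P P' hW hW' φ) (m : Γ(coeff ι f₀, W.1)) :
    φ (P.tau hW hι m) = P'.tau hW' hι m := by
  have e : W.1 ≤ (f₀ ≫ ι) ⁻¹ᵁ P.base.1 := hW.trans P.base_le
  have h' : IsTau P' hW' P.base e (P'.tau hW' hι) := by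
    obtain ⟨t, ht, -, -⟩ := exists_tau hι (P := P') (hW := hW') P.base e
    rw [(P'.isTau_tau hW' hι).eq_of_any hι ht]
    exact ht
  refine DFunLike.congr_fun (IsTau.unique_aux P.base e (φ.hom.toAddMonoidHom.comp (P.tau hW hι)) (P'.tau hW' hι)
    fun a s => ?_) m
  obtain ⟨b, rfl⟩ := P.red_surjective W hW a
  change φ (P.tau hW hι (_ • _)) = _
  rw [(P.isTau_tau hW hι).smul, (P.isTau_tau hW hι).cls_eq, map_mul,
    show P.red W hW b = P'.red W hW' (φ b) from congr($(h.red.symm) b), h'.smul, h'.cls_eq]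
  exact congrArg (_ * ·) (congr($(h.str P.base e) (OmegaSh.idealSect ι.ker P.base.1 s)))

end Piece

end Groth.Agent.DefLift
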