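import Groth.Agent.DefLift.KerVal
import Groth.Agent.DefLift.GlueHom
import Mathlib

/-!
# Sections pulled back along a morphism defined on an open
-/

set_option autoImplicit false
set_option linter.style.haveILetI false
set_option backward.isDefEq.respectTransparency false
universe u

open CategoryTheory CategoryTheory.Limits AlgebraicGeometry Opposite TopologicalSpace

noncomputable section

namespace Groth.Agent.DefLift

open Groth.Agent.QC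

variable {T X S T₀ : Scheme.{u}}

theorem le_image_preimage {P : T.Opens} {O : T.Opens} (h : O ≤ P) : O ≤ P.ι ''ᵁ (P.ι ⁻¹ᵁ O) := by
  rw [Scheme.Hom.image_preimage_eq_opensRange_inf, Scheme.Opens.opensRange_ι]
  exact le_inf h le_rfl

/-- A function on the target as a function on an open of the source. -/
def secHom {P : T.Opens} (b : P.toScheme ⟶ X) (V : X.Opens) (O : T.Opens) (hP : O ≤ P)
    (hV : P.ι ⁻¹ᵁ O ≤ b ⁻¹ᵁ V) : Γ(X, V) ⟶ Γ(T, O) :=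
  b.appLE V (P.ι ⁻¹ᵁ O) hV ≫ T.presheaf.map (homOfLE (le_image_preimage hP)).op

/-- A function on the target as a function on an open of the source. -/
abbrev secOn {P : T.Opens} (b : P.toScheme ⟶ X) (V : X.Opens) (O : T.Opens) (hP : O ≤ P)
    (hV : P.ι ⁻¹ᵁ O ≤ b ⁻¹ᵁ V) : Γ(X, V) →+* Γ(T, O) :=
  (secHom b V O hP hV).hom

theorem secHom_map {P : T.Opens} (b : P.toScheme ⟶ X) (V : X.Opens) {O O' : T.Opens} (hP : O ≤ P)
    (hV : P.ι ⁻¹ᵁ O ≤ b ⁻¹ᵁ V) (h : O' ≤ O) :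
    secHom b V O hP hV ≫ T.presheaf.map (homOfLE h).op =
      secHom b V O' (h.trans hP) ((P.ι.preimage_mono h).trans hV) := by
  have h1 : b.appLE V (P.ι ⁻¹ᵁ O') ((P.ι.preimage_mono h).trans hV) =
      b.appLE V (P.ι ⁻¹ᵁ O) hV ≫ P.toScheme.presheaf.map (homOfLE (P.ι.preimage_mono h)).op := by
    rw [Scheme.Hom.appLE_map]
  rw [secHom, secHom, h1, Category.assoc, Category.assoc]
  congr 1
  erw [← T.presheaf.map_comp, ← T.presheaf.map_comp]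
  rfl

theorem resO_secOn {P : T.Opens} (b : P.toScheme ⟶ X) (V : X.Opens) {O O' : T.Opens} (hP : O ≤ P)
    (hV : P.ι ⁻¹ᵁ O ≤ b ⁻¹ᵁ V) (h : O' ≤ O) (s : Γ(X, V)) :
    resO T h (secOn b V O hP hV s) = secOn b V O' (h.trans hP) ((P.ι.preimage_mono h).trans hV) s :=
  congr($(secHom_map b V hP hV h) s)

theorem secOn_res {P : T.Opens} (b : P.toScheme ⟶ X) {V V' : X.Opens} (h : V' ≤ V) (O : T.Opens) (hP : O ≤ P)
    (hV : P.ι ⁻¹ᵁ O ≤ b ⁻¹ᵁ V') (s : Γ(X, V)) :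
    secOn b V' O hP hV (resO X h s) = secOn b V O hP (hV.trans (b.preimage_mono h)) s := by
  have : X.presheaf.map (homOfLE h).op ≫ secHom b V' O hP hV = secHom b V O hP (hV.trans (b.preimage_mono h)) := by
    rw [secHom, secHom, Scheme.Hom.map_appLE_assoc]
  exact congr($this s)

theorem secOn_comp {P : T.Opens} (b : P.toScheme ⟶ X) (f : X ⟶ S) (W : S.Opens) (V : X.Opens) (e : V ≤ f ⁻¹ᵁ W)
    (O : T.Opens) (hP : O ≤ P) (hV : P.ι ⁻¹ᵁ O ≤ b ⁻¹ᵁ V) (c : Γ(S, W)) :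
    secOn b V O hP hV (f.appLE W V e c) = secOn (b ≫ f) W O hP (hV.trans (b.preimage_mono e)) c := by
  have : f.appLE W V e ≫ secHom b V O hP hV = secHom (b ≫ f) W O hP (hV.trans (b.preimage_mono e)) := by
    rw [secHom, secHom, Scheme.Hom.appLE_comp_appLE_assoc]
  exact congr($this c)

/-- Sections of a composite with the inclusion. -/
theorem secOn_ι_comp {P : T.Opens} (g : T ⟶ X) (V : X.Opens) (O : T.Opens) (hP : O ≤ P)
    (hV : P.ι ⁻¹ᵁ O ≤ (P.ι ≫ g) ⁻¹ᵁ V) (hO : O ≤ g ⁻¹ᵁ V) (s : Γ(X, V)) :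
    secOn (P.ι ≫ g) V O hP hV s = g.appLE V O hO s := by
  have : secHom (P.ι ≫ g) V O hP hV = g.appLE V O hO := by
    rw [secHom, ← Scheme.Hom.appLE_comp_appLE P.ι g V O (P.ι ⁻¹ᵁ O) hO le_rfl, Category.assoc]
    rw [Scheme.Hom.appLE, Scheme.Hom.appLE, Scheme.Opens.ι_app]
    simp only [Category.assoc]
    congr 1
    erw [← T.presheaf.map_comp, ← T.presheaf.map_comp]
    exact (T.presheaf.map_comp _ _).symm.trans rfl
  exact congr($this s)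

variable (i : T₀ ⟶ T)

theorem app_secOn {P : T.Opens} (b : P.toScheme ⟶ X) (a₀ : T₀ ⟶ X) (hb : (i ∣_ P) ≫ b = (i ⁻¹ᵁ P).ι ≫ a₀)
    (V : X.Opens) (O : T.Opens) (hP : O ≤ P) (hV : P.ι ⁻¹ᵁ O ≤ b ⁻¹ᵁ V) (h₀ : i ⁻¹ᵁ O ≤ a₀ ⁻¹ᵁ V) (s : Γ(X, V)) :
    i.app O (secOn b V O hP hV s) = a₀.appLE V (i ⁻¹ᵁ O) h₀ s := by
  let O₀ := (i ⁻¹ᵁ P).ι ⁻¹ᵁ (i ⁻¹ᵁ O)
  have h1 : i ⁻¹ᵁ O ≤ (i ⁻¹ᵁ P).ι ''ᵁ O₀ := le_image_preimage (i.preimage_mono hP)
  have hO : O₀ ≤ (i ∣_ P) ⁻¹ᵁ (P.ι ⁻¹ᵁ O) := by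
    rw [← Scheme.Hom.comp_preimage, morphismRestrict_ι, Scheme.Hom.comp_preimage]
  have key : secHom b V O hP hV ≫ i.app O = a₀.appLE V (i ⁻¹ᵁ O) h₀ := by
    have e1 : b.appLE V (P.ι ⁻¹ᵁ O) hV ≫ (i ∣_ P).appLE (P.ι ⁻¹ᵁ O) O₀ hO =
        a₀.appLE V (i ⁻¹ᵁ O) h₀ ≫ (i ⁻¹ᵁ P).ι.appLE (i ⁻¹ᵁ O) O₀ le_rfl := by
      rw [Scheme.Hom.appLE_comp_appLE, Scheme.Hom.appLE_comp_appLE]
      simp only [hb]
    have e2 := congrArg (· ≫ T₀.presheaf.map (homOfLE h1).op) e1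
    simp only [Category.assoc, morphismRestrict_appLE, Scheme.Hom.appLE, Scheme.Opens.ι_app] at e2
    rw [secHom, Category.assoc, i.naturality]
    refine Eq.trans ?_ (e2.trans ?_)
    · simp only [Scheme.Hom.appLE, Category.assoc, morphismRestrict_app]
      congr 3
      erw [← T₀.presheaf.map_comp, ← T₀.presheaf.map_comp]
      rfl
    · rw [Scheme.Hom.appLE]
      congr 1
      erw [← T₀.presheaf.map_comp, ← T₀.presheaf.map_comp, ← T₀.presheaf.map_comp]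
      rfl
  exact congr($key s)

end Groth.Agent.DefLift
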