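import Groth.Agent.DefLift.Lifting
import Mathlib

/-!
# Cocycles of derivations with values in a module supported on a closed fibre
-/

set_option autoImplicit false
set_option linter.style.haveILetI false
set_option backward.isDefEq.respectTransparency false
universe u

open CategoryTheory CategoryTheory.Limits AlgebraicGeometry Opposite TopologicalSpace Abelian

noncomputable section

namespace Groth.Agent.DefLift

open Groth.Agent.QC

variable {Y X S₀ K : Scheme.{u}} {f : Y ⟶ S₀} {i : X ⟶ Y} {x : X ⟶ K} {s : K ⟶ S₀}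
  [IsClosedImmersion s] [Surjective s] (hc : IsPullback i x f s) {G : X.Modules} {M : Y.Modules}
  (η : M ≅ (Scheme.Modules.pushforward i).obj G)

/-- The value of a section of `M` in `G`. -/
def toG (W : Y.Opens) : Γ(M, W) →+ Γ(G, i ⁻¹ᵁ W) := (η.hom.app W).hom

theorem toG_smul (W : Y.Opens) (a : Γ(Y, W)) (m : Γ(M, W)) : toG η W (a • m) = i.app W a • toG η W m :=
  Scheme.Modules.Hom.app_smul η.hom a m

theorem toG_res {W W' : Y.Opens} (h : W' ≤ W) (m : Γ(M, W)) :
    toG η W' (res M h m) = res G (i.preimage_mono h) (toG η W m) :=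
  app_res η.hom h m |>.symm

theorem toG_bijective (W : Y.Opens) : Function.Bijective (toG η W) :=
  ConcreteCategory.bijective_of_isIso (η.hom.app W)

include hc in
omit [Surjective s] in
theorem derivation_kills {O : Y.Opens} (V : S₀.affineOpens) (hO : O ≤ f ⁻¹ᵁ V.1) (D : LocDer f M O)
    (W : Y.affineOpens) (hW : W.1 ≤ O) (z : Γ(Y, W.1)) (hz : i.app W.1 z = 0) :
    toG η W.1 (D.app W hW z) = 0 := by
  haveI : IsClosedImmersion i := MorphismProperty.of_isPullback hc.flip inferInstance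
  have h := (KoszulLib.ker_app_of_isPullback hc.flip V inferInstance W (hW.trans hO)).2
  have hz' : z ∈ RingHom.ker (i.app W.1).hom := hz
  rw [h] at hz'
  have key : ∀ y ∈ (RingHom.ker (s.app V.1).hom).map (f.appLE V.1 W.1 (hW.trans hO)).hom,
      i.app W.1 y = 0 ∧ toG η W.1 (D.app W hW y) = 0 := by
    intro y hy
    induction hy using Submodule.span_induction with
    | mem y hy =>
      obtain ⟨c, hc', rfl⟩ := hy
      refine ⟨?_, by rw [D.app_base, map_zero]⟩
      have : f.appLE V.1 W.1 (hW.trans hO) c ∈ RingHom.ker (i.app W.1).hom := h ▸ Ideal.mem_map_of_mem _ hc'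
      exact this
    | zero => exact ⟨map_zero _, by rw [map_zero, map_zero]⟩
    | add a b _ _ ha hb => exact ⟨by rw [map_add, ha.1, hb.1, add_zero], by rw [map_add, map_add, ha.2, hb.2, add_zero]⟩
    | smul b a _ ha =>
      refine ⟨by rw [smul_eq_mul, map_mul, ha.1, mul_zero], ?_⟩
      rw [smul_eq_mul, D.app_mul, map_add, toG_smul, toG_smul, ha.1, ha.2, smul_zero, zero_smul, zero_add]
  exact (key z hz').2

include hc in
/-- Derivations with values in a module on the closed fibre come from the closed fibre. -/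
theorem exists_reduce_der {O : Y.Opens} (V : S₀.affineOpens) (hO : O ≤ f ⁻¹ᵁ V.1) (D : LocDer f M O) :
    ∃ D' : LocDer x G (i ⁻¹ᵁ O), ∀ (W : Y.affineOpens) (W' : X.affineOpens) (hW : W.1 ≤ O) (hW' : W'.1 ≤ i ⁻¹ᵁ O)
      (e : i ⁻¹ᵁ W.1 = W'.1) (a : Γ(Y, W.1)),
      D'.app W' hW' (i.appLE W.1 W'.1 e.ge a) = res G e.ge (toG η W.1 (D.app W hW a)) := by
  haveI : IsClosedImmersion i := MorphismProperty.of_isPullback hc.flip inferInstance
  haveI : Surjective i := MorphismProperty.of_isPullback hc.flip inferInstance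
  have hopn : ∀ C : X.Opens, IsOpen (i.base '' (C : Set X)) := fun C => by
    obtain ⟨T, hT, hTC⟩ := (i.isEmbedding.isInducing.isOpen_iff).1 C.2
    change IsOpen (i '' C.carrier)
    rwa [← hTC, Set.image_preimage_eq _ i.surjective]
  let opn : X.Opens → Y.Opens := fun C => ⟨i.base '' (C : Set X), hopn C⟩
  have hpre : ∀ C, i ⁻¹ᵁ opn C = C := fun C =>
    TopologicalSpace.Opens.ext (Set.preimage_image_eq _ i.isEmbedding.injective)
  have hopn' : ∀ W : Y.Opens, opn (i ⁻¹ᵁ W) = W := fun W =>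
    TopologicalSpace.Opens.ext (Set.image_preimage_eq _ i.surjective)
  have haff : ∀ C : X.affineOpens, IsAffineOpen (opn C.1) := fun C => by
    haveI : IsClosedImmersion (i ∣_ opn C.1) := IsZariskiLocalAtTarget.restrict (P := @IsClosedImmersion) inferInstance _
    haveI : Surjective (i ∣_ opn C.1) := IsZariskiLocalAtTarget.restrict (P := @Surjective) inferInstance _
    haveI : IsAffine (i ⁻¹ᵁ opn C.1).toScheme := by rw [hpre]; exact C.2
    exact NilAffine.isAffine_of_surjective (i ∣_ opn C.1)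
  let Wof : X.affineOpens → Y.affineOpens := fun C => ⟨opn C.1, haff C⟩
  have hle : ∀ {C : X.affineOpens}, C.1 ≤ i ⁻¹ᵁ O → (Wof C).1 ≤ O := fun h => by
    have : opn _ ≤ opn (i ⁻¹ᵁ O) := Set.image_mono h
    rwa [hopn'] at this
  -- the values on the lifts
  have hex : ∀ (C : X.affineOpens) (hC : C.1 ≤ i ⁻¹ᵁ O) (y : Γ(X, C.1)), ∃ d : Γ(G, C.1),
      ∀ a, i.appLE (Wof C).1 C.1 (hpre C.1).ge a = y →
        res G (hpre C.1).ge (toG η (Wof C).1 (D.app (Wof C) (hle hC) a)) = d := by
    intro C hC y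
    have hs : Function.Surjective (i.appLE (Wof C).1 C.1 (hpre C.1).ge) := fun y => by
      obtain ⟨a, ha⟩ := i.app_surjective (Wof C).1 (Wof C).2 (resO X (hpre C.1).le y)
      refine ⟨a, ?_⟩
      have : resO X (hpre C.1).ge (i.app (Wof C).1 a) = y := by rw [ha, resO_resO, resO_self]
      exact this
    obtain ⟨a₀, ha₀⟩ := hs y
    refine ⟨res G (hpre C.1).ge (toG η (Wof C).1 (D.app (Wof C) (hle hC) a₀)), fun a ha => ?_⟩
    · have h0 : i.app (Wof C).1 (a - a₀) = 0 := by
        have h1 : resO X (hpre C.1).ge (i.app (Wof C).1 (a - a₀)) = 0 := by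
          change i.appLE (Wof C).1 C.1 _ (a - a₀) = 0
          rw [map_sub, ha, ha₀, sub_self]
        have h2 := congrArg (resO X (hpre C.1).le) h1
        rwa [resO_resO, resO_self, map_zero] at h2
      have := derivation_kills hc η V hO D (Wof C) (hle hC) _ h0
      rw [map_sub, map_sub, sub_eq_zero] at this
      exact congrArg (res G (hpre C.1).ge) this
  choose d hd using hex
  have hspec : ∀ (W : Y.affineOpens) (W' : X.affineOpens) (hW : W.1 ≤ O) (hW' : W'.1 ≤ i ⁻¹ᵁ O)
      (e : i ⁻¹ᵁ W.1 = W'.1) (a : Γ(Y, W.1)),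
      d W' hW' (i.appLE W.1 W'.1 e.ge a) = res G e.ge (toG η W.1 (D.app W hW a)) := by
    intro W W' hW hW' e a
    obtain rfl : Wof W' = W := Subtype.ext (by change opn W'.1 = W.1; rw [← e, hopn'])
    exact (hd W' hW' _ a rfl).symm
  have hlift : ∀ (C : X.affineOpens) (y : Γ(X, C.1)), ∃ a, i.appLE (Wof C).1 C.1 (hpre C.1).ge a = y := fun C y => by
    obtain ⟨a, ha⟩ := i.app_surjective (Wof C).1 (Wof C).2 (resO X (hpre C.1).le y)
    exact ⟨a, by change resO X (hpre C.1).ge (i.app (Wof C).1 a) = y; rw [ha, resO_resO, resO_self]⟩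
  refine ⟨{ app := fun C hC => AddMonoidHom.mk' (d C hC) fun p q => ?_
            app_mul := fun C hC p q => ?_
            app_base := fun C hC V' e c => ?_
            res_app := fun C C' hC h p => ?_ }, hspec⟩
  · obtain ⟨a, rfl⟩ := hlift C p
    obtain ⟨b, rfl⟩ := hlift C q
    rw [← map_add, hspec _ _ (hle hC) _ (hpre C.1), hspec _ _ (hle hC) _ (hpre C.1), hspec _ _ (hle hC) _ (hpre C.1),
      map_add, map_add, map_add]
  · obtain ⟨a, rfl⟩ := hlift C p
    obtain ⟨b, rfl⟩ := hlift C q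
    change d C hC _ = _ • d C hC _ + _ • d C hC _
    rw [← map_mul, hspec _ _ (hle hC) _ (hpre C.1), hspec _ _ (hle hC) _ (hpre C.1), hspec _ _ (hle hC) _ (hpre C.1),
      D.app_mul, map_add, toG_smul, toG_smul, map_add, res_smul, res_smul]
    rfl
  · have hV : ∃ Q : S₀.affineOpens, s ⁻¹ᵁ Q.1 = V'.1 := by
      obtain ⟨T, hT, hTV⟩ := (s.isEmbedding.isInducing.isOpen_iff).1 V'.1.2
      let Q : S₀.Opens := ⟨T, hT⟩
      have hQ : s ⁻¹ᵁ Q = V'.1 := TopologicalSpace.Opens.ext hTV
      haveI : IsClosedImmersion (s ∣_ Q) := IsZariskiLocalAtTarget.restrict (P := @IsClosedImmersion) inferInstance _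
      haveI : Surjective (s ∣_ Q) := IsZariskiLocalAtTarget.restrict (P := @Surjective) inferInstance _
      haveI : IsAffine (s ⁻¹ᵁ Q).toScheme := by rw [hQ]; exact V'.2
      exact ⟨⟨Q, NilAffine.isAffine_of_surjective (s ∣_ Q)⟩, hQ⟩
    obtain ⟨Q, hQ⟩ := hV
    obtain ⟨c', hc'⟩ := s.app_surjective Q.1 Q.2 (resO K hQ.le c)
    have hcc : c = s.appLE Q.1 V'.1 hQ.ge c' := by
      change c = resO K hQ.ge (s.app Q.1 c')
      rw [hc', resO_resO, resO_self]
    have eY : (Wof C).1 ≤ f ⁻¹ᵁ Q.1 := by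
      rintro p ⟨z, hz, rfl⟩
      have h1 : x z ∈ V'.1 := e hz
      rw [← hQ] at h1
      have h2 := congr($(hc.w) z)
      simp only [Scheme.Hom.comp_apply] at h2
      change f (i z) ∈ Q.1
      rw [h2]
      exact h1
    have hx : x.appLE V'.1 C.1 e c = i.appLE (Wof C).1 C.1 (hpre C.1).ge (f.appLE Q.1 (Wof C).1 eY c') := by
      rw [hcc, ← CommRingCat.comp_apply, ← CommRingCat.comp_apply, Scheme.Hom.appLE_comp_appLE,
        Scheme.Hom.appLE_comp_appLE]
      simp only [hc.w]
    change d C hC _ = 0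
    rw [hx, hspec _ _ (hle hC) _ (hpre C.1), D.app_base, map_zero, map_zero]
  · obtain ⟨a, rfl⟩ := hlift C p
    change res G h (d C hC _) = d C' _ _
    have hW : (Wof C').1 ≤ (Wof C).1 := Set.image_mono h
    have hy : resO X h (i.appLE (Wof C).1 C.1 (hpre C.1).ge a) =
        i.appLE (Wof C').1 C'.1 (hpre C'.1).ge (resO Y hW a) := by
      change (i.appLE _ _ _ ≫ X.presheaf.map (homOfLE h).op) a = (Y.presheaf.map (homOfLE hW).op ≫ i.appLE _ _ _) a
      rw [Scheme.Hom.appLE_map, Scheme.Hom.map_appLE]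
    rw [hy, hspec _ _ (hle hC) _ (hpre C.1), hspec _ _ (hle (h.trans hC)) _ (hpre C'.1),
      ← D.res_app (Wof C) (Wof C') (hle hC) hW a, toG_res, res_res, res_res]

include hc in
/-- Derivations on the closed fibre give derivations with values in the module on it. -/
theorem exists_extend_der {O : Y.Opens} (E : LocDer x G (i ⁻¹ᵁ O)) :
    ∃ E' : LocDer f M O, ∀ (W : Y.affineOpens) (hW : W.1 ≤ O) (a : Γ(Y, W.1)),
      toG η W.1 (E'.app W hW a) =
        E.app ⟨i ⁻¹ᵁ W.1, haveI : IsClosedImmersion i := MorphismProperty.of_isPullback hc.flip inferInstance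
          W.2.preimage i⟩ (i.preimage_mono hW) (i.app W.1 a) := by
  haveI : IsClosedImmersion i := MorphismProperty.of_isPullback hc.flip inferInstance
  let Cof : Y.affineOpens → X.affineOpens := fun W => ⟨i ⁻¹ᵁ W.1, W.2.preimage i⟩
  choose d hd using fun (W : Y.affineOpens) (hW : W.1 ≤ O) (a : Γ(Y, W.1)) =>
    (toG_bijective η W.1).2 (E.app (Cof W) (i.preimage_mono hW) (i.app W.1 a))
  have hinj := fun W : Y.affineOpens => (toG_bijective η W.1).1
  refine ⟨{ app := fun W hW => AddMonoidHom.mk' (d W hW) fun p q => hinj W ?_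
            app_mul := fun W hW p q => hinj W ?_
            app_base := fun W hW V e c => hinj W ?_
            res_app := fun W W' hW h p => hinj W' ?_ }, hd⟩
  · rw [hd, map_add, map_add, map_add, hd, hd]
  · change toG η W.1 (d W hW _) = toG η W.1 (_ • d W hW _ + _ • d W hW _)
    rw [hd, map_mul, map_add, toG_smul, toG_smul, hd, hd]
    exact E.app_mul (Cof W) _ _ _
  · change toG η W.1 (d W hW _) = toG η W.1 0
    have eX : i ⁻¹ᵁ W.1 ≤ x ⁻¹ᵁ (s ⁻¹ᵁ V.1) := fun z hz => by
      have h2 := congr($(hc.w) z)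
      simp only [Scheme.Hom.comp_apply] at h2
      change s (x z) ∈ V.1
      rw [← h2]
      exact e hz
    have hx : i.app W.1 (f.appLE V.1 W.1 e c) = x.appLE (s ⁻¹ᵁ V.1) (i ⁻¹ᵁ W.1) eX (s.app V.1 c) := by
      rw [Scheme.Hom.app_eq_appLE, Scheme.Hom.app_eq_appLE, ← CommRingCat.comp_apply, ← CommRingCat.comp_apply,
        Scheme.Hom.appLE_comp_appLE, Scheme.Hom.appLE_comp_appLE]
      simp only [hc.w]
    rw [hd, hx, map_zero]
    exact E.app_base (Cof W) _ ⟨s ⁻¹ᵁ V.1, V.2.preimage s⟩ eX _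
  · change toG η W'.1 (res M h (d W hW p)) = toG η W'.1 (d W' _ _)
    rw [toG_res, hd, hd]
    refine (E.res_app (Cof W) (Cof W') (i.preimage_mono hW) (i.preimage_mono h) _).trans ?_
    exact congrArg (E.app (Cof W') _) (congr($((i.naturality (homOfLE h).op).symm) p))

variable {J : Type u} {U : J → Y.Opens}

include hc η in
/-- Two cocycles split when they split on the closed fibre. -/
theorem splitsTwo_of_fibre (V : J → S₀.affineOpens) (hU : ∀ a, U a ≤ f ⁻¹ᵁ (V a).1)
    (h : SplitsTwo x G fun a => i ⁻¹ᵁ U a) : SplitsTwo f M U := by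
  haveI : IsClosedImmersion i := MorphismProperty.of_isPullback hc.flip inferInstance
  haveI : Surjective i := MorphismProperty.of_isPullback hc.flip inferInstance
  intro D hD
  choose D' hD' using fun a b c => exists_reduce_der hc η (V a) ((inf_le_left.trans inf_le_left).trans (hU a)) (D a b c)
  have hopn : ∀ C : X.affineOpens, ∃ W : Y.affineOpens, i ⁻¹ᵁ W.1 = C.1 := fun C => by
    obtain ⟨T, hT, hTC⟩ := (i.isEmbedding.isInducing.isOpen_iff).1 C.1.2
    let W : Y.Opens := ⟨T, hT⟩
    have hW : i ⁻¹ᵁ W = C.1 := TopologicalSpace.Opens.ext hTC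
    haveI : IsClosedImmersion (i ∣_ W) := IsZariskiLocalAtTarget.restrict (P := @IsClosedImmersion) inferInstance _
    haveI : Surjective (i ∣_ W) := IsZariskiLocalAtTarget.restrict (P := @Surjective) inferInstance _
    haveI : IsAffine (i ⁻¹ᵁ W).toScheme := by rw [hW]; exact C.2
    exact ⟨⟨W, NilAffine.isAffine_of_surjective (i ∣_ W)⟩, hW⟩
  have hback : ∀ {W O : Y.Opens}, i ⁻¹ᵁ W ≤ i ⁻¹ᵁ O → W ≤ O := fun h p hp => by
    obtain ⟨z, rfl⟩ := i.surjective p
    exact h hp
  obtain ⟨E, hE⟩ := h D' fun a b c d C ha hb hc' hd p => by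
    obtain ⟨W, hW⟩ := hopn C
    obtain ⟨q, hq⟩ := i.app_surjective W.1 W.2 (resO X hW.le p)
    have hp : p = i.appLE W.1 C.1 hW.ge q := by
      change p = resO X hW.ge (i.app W.1 q)
      rw [hq, resO_resO, resO_self]
    have le : ∀ {O : Y.Opens}, C.1 ≤ i ⁻¹ᵁ O → W.1 ≤ O := fun h => hback (hW.le.trans h)
    subst hp
    rw [hD' b c d W C (le_inf (le_inf (le hb) (le hc')) (le hd)) _ hW, hD' a c d W C (le_inf (le_inf (le ha) (le hc')) (le hd)) _ hW,
      hD' a b d W C (le_inf (le_inf (le ha) (le hb)) (le hd)) _ hW, hD' a b c W C (le_inf (le_inf (le ha) (le hb)) (le hc')) _ hW,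
      ← map_sub, ← map_sub, ← map_add, ← map_add, ← map_sub, ← map_sub, hD a b c d W (le ha) (le hb) (le hc') (le hd) q,
      map_zero, map_zero]
  choose E' hE' using fun a b => exists_extend_der hc η (O := U a ⊓ U b) (E a b)
  refine ⟨E', fun a b c W ha hb hc' q => (toG_bijective η W.1).1 ?_⟩
  let C : X.affineOpens := ⟨i ⁻¹ᵁ W.1, W.2.preimage i⟩
  rw [map_add, map_sub, hE', hE', hE']
  have h1 := hD' a b c W C (le_inf (le_inf ha hb) hc') (le_inf (le_inf (i.preimage_mono ha) (i.preimage_mono hb)) (i.preimage_mono hc')) rfl q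
  rw [res_self, ← Scheme.Hom.app_eq_appLE] at h1
  exact h1.symm.trans (hE a b c C (i.preimage_mono ha) (i.preimage_mono hb) (i.preimage_mono hc') _)

end Groth.Agent.DefLift
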