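import Groth.Agent.QC.IdealMod
import Groth.Prelude.Def_Omega2
import Mathlib

/-!
# Gluing a system of thickenings of affine opens
-/

set_option autoImplicit false
set_option linter.style.haveILetI false
set_option backward.isDefEq.respectTransparency false
universe u

open CategoryTheory CategoryTheory.Limits AlgebraicGeometry Opposite TopologicalSpace

noncomputable section

namespace Groth.Agent.DefLift

variable {S S₀ X₀ : Scheme.{u}}

/-- A functorial system of thickenings of the members of a basis of affine opens. -/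
structure ThickSystem (ι : S₀ ⟶ S) (f₀ : X₀ ⟶ S₀) where
  J : Set X₀.affineOpens
  basis : ∀ (x : X₀) (O : X₀.Opens), x ∈ O → ∃ W ∈ J, x ∈ W.1 ∧ W.1 ≤ O
  R : J → CommRingCat.{u}
  ρ : ∀ {W W' : J}, W'.1.1 ≤ W.1.1 → (R W ⟶ R W')
  ρ_self : ∀ W : J, ρ (le_refl W.1.1) = 𝟙 _
  ρ_trans : ∀ {W W' W'' : J} (h : W'.1.1 ≤ W.1.1) (h' : W''.1.1 ≤ W'.1.1), ρ h ≫ ρ h' = ρ (h'.trans h)
  red : ∀ W : J, R W ⟶ Γ(X₀, W.1.1)
  red_surjective : ∀ W, Function.Surjective (red W)
  red_nil : ∀ W x, red W x = 0 → IsNilpotent x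
  ρ_red : ∀ {W W' : J} (h : W'.1.1 ≤ W.1.1), ρ h ≫ red W' = red W ≫ X₀.presheaf.map (homOfLE h).op
  isOpenImmersion : ∀ {W W' : J} (h : W'.1.1 ≤ W.1.1), IsOpenImmersion (Spec.map (ρ h))
  toS : ∀ W, Spec (R W) ⟶ S
  toS_ρ : ∀ {W W' : J} (h : W'.1.1 ≤ W.1.1), Spec.map (ρ h) ≫ toS W = toS W'
  smooth : ∀ W, Smooth (toS W)
  cart : ∀ W : J, IsPullback (W.1.2.isoSpec.hom ≫ Spec.map (red W)) (W.1.1.ι ≫ f₀) (toS W) ι

namespace ThickSystem

variable {ι : S₀ ⟶ S} {f₀ : X₀ ⟶ S₀} (T : ThickSystem ι f₀)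

/-- The diagram of thickenings. -/
def diagram : T.J ⥤ Scheme.{u} where
  obj W := Spec (T.R W)
  map {W' W} h := Spec.map (T.ρ (W := W) (W' := W') (leOfHom h))
  map_id W := by rw [T.ρ_self, Spec.map_id]
  map_comp {A B C} h h' := by rw [← Spec.map_comp, T.ρ_trans (leOfHom h') (leOfHom h)]

instance {W' W : T.J} (h : W' ⟶ W) : IsOpenImmersion (T.diagram.map h) := T.isOpenImmersion (leOfHom h)

/-- The embedding of an affine open into its thickening. -/
def emb (W : T.J) : W.1.1.toScheme ⟶ Spec (T.R W) := W.1.2.isoSpec.hom ≫ Spec.map (T.red W)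

theorem emb_map {W' W : T.J} (h : W'.1.1 ≤ W.1.1) : X₀.homOfLE h ≫ T.emb W = T.emb W' ≫ Spec.map (T.ρ h) := by
  have e : W'.1.2.isoSpec.hom ≫ Spec.map (X₀.presheaf.map (homOfLE h).op) = X₀.homOfLE h ≫ W.1.2.isoSpec.hom := by
    rw [← cancel_mono W.1.2.fromSpec, Category.assoc, Category.assoc, W.1.2.map_fromSpec W'.1.2,
      IsAffineOpen.isoSpec_hom, IsAffineOpen.isoSpec_hom, IsAffineOpen.toSpecΓ_fromSpec,
      IsAffineOpen.toSpecΓ_fromSpec, Scheme.homOfLE_ι]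
  rw [emb, emb, Category.assoc, ← Spec.map_comp, T.ρ_red h, Spec.map_comp, reassoc_of% e]

theorem emb_bijective (W : T.J) : Function.Bijective (T.emb W) := by
  have h1 : Function.Bijective (Spec.map (T.red W)) := by
    refine ⟨PrimeSpectrum.comap_injective_of_surjective (T.red W).hom (T.red_surjective W), fun p => ?_⟩
    have hp : p ∈ Set.range (PrimeSpectrum.comap (T.red W).hom) := by
      rw [range_comap_of_surjective _ _ (T.red_surjective W), PrimeSpectrum.mem_zeroLocus]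
      intro x hx
      obtain ⟨n, hn⟩ := T.red_nil W x hx
      exact p.isPrime.mem_of_pow_mem n (hn ▸ p.asIdeal.zero_mem)
    exact hp
  exact h1.comp (Scheme.homeoOfIso W.1.2.isoSpec).bijective

instance : (T.diagram ⋙ Scheme.forget).IsLocallyDirected where
  cond {Wi Wj Wk} fi fj xi xj hx := by
    obtain ⟨zi, rfl⟩ := (T.emb_bijective Wi).2 xi
    obtain ⟨zj, rfl⟩ := (T.emb_bijective Wj).2 xj
    have e : X₀.homOfLE (leOfHom fi) zi = X₀.homOfLE (leOfHom fj) zj := by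
      refine (T.emb_bijective Wk).1 ?_
      rw [← Scheme.Hom.comp_apply, ← Scheme.Hom.comp_apply, T.emb_map, T.emb_map, Scheme.Hom.comp_apply,
        Scheme.Hom.comp_apply]
      exact hx
    have e' : zi.1 = zj.1 := by
      have := congrArg Subtype.val e
      simpa using this
    obtain ⟨W, hW, hzW, hle⟩ := T.basis zi.1 (Wi.1.1 ⊓ Wj.1.1) ⟨zi.2, e' ▸ zj.2⟩
    refine ⟨⟨W, hW⟩, homOfLE (hle.trans inf_le_left), homOfLE (hle.trans inf_le_right), T.emb ⟨W, hW⟩ ⟨zi.1, hzW⟩, ?_, ?_⟩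
    · change Spec.map _ (T.emb ⟨W, hW⟩ _) = _
      rw [← Scheme.Hom.comp_apply, ← T.emb_map, Scheme.Hom.comp_apply]
      exact congrArg (T.emb Wi) (Subtype.ext (by simp))
    · change Spec.map _ (T.emb ⟨W, hW⟩ _) = _
      rw [← Scheme.Hom.comp_apply, ← T.emb_map, Scheme.Hom.comp_apply]
      exact congrArg (T.emb Wj) (Subtype.ext (by simp [e']))

/-- The total space. -/
def total : Scheme.{u} := colimit T.diagram

/-- The inclusion of a piece into the total space. -/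
def incl (W : T.J) : Spec (T.R W) ⟶ T.total := colimit.ι T.diagram W

instance (W : T.J) : IsOpenImmersion (T.incl W) :=
  inferInstanceAs (IsOpenImmersion (colimit.ι T.diagram W))

theorem map_incl {W' W : T.J} (h : W'.1.1 ≤ W.1.1) : Spec.map (T.ρ h) ≫ T.incl W = T.incl W' :=
  colimit.w T.diagram (homOfLE h)

/-- The structure morphism of the total space. -/
def structHom : T.total ⟶ S :=
  colimit.desc T.diagram (Cocone.mk S
    { app := fun W => T.toS W
      naturality := fun _ _ h => (T.toS_ρ (leOfHom h)).trans (Category.comp_id _).symm })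

theorem incl_structHom (W : T.J) : T.incl W ≫ T.structHom = T.toS W := colimit.ι_desc _ _

theorem cover_eq_top : (⨆ W : T.J, W.1.1) = ⊤ := eq_top_iff.2 fun x _ => by
  obtain ⟨W, hW, hx, -⟩ := T.basis x ⊤ trivial
  exact Opens.mem_iSup.2 ⟨⟨W, hW⟩, hx⟩

/-- The closed immersion of the reduction. -/
theorem exists_reduction : ∃ j : X₀ ⟶ T.total, ∀ W : T.J, W.1.1.ι ≫ j = T.emb W ≫ T.incl W := by
  let 𝒰 : X₀.OpenCover := Scheme.openCoverOfIsOpenCover X₀ (fun W : T.J => W.1.1) T.cover_eq_top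
  refine ⟨𝒰.glueMorphisms (fun W => T.emb W ≫ T.incl W) (fun (A B : T.J) => ?_), fun W => 𝒰.ι_glueMorphisms _ _ W⟩
  let P := pullback (A.1.1.ι) (B.1.1.ι)
  let a : P ⟶ A.1.1.toScheme := pullback.fst _ _
  let b : P ⟶ B.1.1.toScheme := pullback.snd _ _
  have hab : a ≫ A.1.1.ι = b ≫ B.1.1.ι := pullback.condition
  have hcov : ∀ p : P, ∃ W : T.J, p ∈ (a ≫ A.1.1.ι) ⁻¹ᵁ W.1.1 ∧ W.1.1 ≤ A.1.1 ∧ W.1.1 ≤ B.1.1 := fun p => by
    have hA : (a ≫ A.1.1.ι) p ∈ A.1.1 := by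
      rw [Scheme.Hom.comp_apply]; exact (a p).2
    have hB : (a ≫ A.1.1.ι) p ∈ B.1.1 := by
      rw [hab, Scheme.Hom.comp_apply]; exact (b p).2
    obtain ⟨W, hW, hp, hle⟩ := T.basis _ (A.1.1 ⊓ B.1.1) ⟨hA, hB⟩
    exact ⟨⟨W, hW⟩, hp, hle.trans inf_le_left, hle.trans inf_le_right⟩
  choose W hW hA hB using hcov
  refine Scheme.Cover.hom_ext (Scheme.openCoverOfIsOpenCover P (fun p => (a ≫ A.1.1.ι) ⁻¹ᵁ (W p).1.1)
    (eq_top_iff.2 fun p _ => Opens.mem_iSup.2 ⟨p, hW p⟩)) _ _ fun p => ?_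
  let V : P.Opens := (a ≫ A.1.1.ι) ⁻¹ᵁ (W p).1.1
  let c : V.toScheme ⟶ (W p).1.1.toScheme := (a ≫ A.1.1.ι) ∣_ (W p).1.1
  have ha : V.ι ≫ a = c ≫ X₀.homOfLE (hA p) := by
    rw [← cancel_mono A.1.1.ι, Category.assoc, Category.assoc, Scheme.homOfLE_ι, morphismRestrict_ι]
  have hb : V.ι ≫ b = c ≫ X₀.homOfLE (hB p) := by
    rw [← cancel_mono B.1.1.ι, Category.assoc, Category.assoc, Scheme.homOfLE_ι, morphismRestrict_ι]
    exact congrArg (V.ι ≫ ·) hab.symm
  change V.ι ≫ a ≫ T.emb A ≫ T.incl A = V.ι ≫ b ≫ T.emb B ≫ T.incl B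
  rw [reassoc_of% ha, reassoc_of% hb, reassoc_of% (T.emb_map (hA p)), reassoc_of% (T.emb_map (hB p)),
    T.map_incl, T.map_incl]

theorem smooth_structHom : Smooth T.structHom := by
  refine IsZariskiLocalAtSource.of_openCover (P := @Smooth) (Scheme.IsLocallyDirected.openCover T.diagram) fun W => ?_
  change Smooth (T.incl W ≫ T.structHom)
  rw [incl_structHom]
  exact T.smooth W

theorem isPullback_reduction (j : X₀ ⟶ T.total) (hj : ∀ W : T.J, W.1.1.ι ≫ j = T.emb W ≫ T.incl W) :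
    IsPullback j f₀ T.structHom ι := by
  refine Scheme.isPullback_of_openCover j f₀ T.structHom ι (Scheme.IsLocallyDirected.openCover T.diagram) fun W => ?_
  have hpre : IsPullback W.1.1.ι (T.emb W) j (T.incl W) := by
    refine (IsOpenImmersion.isPullback (T.emb W) W.1.1.ι (T.incl W) j (hj W) ?_).flip
    refine Opens.ext (Set.ext fun x => ?_)
    simp only [Scheme.Opens.opensRange_ι, SetLike.mem_coe]
    refine ⟨?_, fun hx => ⟨T.emb W ⟨x, hx⟩, by rw [← Scheme.Hom.comp_apply, ← hj W, Scheme.Hom.comp_apply]; rfl⟩⟩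
    rintro ⟨y, hy⟩
    obtain ⟨W', hW', hxW', -⟩ := T.basis x ⊤ trivial
    have hx' : j x = T.incl ⟨W', hW'⟩ (T.emb ⟨W', hW'⟩ ⟨x, hxW'⟩) := by
      rw [← Scheme.Hom.comp_apply, ← hj ⟨W', hW'⟩, Scheme.Hom.comp_apply]; rfl
    rw [hx'] at hy
    obtain ⟨k, ki, kj, z, hz, hz'⟩ := (Scheme.IsLocallyDirected.ι_eq_ι_iff T.diagram).1 hy
    obtain ⟨z₀, rfl⟩ := (T.emb_bijective k).2 z
    have : X₀.homOfLE (leOfHom kj) z₀ = ⟨x, hxW'⟩ := by
      refine (T.emb_bijective ⟨W', hW'⟩).1 ?_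
      rw [← Scheme.Hom.comp_apply, T.emb_map, Scheme.Hom.comp_apply]
      exact hz'
    have h2 : z₀.1 = x := by simpa using congrArg Subtype.val this
    exact h2 ▸ leOfHom ki z₀.2
  let e := hpre.isoPullback
  refine IsPullback.of_iso (T.cart W) e (Iso.refl _) (Iso.refl _) (Iso.refl _) ?_ ?_ ?_ ?_
  · rw [Iso.refl_hom, Category.comp_id]
    exact hpre.isoPullback_hom_snd.symm
  · rw [Iso.refl_hom, Category.comp_id]
    exact ((congrArg (· ≫ f₀) hpre.isoPullback_hom_fst).symm.trans (Category.assoc _ _ _))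
  · rw [Iso.refl_hom, Iso.refl_hom, Category.comp_id, Category.id_comp]
    exact (T.incl_structHom W).symm
  · simp

/-- The glued thickening. -/
theorem exists_thickening (T : ThickSystem ι f₀) : ∃ (X : Scheme.{u}) (f : X ⟶ S) (j : X₀ ⟶ X), Smooth f ∧ IsPullback j f₀ f ι := by
  obtain ⟨j, hj⟩ := T.exists_reduction
  exact ⟨T.total, T.structHom, j, T.smooth_structHom, T.isPullback_reduction j hj⟩

end ThickSystem

end Groth.Agent.DefLift
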