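import Groth.Agent.DefLift.Obstruction
import Mathlib

/-!
# Twisting a retracted thickening by a cocycle of derivations
-/

set_option autoImplicit false
set_option linter.style.haveILetI false
set_option backward.isDefEq.respectTransparency false
universe u

open CategoryTheory CategoryTheory.Limits AlgebraicGeometry Opposite TopologicalSpace

noncomputable section

namespace Groth.Agent.DefLift

open Groth.Agent.QC

variable {X : Scheme.{u}}

theorem top_le_preimage {R : CommRingCat.{u}} (W : X.affineOpens) (g : Spec R ⟶ X) (r : R ⟶ Γ(X, W.1))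
    (hs : Function.Surjective (Spec.map r)) (h : Spec.map r ≫ g = W.2.fromSpec) : ⊤ ≤ g ⁻¹ᵁ W.1 := fun p _ => by
  obtain ⟨z, rfl⟩ := hs p
  change g (Spec.map r z) ∈ W.1
  rw [← Scheme.Hom.comp_apply, h]
  have : W.2.fromSpec z ∈ Set.range W.2.fromSpec := Set.mem_range_self z
  rwa [W.2.range_fromSpec] at this

/-- The ring map of a morphism from an affine scheme into an affine open. -/
def secOf {R : CommRingCat.{u}} (W : X.affineOpens) (g : Spec R ⟶ X) (hg : ⊤ ≤ g ⁻¹ᵁ W.1) : Γ(X, W.1) ⟶ R :=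
  g.appLE W.1 ⊤ hg ≫ (Scheme.ΓSpecIso _).hom

theorem specMap_secOf {R : CommRingCat.{u}} (W : X.affineOpens) (g : Spec R ⟶ X) (hg : ⊤ ≤ g ⁻¹ᵁ W.1) :
    Spec.map (secOf W g hg) ≫ W.2.fromSpec = g := by
  rw [secOf, Spec.map_comp, Category.assoc,
    IsAffineOpen.SpecMap_appLE_fromSpec g W.2 (isAffineOpen_top _) hg, IsAffineOpen.fromSpec_top, ← Category.assoc]
  simp [Scheme.isoSpec_Spec]

theorem secOf_red {R : CommRingCat.{u}} (W : X.affineOpens) (g : Spec R ⟶ X) (hg : ⊤ ≤ g ⁻¹ᵁ W.1)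
    (r : R ⟶ Γ(X, W.1)) (h : Spec.map r ≫ g = W.2.fromSpec) : secOf W g hg ≫ r = 𝟙 _ := by
  refine Spec.map_injective ?_
  rw [← cancel_mono W.2.fromSpec, Spec.map_comp, Category.assoc, specMap_secOf, h, Spec.map_id, Category.id_comp]

theorem secOf_natural {R R' : CommRingCat.{u}} {W W' : X.affineOpens} (hW : W'.1 ≤ W.1) (φ : R ⟶ R')
    (g : Spec R ⟶ X) (hg : ⊤ ≤ g ⁻¹ᵁ W.1) (g' : Spec R' ⟶ X) (hg' : ⊤ ≤ g' ⁻¹ᵁ W'.1) (h : Spec.map φ ≫ g = g') :
    secOf W g hg ≫ φ = X.presheaf.map (homOfLE hW).op ≫ secOf W' g' hg' := by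
  refine Spec.map_injective ?_
  rw [← cancel_mono W.2.fromSpec, Spec.map_comp, Spec.map_comp, Category.assoc, Category.assoc, specMap_secOf, h,
    W.2.map_fromSpec W'.2, specMap_secOf]

variable {S S₀ : Scheme.{u}} {ι : S₀ ⟶ S} [IsClosedImmersion ι] (hι : IsSqZero ι) {x : X ⟶ S₀} (β : S ⟶ S₀)

theorem secOf_base {R : CommRingCat.{u}} {g g' : Spec R ⟶ X} {W : X.affineOpens} (hg : ⊤ ≤ g ⁻¹ᵁ W.1)
    (hg' : ⊤ ≤ g' ⁻¹ᵁ W.1) (h : g ≫ x = g' ≫ x) (V : S₀.affineOpens) (e : W.1 ≤ x ⁻¹ᵁ V.1) :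
    x.appLE V.1 W.1 e ≫ secOf W g hg = x.appLE V.1 W.1 e ≫ secOf W g' hg' := by
  refine Spec.map_injective ?_
  rw [← cancel_mono V.2.fromSpec, Spec.map_comp, Spec.map_comp, Category.assoc, Category.assoc,
    IsAffineOpen.SpecMap_appLE_fromSpec x V.2 W.2 e, ← Category.assoc, ← Category.assoc, specMap_secOf, specMap_secOf, h]

variable {J : Type u} {U : J → X.Opens}

include hι in
/-- Cocycles of derivations split when every thickening retracts onto the scheme. -/
theorem split_of_retractions (P : Piece ι x ⊤) (q : ∀ (W : X.affineOpens) (hW : W.1 ≤ ⊤), Spec (P.A W hW) ⟶ X)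
    (hq₁ : ∀ W hW, Spec.map (P.red W hW) ≫ q W hW = W.2.fromSpec)
    (hq₂ : ∀ W hW, q W hW ≫ x = P.toS W hW ≫ β)
    (hq₃ : ∀ {W W' : X.affineOpens} (hW : W.1 ≤ ⊤) (h : W'.1 ≤ W.1), Spec.map (P.res hW h) ≫ q W hW = q W' (h.trans hW))
    (retr : ∀ (Y : Scheme.{u}) (f : Y ⟶ S) (j : X ⟶ Y), Smooth f → IsPullback j x f ι →
      ∃ h : Y ⟶ X, j ≫ h = 𝟙 X ∧ h ≫ x = f ≫ β)
    (hcov : ⨆ a, U a = ⊤) (D : ∀ a b, LocDer x (coeff ι x) (U a ⊓ U b))
    (hD : ∀ (a b c : J) (W : X.affineOpens) (ha : W.1 ≤ U a) (hb : W.1 ≤ U b) (hc : W.1 ≤ U c) (s : Γ(X, W.1)),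
      (D a c).app W (le_inf ha hc) s = (D a b).app W (le_inf ha hb) s + (D b c).app W (le_inf hb hc) s) :
    ∃ E : ∀ a, LocDer x (coeff ι x) (U a), ∀ (a b : J) (W : X.affineOpens) (ha : W.1 ≤ U a) (hb : W.1 ≤ U b)
      (s : Γ(X, W.1)), (D a b).app W (le_inf ha hb) s = (E b).app W hb s - (E a).app W ha s := by
  have hT : ∀ W : X.affineOpens, W.1 ≤ (⊤ : X.Opens) := fun W => le_top
  let idF : ∀ a b : J, MapFam P P (U a ⊓ U b) := fun a b =>
    { le := le_top, le' := le_top, φ := fun W _ => 𝟙 _, isMap := fun W _ => Piece.isMap_id,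
      res_φ := fun _ _ => by rw [Category.comp_id, Category.id_comp] }
  choose Ψ hΨ using fun a b => exists_sub hι (idF a b) (D a b)
  have hD0 : ∀ a W (ha : W.1 ≤ U a) s, (D a a).app W (le_inf ha ha) s = 0 := fun a W ha s =>
    add_eq_left.1 (hD a a a W ha ha ha s).symm
  have hΨ' : ∀ a b W (hW : W.1 ≤ U a ⊓ U b) s,
      (Ψ a b).φ W hW s = s - P.tau (hT W) hι ((D a b).app W hW (P.red W (hT W) s)) :=
    fun a b W hW s => hΨ a b W hW s
  have hcoc : ∀ a b c W (ha : W.1 ≤ U a) (hb : W.1 ≤ U b) (hc : W.1 ≤ U c),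
      (Ψ a b).φ W (le_inf ha hb) ≫ (Ψ b c).φ W (le_inf hb hc) = (Ψ a c).φ W (le_inf ha hc) := by
    intro a b c W ha hb hc
    ext s
    change (Ψ b c).φ W _ ((Ψ a b).φ W _ s) = (Ψ a c).φ W _ s
    rw [hΨ', hΨ', hΨ', map_sub (P.red W (hT W)).hom, P.red_tau, sub_zero, hD a b c W ha hb hc, map_add]
    abel
  have hid : ∀ a W (ha : W.1 ≤ U a), (Ψ a a).φ W (le_inf ha ha) = 𝟙 _ := by
    intro a W ha
    ext s
    change (Ψ a a).φ W _ s = s
    rw [hΨ', hD0 a W ha, map_zero, sub_zero]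
  have hiso : ∀ a b W (ha : W.1 ≤ U a) (hb : W.1 ≤ U b), IsIso ((Ψ a b).φ W (le_inf ha hb)) := fun a b W ha hb =>
    ⟨(Ψ b a).φ W (le_inf hb ha), (hcoc a b a W ha hb ha).trans (hid a W ha),
      (hcoc b a b W hb ha hb).trans (hid b W hb)⟩
  let Jset : Set X.affineOpens := {W | ∃ a, W.1 ≤ U a}
  choose idx hidx using fun W : Jset => W.2
  let T : ThickSystem ι x :=
    { J := Jset
      basis := fun z O hz => by
        obtain ⟨a, ha⟩ := Opens.mem_iSup.1 (hcov.ge (trivial : z ∈ (⊤ : X.Opens)))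
        obtain ⟨W, hW, hle⟩ := KosExt.exists_affine_le (O := O ⊓ U a) (x := z) ⟨hz, ha⟩
        exact ⟨W, ⟨a, hle.trans inf_le_right⟩, hW, hle.trans inf_le_left⟩
      R := fun W => P.A W.1 (hT _)
      ρ := fun {W W'} h => P.res (hT _) h ≫ (Ψ (idx W) (idx W')).φ W'.1 (le_inf (h.trans (hidx W)) (hidx W'))
      ρ_self := fun W => by rw [P.res_self, Category.id_comp]; exact hid _ _ (hidx W)
      ρ_trans := fun {W W' W''} h h' => by
        simp only [Category.assoc]
        rw [← reassoc_of% ((Ψ (idx W) (idx W')).res_φ (le_inf (h.trans (hidx W)) (hidx W')) h'),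
          reassoc_of% (P.res_trans (hT W.1) h h'),
          hcoc (idx W) (idx W') (idx W'') W''.1 ((h'.trans h).trans (hidx W)) (h'.trans (hidx W')) (hidx W'')]
      red := fun W => P.red W.1 (hT _)
      red_surjective := fun W => P.red_surjective _ _
      red_nil := fun W => P.red_nil _ _
      ρ_red := fun {W W'} h => by
        rw [Category.assoc, ((Ψ (idx W) (idx W')).isMap _ _).red, P.res_red (hT _) h]
      isOpenImmersion := fun {W W'} h => by
        haveI := P.isOpenImmersion (hT W.1) h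
        haveI := hiso (idx W) (idx W') W'.1 (h.trans (hidx W)) (hidx W')
        rw [Spec.map_comp]
        infer_instance
      toS := fun W => P.toS W.1 (hT _)
      toS_ρ := fun {W W'} h => by
        rw [Spec.map_comp, Category.assoc, P.toS_res (hT _) h, ((Ψ (idx W) (idx W')).isMap _ _).toS]
      smooth := fun W => P.smooth _ _
      cart := fun W => P.cart _ _ }
  obtain ⟨j, hj⟩ := T.exists_reduction
  obtain ⟨h, hjh, hhx⟩ := retr T.total T.structHom j T.smooth_structHom (T.isPullback_reduction j hj)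
  let g : ∀ W : T.J, Spec (T.R W) ⟶ X := fun W => T.incl W ≫ h
  have hg₁ : ∀ W : T.J, Spec.map (T.red W) ≫ g W = W.1.2.fromSpec := fun W => by
    rw [← cancel_epi W.1.2.isoSpec.hom, IsAffineOpen.isoSpec_hom, IsAffineOpen.toSpecΓ_fromSpec,
      ← IsAffineOpen.isoSpec_hom, ← Category.assoc]
    change (T.emb W) ≫ T.incl W ≫ h = _
    rw [← Category.assoc, ← hj W, Category.assoc, hjh, Category.comp_id]
  have hg₂ : ∀ W : T.J, g W ≫ x = P.toS W.1 (hT _) ≫ β := fun W => by
    rw [Category.assoc, hhx, ← Category.assoc, T.incl_structHom]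
  have hgT : ∀ W : T.J, ⊤ ≤ g W ⁻¹ᵁ W.1.1 := fun W =>
    top_le_preimage W.1 (g W) (T.red W) (P.specMap_red_surjective W.1 (hT _)) (hg₁ W)
  have hqT : ∀ W : X.affineOpens, ⊤ ≤ q W (hT W) ⁻¹ᵁ W.1 := fun W =>
    top_le_preimage W (q W (hT W)) (P.red W (hT W)) (P.specMap_red_surjective W (hT W)) (hq₁ W (hT W))
  let σ : ∀ W : T.J, Γ(X, W.1.1) ⟶ P.A W.1 (hT _) := fun W => secOf W.1 (g W) (hgT W)
  let s₀ : ∀ W : X.affineOpens, Γ(X, W.1) ⟶ P.A W (hT W) := fun W => secOf W (q W (hT W)) (hqT W)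
  have hσr : ∀ (W : T.J) y, P.red W.1 (hT _) (σ W y) = y := fun W y =>
    congr($(secOf_red W.1 (g W) (hgT W) (T.red W) (hg₁ W)) y)
  have hs₀r : ∀ (W : X.affineOpens) y, P.red W (hT _) (s₀ W y) = y := fun W y =>
    congr($(secOf_red W (q W (hT W)) (hqT W) (P.red W (hT W)) (hq₁ W (hT W))) y)
  choose e he using fun (W : T.J) (y : Γ(X, W.1.1)) =>
    (P.red_eq_zero_iff (hT W.1) hι (σ W y - s₀ W.1 y)).1 (by rw [map_sub, hσr, hs₀r, sub_self])
  have hinj := fun W : X.affineOpens => P.tau_injective (W := W) (hT W) hι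
  have he_add : ∀ W y z, e W (y + z) = e W y + e W z := fun W y z => hinj W.1 (by
    rw [he, map_add, map_add, map_add, he, he]; abel)
  have he_mul : ∀ W y z, e W (y * z) = y • e W z + z • e W y := fun W y z => hinj W.1 (by
    have s1 : ∀ m, P.tau (hT W.1) hι (y • m) = σ W y * P.tau (hT W.1) hι m :=
      fun m => by rw [← P.tau_smul, hσr]
    have s2 : ∀ m, P.tau (hT W.1) hι (z • m) = s₀ W.1 z * P.tau (hT W.1) hι m :=
      fun m => by rw [← P.tau_smul, hs₀r]
    rw [he, map_add, s1, s2, he, he, map_mul, map_mul]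
    ring)
  have he_base : ∀ (W : T.J) (V : S₀.affineOpens) (hV : W.1.1 ≤ x ⁻¹ᵁ V.1) c, e W (x.appLE V.1 W.1.1 hV c) = 0 :=
    fun W V hV c => hinj W.1 (by
      rw [he, map_zero, sub_eq_zero]
      exact congr($(secOf_base (hgT W) (hqT W.1) (by rw [hg₂, hq₂]) V hV) c))
  have he_res : ∀ {W W' : T.J} (hle : W'.1.1 ≤ W.1.1) y, e W' (resO X hle y) =
      res (coeff ι x) hle (e W y) - (D (idx W) (idx W')).app W'.1 (le_inf (hle.trans (hidx W)) (hidx W')) (resO X hle y) :=
    fun {W W'} hle y => hinj W'.1 (by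
      have h1 : T.ρ hle (σ W y) = σ W' (resO X hle y) :=
        congr($(secOf_natural hle (T.ρ hle) (g W) (hgT W) (g W') (hgT W') (by rw [← Category.assoc, T.map_incl])) y)
      have h2 : P.res (hT W.1) hle (s₀ W.1 y) = s₀ W'.1 (resO X hle y) :=
        congr($(secOf_natural hle (P.res (hT W.1) hle) (q W.1 (hT _)) (hqT W.1) (q W'.1 (hT _)) (hqT W'.1)
          (hq₃ (hT W.1) hle)) y)
      have h3 : T.ρ hle (σ W y) = P.res (hT W.1) hle (σ W y) -
          P.tau (hT W'.1) hι ((D (idx W) (idx W')).app W'.1 (le_inf (hle.trans (hidx W)) (hidx W')) (resO X hle y)) := by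
        refine (hΨ' _ _ _ _ _).trans ?_
        have : P.red W'.1 (hT _) (P.res (hT W.1) hle (σ W y)) = resO X hle y :=
          (congr($(P.res_red (hT W.1) hle) (σ W y))).trans (congrArg (resO X hle) (hσr W y))
        exact congrArg (fun t => P.res (hT W.1) hle (σ W y) - P.tau (hT W'.1) hι
          ((D (idx W) (idx W')).app W'.1 (le_inf (hle.trans (hidx W)) (hidx W')) t)) this
      rw [he, map_sub, ← P.res_tau (hW := hT W.1), he, map_sub, h2, ← h1, h3]
      abel)
  let mem : ∀ {a : J} (W : X.affineOpens), W.1 ≤ U a → T.J := fun {a} W hW => ⟨W, ⟨a, hW⟩⟩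
  refine ⟨fun a =>
    { app := fun W hW => AddMonoidHom.mk'
        (fun y => -(e (mem W hW) y + (D a (idx (mem W hW))).app W (le_inf hW (hidx (mem W hW))) y))
        fun y z => by rw [he_add, map_add]; abel
      app_mul := fun W hW y z => by
        change -(_ + _) = _ • -(_ + _) + _ • -(_ + _)
        rw [he_mul, (D a _).app_mul, smul_neg, smul_neg, smul_add, smul_add]
        abel
      app_base := fun W hW V eV c => by
        change -(_ + _) = 0
        rw [he_base (mem W hW) V eV, (D a _).app_base W _ V eV, add_zero, neg_zero]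
      res_app := fun W W' hW hle y => by
        change res _ hle (-(_ + _)) = -(_ + _)
        rw [map_neg, map_add, he_res (W := mem W hW) (W' := mem W' (hle.trans hW)) hle,
          (D a _).res_app W W', hD a (idx (mem W hW)) (idx (mem W' (hle.trans hW))) W' (hle.trans hW)
            (hle.trans (hidx (mem W hW))) (hidx (mem W' (hle.trans hW)))]
        abel }, fun a b W ha hb y => ?_⟩
  change _ = -(e (mem W ha) y + (D b (idx (mem W ha))).app W _ y) - -(e (mem W ha) y + _)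
  rw [hD a b (idx (mem W ha)) W ha hb (hidx (mem W ha))]
  abel

end Groth.Agent.DefLift
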