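import Groth.Agent.DefLift.TwistData
import Groth.Agent.DefLift.Coord
import Groth.Agent.DefLift.Twist
import Groth.Agent.DefLift.Extend2
import Mathlib

/-!
# First order deformations of a smooth scheme and cocycles of derivations
-/

set_option autoImplicit false
set_option linter.style.haveILetI false
set_option backward.isDefEq.respectTransparency false
set_option synthInstance.maxHeartbeats 400000
set_option maxHeartbeats 1600000
set_option linter.unusedSectionVars false
universe u

open CategoryTheory CategoryTheory.Limits AlgebraicGeometry Opposite TopologicalSpace TensorProduct Abelian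

noncomputable section

namespace Groth.Agent.DefLift

open Groth.Agent.QC Groth.Agent.CechShRes ArtFun ArtFun.Art Groth.Agent.DefFun Groth.Agent.ArtKit

variable (k : Type u) [Field k] (X : Scheme.{u}) [X.Over (Spec (CommRingCat.of k))]

attribute [local instance] algSec

/-- The cover by all affine opens. -/
abbrev affCov : X.affineOpens → X.Opens := fun W => W.1

/-- The Čech complex of the structure sheaf on all affine opens. -/
abbrev affCech : CochainComplex X.Modules ℕ := (CechOX.cechSh (affCov X)).obj (Coh.structureModule X)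

/-- Maps from differentials to one cocycles. -/
abbrev cocHom : Submodule k (Omega.sheaf (X ↘ Spec (CommRingCat.of k)) ⟶ (affCech X).X 1) :=
  LinearMap.ker (Linear.rightComp k _ ((affCech X).d 1 2))

variable {k X}

theorem fromSpec_over (W : X.affineOpens) :
    W.2.fromSpec ≫ (X ↘ Spec (CommRingCat.of k)) =
      Spec.map (CommRingCat.ofHom (str (X ↘ Spec (CommRingCat.of k)) W.1)) := by
  rw [← cancel_epi W.2.isoSpec.hom, isoSpec_specStr, ← Category.assoc, IsAffineOpen.isoSpec_hom,
    IsAffineOpen.toSpecΓ_fromSpec]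

variable [IsSeparated (X ↘ Spec (CommRingCat.of k))]

/-- The derivation of a coordinate. -/
def coordD {n : ℕ} (φ : Omega.sheaf (X ↘ Spec (CommRingCat.of k)) ⟶ (affCech X).X n)
    (a : Fin (n + 1) → X.affineOpens) (O : X.Opens) (hO : ∀ i, O ≤ (a i).1) :
    LocDer (X ↘ Spec (CommRingCat.of k)) (Coh.structureModule X) O :=
  ((coordLoc (affCov X) φ a).restrict (le_iInf hO)).toDer

/-- The value of the derivation of a coordinate. -/
def coordV {n : ℕ} (φ : Omega.sheaf (X ↘ Spec (CommRingCat.of k)) ⟶ (affCech X).X n)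
    (a : Fin (n + 1) → X.affineOpens) (W : X.affineOpens) (hW : W.1 ≤ ⨅ i, (a i).1) (s : Γ(X, W.1)) : Γ(X, W.1) :=
  (coordLoc (affCov X) φ a).app W hW (OmegaSh.dSect (X ↘ Spec (CommRingCat.of k)) W.1 s)

theorem coordD_app {n : ℕ} (φ : Omega.sheaf (X ↘ Spec (CommRingCat.of k)) ⟶ (affCech X).X n)
    (a : Fin (n + 1) → X.affineOpens) (O : X.Opens) (hO : ∀ i, O ≤ (a i).1) (W : X.affineOpens) (hW : W.1 ≤ O)
    (s : Γ(X, W.1)) :
    derOf (coordD φ a O hO) W hW s = coordV φ a W (hW.trans (le_iInf hO)) s := rfl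

theorem coordV_congr {n : ℕ} (φ : Omega.sheaf (X ↘ Spec (CommRingCat.of k)) ⟶ (affCech X).X n)
    {a b : Fin (n + 1) → X.affineOpens} (hab : a = b) (W : X.affineOpens) (hW : W.1 ≤ ⨅ i, (a i).1)
    (hW' : W.1 ≤ ⨅ i, (b i).1) (s : Γ(X, W.1)) : coordV φ a W hW s = coordV φ b W hW' s :=
  coordLoc_congr (affCov X) φ hab W hW hW' _

theorem coordV_d {n : ℕ} (b : Omega.sheaf (X ↘ Spec (CommRingCat.of k)) ⟶ (affCech X).X n)
    (a : Fin (n + 2) → X.affineOpens) (W : X.affineOpens) (hW : W.1 ≤ ⨅ i, (a i).1) (s : Γ(X, W.1)) :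
    coordV (b ≫ (affCech X).d n (n + 1)) a W hW s = ∑ l : Fin (n + 2), (-1 : ℤ) ^ (l : ℕ) •
      coordV b (a ∘ l.succAbove) W (hW.trans (le_iInf fun i => iInf_le _ (l.succAbove i))) s :=
  app_d (affCov X) b a W hW _

theorem coordV_add {n : ℕ} (φ ψ : Omega.sheaf (X ↘ Spec (CommRingCat.of k)) ⟶ (affCech X).X n)
    (a : Fin (n + 1) → X.affineOpens) (W : X.affineOpens) (hW : W.1 ≤ ⨅ i, (a i).1) (s : Γ(X, W.1)) :
    coordV (φ + ψ) a W hW s = coordV φ a W hW s + coordV ψ a W hW s := by
  change res (Coh.structureModule X) _ (coord (affCov X) (Coh.structureModule X) ((φ + ψ).app W.1 _) a) = _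
  rw [show (φ + ψ).app W.1 (OmegaSh.dSect (X ↘ Spec (CommRingCat.of k)) W.1 s) =
    φ.app W.1 (OmegaSh.dSect (X ↘ Spec (CommRingCat.of k)) W.1 s) +
      ψ.app W.1 (OmegaSh.dSect (X ↘ Spec (CommRingCat.of k)) W.1 s) from rfl, coord_add, map_add]
  rfl

theorem coordV_zero {n : ℕ} (a : Fin (n + 1) → X.affineOpens) (W : X.affineOpens) (hW : W.1 ≤ ⨅ i, (a i).1)
    (s : Γ(X, W.1)) :
    coordV (0 : Omega.sheaf (X ↘ Spec (CommRingCat.of k)) ⟶ (affCech X).X n) a W hW s = 0 := by
  change res (Coh.structureModule X) _ (coord (affCov X) (Coh.structureModule X) (0 : Γ((affCech X).X n, W.1)) a) = _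
  rw [coord_zero, map_zero]

theorem coordV_smul {n : ℕ} (r : k) (φ : Omega.sheaf (X ↘ Spec (CommRingCat.of k)) ⟶ (affCech X).X n)
    (a : Fin (n + 1) → X.affineOpens) (W : X.affineOpens) (hW : W.1 ≤ ⨅ i, (a i).1) (s : Γ(X, W.1)) :
    coordV (r • φ) a W hW s = r • coordV φ a W hW s := by
  let hle := cut_eq (affCov X) fun i => hW.trans (iInf_le _ i)
  change res (Coh.structureModule X) hle (coord (affCov X) (Coh.structureModule X) ((r • φ).app W.1 _) a) = _
  rw [KLin.smul_app_apply, coord,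
    show ∀ (z : Γ(X, W.1)) (m : Γ((affCech X).X n, W.1)),
        (Pi.π (term (affCov X) (Coh.structureModule X)) a).app W.1 (z • m) =
          z • (Pi.π (term (affCov X) (Coh.structureModule X)) a).app W.1 m from
      fun z m => Scheme.Modules.Hom.app_smul _ z m]
  refine ((congrArg (res (Coh.structureModule X) hle) (term_smul (affCov X) a W.1 _ _)).trans
    (res_smul _ _ _ _)).trans ?_
  rw [resO_resO, resO_self, Algebra.smul_def]
  rfl

/-- Maps to the Čech complex are equal when their derivations are. -/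
theorem hom_ext_coordV {n : ℕ}
    {φ ψ : Omega.sheaf (X ↘ Spec (CommRingCat.of k)) ⟶ (affCech X).X n}
    (h : ∀ (a : Fin (n + 1) → X.affineOpens) (W : X.affineOpens) (hW : W.1 ≤ ⨅ i, (a i).1) (s : Γ(X, W.1)),
      coordV φ a W hW s = coordV ψ a W hW s) : φ = ψ := by
  refine KosExt.hom_ext_affine fun V m => (coord_bijective (affCov X) _ n V.1).1 (funext fun a =>
    section_eq_of_locally fun z hz => ?_)
  obtain ⟨W, hzW, hW⟩ := KosExt.exists_affine_le hz
  refine ⟨W.1, hW, hzW, ?_⟩
  have hWi : W.1 ≤ ⨅ i, (a i).1 := hW.trans (cut_le_inf _ _ a)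
  have hWV : W.1 ≤ V.1 := hW.trans (cut_le _ _ a)
  have hlin := linear_ext_dSect W ⟨⊤, isAffineOpen_top _⟩ le_top
    (φ := (coordLoc (affCov X) φ a).app W hWi) (ψ := (coordLoc (affCov X) ψ a).app W hWi) (h a W hWi)
  have key : ∀ χ : Omega.sheaf (X ↘ Spec (CommRingCat.of k)) ⟶ (affCech X).X n,
      res (Coh.structureModule X) hW (coord (affCov X) _ (χ.app V.1 m) a) =
        (coordLoc (affCov X) χ a).app W hWi (res _ hWV m) := fun χ => by
    change _ = res _ _ (coord (affCov X) _ (χ.app W.1 (res _ hWV m)) a)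
    rw [← coord_app_res (affCov X) χ a hWV m, res_res]
  rw [key, key, hlin]

/-- The cocycle of a map to the Čech complex killed by the differential. -/
def cocOf (c : cocHom k X) : Cocyc (k := k) X where
  D a b := coordD c.1 ![a, b] _ fun i => by fin_cases i; exacts [inf_le_left, inf_le_right]
  cocyc a b c' W ha hb hc s := by
    have hW : W.1 ≤ ⨅ i, (affCov X) (![a, b, c'] i) := le_iInf_three (affCov X) ha hb hc
    have h := coordV_zero (k := k) ![a, b, c'] W hW s
    have hc0 : (c.1 ≫ (affCech X).d 1 2) = 0 := c.2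
    rw [← hc0, coordV_d, Fin.sum_univ_three] at h
    simp only [Fin.val_zero, Fin.val_one, Fin.val_two, pow_zero, pow_one, neg_one_sq, one_zsmul, neg_smul] at h
    rw [coordV_congr c.1 (succAbove_three_zero ![a, b, c']) W _ (le_iInf_two (affCov X) hb hc),
      coordV_congr c.1 (succAbove_three_one ![a, b, c']) W _ (le_iInf_two (affCov X) ha hc),
      coordV_congr c.1 (succAbove_three_two ![a, b, c']) W _ (le_iInf_two (affCov X) ha hb)] at h
    change coordV c.1 ![a, c'] W (le_iInf_two (affCov X) ha hc) s =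
      coordV c.1 ![a, b] W (le_iInf_two (affCov X) ha hb) s + coordV c.1 ![b, c'] W (le_iInf_two (affCov X) hb hc) s
    rw [← sub_eq_zero, ← neg_eq_zero]
    refine Eq.trans ?_ h
    simp only [Matrix.cons_val_zero, Matrix.cons_val_one, Matrix.cons_val]
    abel

theorem cocOf_app (c : cocHom k X) (a b W : X.affineOpens) (hW : W.1 ≤ a.1 ⊓ b.1) (s : Γ(X, W.1)) :
    derOf ((cocOf c).D a b) W hW s =
      coordV c.1 ![a, b] W (le_iInf_two (affCov X) (hW.trans inf_le_left) (hW.trans inf_le_right)) s := rfl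

theorem cocDer_add {W W' : X.affineOpens} (h : W'.1 ≤ W.1) (c c' : cocHom k X) (l : Fin 1) (s : Γ(X, W'.1)) :
    cocDer (fun _ : Fin 1 => cocOf (c + c')) h l s =
      cocDer (fun _ : Fin 1 => cocOf c) h l s + cocDer (fun _ : Fin 1 => cocOf c') h l s :=
  coordV_add c.1 c'.1 _ W' (le_iInf_two (affCov X) h le_rfl) s

theorem cocDer_smul {W W' : X.affineOpens} (h : W'.1 ≤ W.1) (r : k) (c : cocHom k X) (l : Fin 1) (s : Γ(X, W'.1)) :
    cocDer (fun _ : Fin 1 => cocOf (r • c)) h l s = r • cocDer (fun _ : Fin 1 => cocOf c) h l s :=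
  coordV_smul r c.1 _ W' (le_iInf_two (affCov X) h le_rfl) s

theorem cocDer_zero {W W' : X.affineOpens} (h : W'.1 ≤ W.1) (l : Fin 1) (s : Γ(X, W'.1)) :
    cocDer (fun _ : Fin 1 => cocOf (0 : cocHom k X)) h l s = 0 :=
  coordV_zero _ W' (le_iInf_two (affCov X) h le_rfl) s

/-- The class of `ε`. -/
abbrev eps : (Art.dual k k : Art k k) := (DualNumber.eps : DualNumber k)

theorem eps_mul : ∀ i j : Fin 1, (fun _ : Fin 1 => eps (k := k)) i * (fun _ : Fin 1 => eps) j = 0 :=
  fun _ _ => dual_sqzero _ _ rfl rfl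

theorem res_eps : ∀ l : Fin 1, (Art.dual k k).res ((fun _ : Fin 1 => eps (k := k)) l) = 0 := fun _ => rfl

theorem dual2_sqzero (a b : (Art.dual2 k k : Art k k)) (ha : (Art.dual2 k k).res a = 0)
    (hb : (Art.dual2 k k).res b = 0) : a * b = 0 := by
  let a' : TrivSqZeroExt k (k × k) := a
  let b' : TrivSqZeroExt k (k × k) := b
  have ha' : a'.fst = 0 := ha
  have hb' : b'.fst = 0 := hb
  show a' * b' = 0
  exact TrivSqZeroExt.ext (by simp [ha', hb']) (by simp [ha', hb'])

/-- The `ε`-part. -/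
def sndDual : (Art.dual k k : Art k k) →ₗ[k] k where
  toFun a := (show DualNumber k from a).snd
  map_add' _ _ := rfl
  map_smul' _ _ := rfl

/-- The coordinate of a function on a trivial first order deformation. -/
def sndC (W : X.affineOpens) : Ten (Art.dual k k) W →ₗ[k] Γ(X, W.1) :=
  (TensorProduct.rid k Γ(X, W.1)).toLinearMap ∘ₗ
    LinearMap.lTensor Γ(X, W.1) sndDual

theorem sndC_tmul (W : X.affineOpens) (s : Γ(X, W.1)) (a : Art.dual k k) :
    sndC W (s ⊗ₜ[k] a) = (show DualNumber k from a).snd • s :=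
  TensorProduct.rid_tmul s (sndDual a)

theorem eq_red_add (W : X.affineOpens) (z : Ten (Art.dual k k) W) :
    z = tenRed _ W z ⊗ₜ[k] (1 : Art.dual k k) + sndC W z ⊗ₜ[k] eps := by
  induction z using TensorProduct.induction_on with
  | zero => simp
  | tmul s a =>
    rw [tenRed_tmul, sndC_tmul, mul_comm, ← Algebra.smul_def, smul_tmul, smul_tmul, ← tmul_add]
    congr 1
    let a' : DualNumber k := a
    change a' = a'.fst • (1 : DualNumber k) + a'.snd • (DualNumber.eps : DualNumber k)
    refine TrivSqZeroExt.ext ?_ ?_ <;> simp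
  | add z w hz hw =>
    rw [map_add, map_add, add_tmul, add_tmul]
    nth_rewrite 1 [hz]
    nth_rewrite 1 [hw]
    abel

theorem sndC_mk (W : X.affineOpens) (s c : Γ(X, W.1)) :
    sndC W (s ⊗ₜ[k] (1 : Art.dual k k) + c ⊗ₜ[k] eps) = c := by
  rw [map_add, sndC_tmul, sndC_tmul]
  change (1 : DualNumber k).snd • s + (DualNumber.eps : DualNumber k).snd • c = c
  simp

section Class

variable [Smooth (X ↘ Spec (CommRingCat.of k))]

/-- The class of the deformation of a cocycle. -/
def clOf (c : cocHom k X) : (defFunctor X (X ↘ Spec (CommRingCat.of k))).obj (Art.dual k k) :=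
  twCl (fun _ : Fin 1 => eps) eps_mul res_eps fun _ => cocOf c

/-- The retraction of the deformation of the zero cocycle. -/
theorem exists_retract_zero :
    ∃ r : (twLoc (fun _ : Fin 1 => eps (k := k)) eps_mul res_eps fun _ => cocOf (0 : cocHom k X)).toDef.total ⟶ X,
      ∀ W : X.affineOpens,
        (twLoc (fun _ : Fin 1 => eps (k := k)) eps_mul res_eps fun _ => cocOf (0 : cocHom k X)).chart W ≫ r =
          Spec.map (CommRingCat.ofHom (Algebra.TensorProduct.includeLeft (R := k) (S := k) (A := Γ(X, W.1))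
            (B := Art.dual k k)).toRingHom) ≫ W.2.fromSpec := by
  let L := twLoc (fun _ : Fin 1 => eps (k := k)) eps_mul res_eps fun _ => cocOf (0 : cocHom k X)
  let c : ∀ W : X.affineOpens, Spec (CommRingCat.of (Ten (Art.dual k k) W)) ⟶ X := fun W =>
    Spec.map (CommRingCat.ofHom (Algebra.TensorProduct.includeLeft (R := k) (S := k) (A := Γ(X, W.1))
      (B := Art.dual k k)).toRingHom) ≫ W.2.fromSpec
  refine ⟨colimit.desc L.system.diagram (Cocone.mk X
    { app := fun W => c W.1
      naturality := fun W' W h => ?_ }), fun W => colimit.ι_desc _ _⟩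
  refine Eq.trans ?_ (Category.comp_id _).symm
  change Spec.map (CommRingCat.ofHom (L.ρ (leOfHom h)).toRingHom) ≫ c W.1 = c W'.1
  have e : CommRingCat.ofHom (Algebra.TensorProduct.includeLeft (R := k) (S := k) (A := Γ(X, W.1.1))
      (B := Art.dual k k)).toRingHom ≫ CommRingCat.ofHom (L.ρ (leOfHom h)).toRingHom =
      X.presheaf.map (homOfLE (leOfHom h : W'.1.1 ≤ W.1.1)).op ≫
        CommRingCat.ofHom (Algebra.TensorProduct.includeLeft (R := k) (S := k) (A := Γ(X, W'.1.1))
          (B := Art.dual k k)).toRingHom := by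
    ext s
    change L.ρ (leOfHom h : W'.1.1 ≤ W.1.1) (s ⊗ₜ[k] 1) = resO X (leOfHom h : W'.1.1 ≤ W.1.1) s ⊗ₜ[k] 1
    rw [twLoc_ρ, resT_tmul, tw_zero]
    exact fun l t => cocDer_zero _ l t
  simp only [c]
  rw [← Category.assoc, ← Spec.map_comp, e, Spec.map_comp, Category.assoc, W.1.2.map_fromSpec W'.1.2]

/-- Cocycles whose deformation is trivial split. -/
theorem exists_split_of_clOf_eq (c : cocHom k X) (h : clOf c = clOf (0 : cocHom k X)) :
    ∃ b : Omega.sheaf (X ↘ Spec (CommRingCat.of k)) ⟶ (affCech X).X 0, b ≫ (affCech X).d 0 1 = c.1 := by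
  let x := X ↘ Spec (CommRingCat.of k)
  obtain ⟨δ⟩ := Quotient.exact (s := DefSch.setoid X x _) h
  obtain ⟨r, hr⟩ := exists_retract_zero (k := k) (X := X)
  let L := twLoc (fun _ : Fin 1 => eps (k := k)) eps_mul res_eps fun _ => cocOf c
  let L₀ := twLoc (fun _ : Fin 1 => eps (k := k)) eps_mul res_eps fun _ => cocOf (0 : cocHom k X)
  have hri : L₀.toDef.i ≫ r = 𝟙 X := by
    refine Scheme.Cover.hom_ext (Scheme.openCoverOfIsOpenCover X (fun W : X.affineOpens => W.1)
      (iSup_affineOpens_eq_top X)) _ _ fun (W : X.affineOpens) => ?_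
    change W.1.ι ≫ L₀.toDef.i ≫ r = W.1.ι ≫ 𝟙 X
    have e : CommRingCat.ofHom (Algebra.TensorProduct.includeLeft (R := k) (S := k) (A := Γ(X, W.1))
        (B := Art.dual k k)).toRingHom ≫ CommRingCat.ofHom (tenRed (Art.dual k k) W).toRingHom = 𝟙 _ := by
      ext s
      exact tenRed_inl _ W s
    rw [← Category.assoc, L₀.ι_i, Category.assoc, hr, Category.assoc, ← Category.assoc (Spec.map _),
      ← Spec.map_comp, e, Spec.map_id]
    erw [Category.id_comp]
    rw [Category.comp_id, IsAffineOpen.isoSpec_hom, IsAffineOpen.toSpecΓ_fromSpec]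
  have hrx : r ≫ x = L₀.toDef.f ≫ Spec.map (CommRingCat.ofHom (algebraMap k (Art.dual k k))) := by
    refine colimit.hom_ext fun W => ?_
    change L₀.chart W.1 ≫ r ≫ x = L₀.chart W.1 ≫ L₀.toDef.f ≫ _
    rw [← Category.assoc, hr, ← Category.assoc (L₀.chart W.1), L₀.chart_f, ← (isPullback_ten _ W.1).w,
      Category.assoc, fromSpec_over]
  let g : ∀ W : X.affineOpens, Spec (CommRingCat.of (Ten (Art.dual k k) W)) ⟶ X :=
    fun W => L.chart W ≫ δ.iso.hom ≫ r
  have hg₁ : ∀ W, Spec.map (CommRingCat.ofHom (tenRed _ W).toRingHom) ≫ g W = W.2.fromSpec := fun W => by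
    simp only [g]
    rw [← Category.assoc, ← L.fromSpec_i, Category.assoc, ← Category.assoc L.toDef.i,
      show L.toDef.i ≫ δ.iso.hom = L₀.toDef.i from δ.i_hom, hri, Category.comp_id]
  have hsurj : ∀ W : X.affineOpens,
      Function.Surjective (Spec.map (CommRingCat.ofHom (tenRed (Art.dual k k) W).toRingHom)) := fun W p => by
    obtain ⟨q, hq⟩ := (L.system.emb_bijective ⟨W, trivial⟩).2 p
    exact ⟨W.2.isoSpec.hom q, (Scheme.Hom.comp_apply _ _ q).symm.trans hq⟩
  have hgW : ∀ W, ⊤ ≤ g W ⁻¹ᵁ W.1 := fun W =>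
    top_le_preimage W (g W) (CommRingCat.ofHom (tenRed _ W).toRingHom) (hsurj W) (hg₁ W)
  let σ : ∀ W : X.affineOpens, Γ(X, W.1) ⟶ CommRingCat.of (Ten (Art.dual k k) W) := fun W => secOf W (g W) (hgW W)
  have hσr : ∀ W s, tenRed _ W (σ W s) = s := fun W s =>
    congr($(secOf_red W (g W) (hgW W) (CommRingCat.ofHom (tenRed _ W).toRingHom) (hg₁ W)) s)
  let e : ∀ W : X.affineOpens, Γ(X, W.1) → Γ(X, W.1) := fun W s => sndC W (σ W s)
  have hσe : ∀ W s, σ W s = s ⊗ₜ[k] (1 : Art.dual k k) + e W s ⊗ₜ[k] eps := fun W s => by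
    have := eq_red_add W (σ W s)
    rwa [hσr] at this
  have hσ_str : ∀ W (c : k), σ W (str x W.1 c) = 1 ⊗ₜ[k] algebraMap k (Art.dual k k) c := fun W c => by
    let g' : Spec (CommRingCat.of (Ten (Art.dual k k) W)) ⟶ X :=
      Spec.map (CommRingCat.ofHom (Algebra.TensorProduct.includeLeft (R := k) (S := k) (A := Γ(X, W.1))
        (B := Art.dual k k)).toRingHom) ≫ W.2.fromSpec
    have hg' : ⊤ ≤ g' ⁻¹ᵁ W.1 := fun p _ => by
      change g' p ∈ W.1
      simp only [g', Scheme.Hom.comp_apply]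
      have := Set.mem_range_self (f := W.2.fromSpec)
        (Spec.map (CommRingCat.ofHom (Algebra.TensorProduct.includeLeft (R := k) (S := k) (A := Γ(X, W.1))
          (B := Art.dual k k)).toRingHom) p)
      rwa [W.2.range_fromSpec] at this
    have hgx : g W ≫ x = g' ≫ x := by
      simp only [g, g', Category.assoc]
      rw [hrx, ← Category.assoc δ.iso.hom,
        show δ.iso.hom ≫ L₀.toDef.f = L.toDef.f from δ.hom_f, ← Category.assoc, L.chart_f, ← (isPullback_ten _ W).w]
      rw [fromSpec_over]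
    have h1 := congr($(secOf_base (hgW W) hg' hgx ⟨⊤, isAffineOpen_top _⟩ le_top)
      ((Scheme.ΓSpecIso (CommRingCat.of k)).inv c))
    have h2 : secOf W g' hg' = CommRingCat.ofHom (Algebra.TensorProduct.includeLeft (R := k) (S := k)
        (A := Γ(X, W.1)) (B := Art.dual k k)).toRingHom := by
      refine Spec.map_injective ?_
      rw [← cancel_mono W.2.fromSpec, specMap_secOf]
    rw [h2] at h1
    refine h1.trans ?_
    change (algebraMap k Γ(X, W.1) c) ⊗ₜ[k] (1 : Art.dual k k) = _
    rw [Algebra.algebraMap_eq_smul_one, smul_tmul, ← Algebra.algebraMap_eq_smul_one]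
  have he_add : ∀ W s t, e W (s + t) = e W s + e W t := fun W s t => by simp only [e, map_add]
  have he_mul : ∀ W s t, e W (s * t) = s * e W t + t * e W s := fun W s t => by
    have hm : σ W (s * t) = (s * t) ⊗ₜ[k] (1 : Art.dual k k) + (s * e W t + t * e W s) ⊗ₜ[k] eps := by
      rw [map_mul, hσe, hσe, mul_add, add_mul, add_mul, tmul_mul, tmul_mul, tmul_mul, tmul_mul, mul_one, one_mul,
        eps_mul 0 0, tmul_zero, add_tmul, mul_comm (e W s) t, mul_one]
      abel
    simp only [e]
    rw [hm, sndC_mk]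
  have he_base : ∀ W (c : k), e W (str x W.1 c) = 0 := fun W c => by
    simp only [e]
    rw [hσ_str, sndC_tmul]
    change (algebraMap k (DualNumber k) c).snd • _ = 0
    rw [show (algebraMap k (DualNumber k) c).snd = 0 from rfl, zero_smul]
  have he_res : ∀ {W W' : X.affineOpens} (hle : W'.1 ≤ W.1) s,
      e W' (resO X hle s) = resO X hle (e W s) + cocDer (fun _ : Fin 1 => cocOf c) hle 0 (resO X hle s) := by
    intro W W' hle s
    have h1 : L.ρ hle (σ W s) = σ W' (resO X hle s) :=
      congr($(secOf_natural hle (CommRingCat.ofHom (L.ρ hle).toRingHom) (g W) (hgW W) (g W') (hgW W') (by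
        simp only [g]
        rw [← Category.assoc, L.chart_res])) s)
    simp only [e]
    rw [← h1, hσe, twLoc_ρ, map_add, resT_tmul, resT_tmul, map_add, tw_tmul, tw_tmul, Fin.sum_univ_one,
      Fin.sum_univ_one, mul_one, eps_mul 0 0, tmul_zero, add_zero, add_assoc, ← add_tmul, sndC_mk,
      add_comm]
    simp only [e]
    rw [sndC_mk]
  let E : ∀ a : X.affineOpens, LocDer x (Coh.structureModule X) a.1 := fun a =>
    { app := fun W hW => AddMonoidHom.mk' (fun s => (e W s - derOf ((cocOf c).D a W) W (le_inf hW le_rfl) s :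
          Γ(X, W.1))) fun s t => by
        simp only [he_add, map_add]
        abel
      app_mul := fun W hW s t => by
        change e W (s * t) - derOf _ W _ (s * t) = s * (_ - _) + t * (_ - _)
        rw [he_mul, Derivation.leibniz, smul_eq_mul, smul_eq_mul]
        ring
      app_base := fun W hW V eV cc => by
        obtain ⟨c', hc'⟩ : ∃ c' : k, str x W.1 c' = x.appLE V.1 W.1 eV cc := by
          have hVtop : V.1 = ⊤ ∨ V.1 = ⊥ := by
            haveI : Subsingleton ↥(Spec (CommRingCat.of k)) := inferInstanceAs (Subsingleton (PrimeSpectrum k))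
            by_cases hz : ∃ z, z ∈ V.1
            · obtain ⟨z, hz⟩ := hz
              exact Or.inl (eq_top_iff.2 fun y _ => Subsingleton.elim z y ▸ hz)
            · exact Or.inr (eq_bot_iff.2 fun y hy => (hz ⟨y, hy⟩).elim)
          obtain ⟨V, hV⟩ := V
          obtain rfl | rfl := hVtop
          · exact ⟨(Scheme.ΓSpecIso (CommRingCat.of k)).hom cc, congrArg (x.appLE ⊤ W.1 eV)
              (congr($((Scheme.ΓSpecIso (CommRingCat.of k)).hom_inv_id) cc))⟩
          · haveI : Subsingleton Γ(X, W.1) := by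
              have hb : W.1 = ⊥ := eq_bot_iff.2 eV
              rw [hb]
              infer_instance
            exact ⟨0, Subsingleton.elim _ _⟩
        change e W (x.appLE V.1 W.1 eV cc) - derOf _ W _ (x.appLE V.1 W.1 eV cc) = 0
        rw [← hc', he_base, ← algebraMap_algSec, Derivation.map_algebraMap, sub_zero]
      res_app := fun W W' hW hle s => by
        change resO X hle (e W s - derOf _ W _ s) = e W' (resO X hle s) - derOf _ W' _ (resO X hle s)
        rw [map_sub, resO_derOf, he_res]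
        have hco : derOf ((cocOf c).D a W') W' (le_inf (hle.trans hW) le_rfl) (resO X hle s) =
            derOf ((cocOf c).D a W) W' (le_inf (hle.trans hW) hle) (resO X hle s) +
              cocDer (fun _ : Fin 1 => cocOf c) hle 0 (resO X hle s) :=
          (cocOf c).cocyc a W W' W' (hle.trans hW) hle le_rfl (resO X hle s)
        rw [hco]
        abel }
  choose η hη using fun a => exists_locHom (f := x) ⟨⊤, isAffineOpen_top _⟩ le_top (E a)
  obtain ⟨b, hb⟩ := exists_hom_cech (affCov X) 0 (fun a => (η (a 0)).restrict (iInf_le _ 0))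
  refine ⟨b, hom_ext_coordV fun a W hW s => ?_⟩
  have ha : a = ![a 0, a 1] := by funext i; fin_cases i <;> rfl
  have h0 : W.1 ≤ (a 0).1 := hW.trans (iInf_le _ 0)
  have h1 : W.1 ≤ (a 1).1 := hW.trans (iInf_le _ 1)
  have hval : ∀ (i : X.affineOpens) (hi : W.1 ≤ i.1) (a' : Fin 1 → X.affineOpens) (hW' : W.1 ≤ ⨅ j, (a' j).1),
      a' = ![i] → coordV b a' W hW' s = e W s - derOf ((cocOf c).D i W) W (le_inf hi le_rfl) s :=
    fun i hi a' hW' ha' => by
      subst ha'
      exact (hb ![i] W hW' _).trans (hη i W hi s)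
  rw [coordV_d, Fin.sum_univ_two]
  simp only [Fin.val_zero, Fin.val_one, pow_zero, pow_one, one_zsmul, neg_smul]
  rw [hval (a 1) h1 _ _ (succAbove_two_zero a), hval (a 0) h0 _ _ (succAbove_two_one a)]
  have hco : derOf ((cocOf c).D (a 0) W) W (le_inf h0 le_rfl) s =
      derOf ((cocOf c).D (a 0) (a 1)) W (le_inf h0 h1) s + derOf ((cocOf c).D (a 1) W) W (le_inf h1 le_rfl) s :=
    (cocOf c).cocyc (a 0) (a 1) W W h0 h1 le_rfl s
  rw [hco, cocOf_app c (a 0) (a 1), coordV_congr c.1 ha.symm W _ hW]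
  abel

/-- Boundaries give trivial deformations. -/
theorem clOf_eq_of_boundary (c : cocHom k X)
    (b : Omega.sheaf (X ↘ Spec (CommRingCat.of k)) ⟶ (affCech X).X 0) (hb : b ≫ (affCech X).d 0 1 = c.1) :
    clOf c = clOf (0 : cocHom k X) := by
  refine twCl_cohom _ eps_mul res_eps _ _ (fun _ a => coordD b ![a] a.1 fun i => by fin_cases i; exact le_rfl)
    fun l a b' W ha hb' s => ?_
  rw [cocOf_app, cocOf_app, ← hb, coordV_d, Fin.sum_univ_two, coordD_app, coordD_app]
  simp only [Fin.val_zero, Fin.val_one, pow_zero, pow_one, one_zsmul, neg_smul]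
  rw [coordV_congr b (succAbove_two_zero ![a, b']) W _ (le_iInf fun i => by fin_cases i; exact hb'),
    coordV_congr b (succAbove_two_one ![a, b']) W _ (le_iInf fun i => by fin_cases i; exact ha),
    show coordV (0 : cocHom k X).1 ![a, b'] W (le_iInf_two (affCov X) ha hb') s = 0 from coordV_zero _ W _ s]
  simp only [Matrix.cons_val_zero, Matrix.cons_val_one]
  abel

end Class

end Groth.Agent.DefLift
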