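import Groth.Agent.DefLift.Twisted
import Groth.Agent.DefLift.DerH1
import Mathlib

/-!
# Trivial deformations twisted by cocycles of derivations
-/

set_option autoImplicit false
set_option linter.style.haveILetI false
set_option backward.isDefEq.respectTransparency false
universe u

open CategoryTheory CategoryTheory.Limits AlgebraicGeometry Opposite TopologicalSpace TensorProduct

noncomputable section

namespace Groth.Agent.DefLift

open Groth.Agent.QC ArtFun ArtFun.Art Groth.Agent.DefFun

variable {k : Type u} [Field k] {X : Scheme.{u}} [X.Over (Spec (CommRingCat.of k))]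

attribute [local instance] algSec

/-- Cocycles of derivations indexed by the affine opens. -/
structure Cocyc (X : Scheme.{u}) [X.Over (Spec (CommRingCat.of k))] where
  D : ∀ a b : X.affineOpens, LocDer (X ↘ Spec (CommRingCat.of k)) (Coh.structureModule X) (a.1 ⊓ b.1)
  cocyc : ∀ (a b c W : X.affineOpens) (ha : W.1 ≤ a.1) (hb : W.1 ≤ b.1) (hc : W.1 ≤ c.1) (s : Γ(X, W.1)),
    (D a c).app W (le_inf ha hc) s = (D a b).app W (le_inf ha hb) s + (D b c).app W (le_inf hb hc) s

/-- A local derivation as a derivation of algebras. -/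
def derOf {O : X.Opens} (E : LocDer (X ↘ Spec (CommRingCat.of k)) (Coh.structureModule X) O) (W : X.affineOpens)
    (hW : W.1 ≤ O) : Derivation k Γ(X, W.1) Γ(X, W.1) :=
  Derivation.mk'
    { toFun := fun s => (show Γ(X, W.1) from E.app W hW s)
      map_add' := fun s t => map_add (E.app W hW) s t
      map_smul' := fun c s => by
        rw [RingHom.id_apply, Algebra.smul_def, Algebra.smul_def]
        refine (E.app_mul W hW (algebraMap k Γ(X, W.1) c) s).trans ?_
        have h0 : E.app W hW (algebraMap k Γ(X, W.1) c) = 0 :=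
          E.app_base W hW ⟨⊤, isAffineOpen_top _⟩ le_top _
        rw [h0, smul_zero, add_zero]
        rfl }
    fun s t => E.app_mul W hW s t

theorem derOf_apply {O : X.Opens} (E : LocDer (X ↘ Spec (CommRingCat.of k)) (Coh.structureModule X) O)
    (W : X.affineOpens) (hW : W.1 ≤ O) (s : Γ(X, W.1)) : derOf E W hW s = E.app W hW s := rfl

theorem resO_derOf {O : X.Opens} (E : LocDer (X ↘ Spec (CommRingCat.of k)) (Coh.structureModule X) O)
    {W W' : X.affineOpens} (hW : W.1 ≤ O) (h : W'.1 ≤ W.1) (s : Γ(X, W.1)) :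
    resO X h (derOf E W hW s) = derOf E W' (h.trans hW) (resO X h s) :=
  E.res_app W W' hW h s

variable {A B : Art k k}

theorem tmul_mul (W : X.affineOpens) (s t : Γ(X, W.1)) (a b : A) :
    (s ⊗ₜ[k] a) * (t ⊗ₜ[k] b) = (s * t) ⊗ₜ[k] (a * b) := Algebra.TensorProduct.tmul_mul_tmul s t a b

variable {d : ℕ} (e : Fin d → A) (hee : ∀ i j, e i * e j = 0)

/-- The infinitesimal automorphism of a derivation family, on functions. -/
def twHom (W : X.affineOpens) (E : Fin d → Derivation k Γ(X, W.1) Γ(X, W.1)) : Γ(X, W.1) →ₐ[k] Ten A W :=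
  AlgHom.ofLinearMap
    ({ toFun := fun s => s ⊗ₜ[k] (1 : A) + ∑ l, E l s ⊗ₜ[k] e l
       map_add' := fun s t => by
        simp only [map_add, add_tmul, Finset.sum_add_distrib]; abel
       map_smul' := fun c s => by
        simp only [Derivation.map_smul, RingHom.id_apply, smul_add, Finset.smul_sum, smul_tmul'] } :
      Γ(X, W.1) →ₗ[k] Ten A W)
    (by simp [Algebra.TensorProduct.one_def])
    fun s t => by
      have h0 : (∑ l, E l s ⊗ₜ[k] e l) * (∑ l, E l t ⊗ₜ[k] e l) = (0 : Ten A W) := by
        rw [Finset.sum_mul]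
        refine Finset.sum_eq_zero fun i _ => ?_
        rw [Finset.mul_sum]
        refine Finset.sum_eq_zero fun j _ => ?_
        rw [tmul_mul, hee, tmul_zero]
      change (s * t) ⊗ₜ[k] (1 : A) + ∑ l, E l (s * t) ⊗ₜ[k] e l =
        (s ⊗ₜ[k] (1 : A) + ∑ l, E l s ⊗ₜ[k] e l) * (t ⊗ₜ[k] (1 : A) + ∑ l, E l t ⊗ₜ[k] e l)
      rw [mul_add, add_mul, add_mul, h0, add_zero, tmul_mul, mul_one, Finset.mul_sum, Finset.sum_mul]
      simp only [tmul_mul, one_mul, mul_one, Derivation.leibniz, smul_eq_mul, add_tmul, Finset.sum_add_distrib]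
      simp only [mul_comm t]
      abel

theorem twHom_apply (W : X.affineOpens) (E : Fin d → Derivation k Γ(X, W.1) Γ(X, W.1)) (s : Γ(X, W.1)) :
    twHom e hee W E s = s ⊗ₜ[k] (1 : A) + ∑ l, E l s ⊗ₜ[k] e l := rfl

/-- The infinitesimal automorphism of a derivation family. -/
def tw (W : X.affineOpens) (E : Fin d → Derivation k Γ(X, W.1) Γ(X, W.1)) : Ten A W →ₐ[k] Ten A W :=
  Algebra.TensorProduct.lift (twHom e hee W E) Algebra.TensorProduct.includeRight fun _ _ => Commute.all _ _

theorem tw_tmul (W : X.affineOpens) (E : Fin d → Derivation k Γ(X, W.1) Γ(X, W.1)) (s : Γ(X, W.1)) (a : A) :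
    tw e hee W E (s ⊗ₜ[k] a) = s ⊗ₜ[k] a + ∑ l, E l s ⊗ₜ[k] (e l * a) := by
  refine (Algebra.TensorProduct.lift_tmul _ _ _ s a).trans ?_
  rw [twHom_apply, Algebra.TensorProduct.includeRight_apply, add_mul, tmul_mul, mul_one, one_mul, Finset.sum_mul]
  simp only [tmul_mul, mul_one]

theorem tw_base (W : X.affineOpens) (E : Fin d → Derivation k Γ(X, W.1) Γ(X, W.1)) (a : A) :
    tw e hee W E (1 ⊗ₜ[k] a) = 1 ⊗ₜ[k] a := by
  rw [tw_tmul]
  simp

theorem tw_zero (W : X.affineOpens) (E : Fin d → Derivation k Γ(X, W.1) Γ(X, W.1)) (hE : ∀ l s, E l s = 0)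
    (z : Ten A W) : tw e hee W E z = z := by
  induction z using TensorProduct.induction_on with
  | zero => simp
  | tmul s a => rw [tw_tmul]; simp [hE]
  | add z w hz hw => rw [map_add, hz, hw]

theorem tw_tw (W : X.affineOpens) (E E' F : Fin d → Derivation k Γ(X, W.1) Γ(X, W.1))
    (hF : ∀ l s, F l s = E l s + E' l s) (z : Ten A W) :
    tw e hee W E (tw e hee W E' z) = tw e hee W F z := by
  induction z using TensorProduct.induction_on with
  | zero => simp
  | tmul s a =>
    rw [tw_tmul, map_add, tw_tmul, map_sum, tw_tmul]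
    simp only [hF, add_tmul, Finset.sum_add_distrib, ← add_assoc]
    congr 1
    refine Finset.sum_congr rfl fun l _ => ?_
    rw [tw_tmul, Finset.sum_eq_zero fun m _ => by rw [← mul_assoc, hee, zero_mul, tmul_zero], add_zero]
  | add z w hz hw => simp only [map_add, hz, hw]

/-- Restriction on trivial deformations. -/
def resT {W W' : X.affineOpens} (h : W'.1 ≤ W.1) : Ten A W →ₐ[k] Ten A W' :=
  Algebra.TensorProduct.map (resA h) (AlgHom.id k A)

theorem resT_tmul {W W' : X.affineOpens} (h : W'.1 ≤ W.1) (s : Γ(X, W.1)) (a : A) :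
    resT h (s ⊗ₜ[k] a) = resO X h s ⊗ₜ[k] a := rfl

theorem resT_tw {W W' : X.affineOpens} (h : W'.1 ≤ W.1) (E : Fin d → Derivation k Γ(X, W.1) Γ(X, W.1))
    (E' : Fin d → Derivation k Γ(X, W'.1) Γ(X, W'.1)) (hE : ∀ l s, resO X h (E l s) = E' l (resO X h s))
    (z : Ten A W) : resT h (tw e hee W E z) = tw e hee W' E' (resT h z) := by
  induction z using TensorProduct.induction_on with
  | zero => simp
  | tmul s a => simp only [tw_tmul, map_add, map_sum, resT_tmul, hE]
  | add z w hz hw => simp only [map_add, hz, hw]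

variable (he : ∀ l, A.res (e l) = 0)

include he in
theorem tenRed_tw (W : X.affineOpens) (E : Fin d → Derivation k Γ(X, W.1) Γ(X, W.1)) (z : Ten A W) :
    tenRed A W (tw e hee W E z) = tenRed A W z := by
  induction z using TensorProduct.induction_on with
  | zero => simp
  | tmul s a =>
    rw [tw_tmul, map_add, map_sum, Finset.sum_eq_zero, add_zero]
    intro l _
    rw [tenRed_tmul, map_mul, he, zero_mul, map_zero, mul_zero]
  | add z w hz hw => simp only [map_add, hz, hw]

theorem tenRed_resT {W W' : X.affineOpens} (h : W'.1 ≤ W.1) (z : Ten A W) :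
    tenRed A W' (resT h z) = resO X h (tenRed A W z) := by
  induction z using TensorProduct.induction_on with
  | zero => simp
  | tmul s a => rw [resT_tmul, tenRed_tmul, tenRed_tmul, map_mul]; congr 1; exact ((resA h).commutes _).symm
  | add z w hz hw => simp only [map_add, hz, hw]

/-- The derivations attached to a pair of nested opens. -/
def cocDer (D : Fin d → Cocyc (k := k) X) {W W' : X.affineOpens} (h : W'.1 ≤ W.1) (l : Fin d) :
    Derivation k Γ(X, W'.1) Γ(X, W'.1) :=
  derOf ((D l).D W W') W' (le_inf h le_rfl)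

/-- The twisted trivial deformation. -/
def twLoc (D : Fin d → Cocyc (k := k) X) : Loc X A where
  ρ {W W'} h := (tw e hee W' (cocDer D h)).comp (resT h)
  ρ_base {W W'} h a := by
    rw [AlgHom.comp_apply, resT_tmul, map_one, tw_base]
  red_ρ {W W'} h z := by
    rw [AlgHom.comp_apply, tenRed_tw e hee he, tenRed_resT]
  ρ_self W z := by
    have h0 : ∀ l s, cocDer D (le_refl W.1) l s = 0 := fun l s =>
      add_eq_left.1 (((D l).cocyc W W W W le_rfl le_rfl le_rfl s).symm)
    rw [AlgHom.comp_apply, tw_zero e hee W _ h0]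
    induction z using TensorProduct.induction_on with
    | zero => simp
    | tmul s a =>
      rw [resT_tmul]
      congr 1
      exact resO_self le_rfl s
    | add z w hz hw => simp only [map_add, hz, hw]
  ρ_trans {W W' W''} h h' z := by
    simp only [AlgHom.comp_apply]
    rw [resT_tw e hee h' (cocDer D h) (fun l => derOf ((D l).D W W') W'' (le_inf (h'.trans h) h'))
      (fun l s => resO_derOf _ _ h' s), tw_tw e hee W'' _ _ (cocDer D (h'.trans h))
      fun l s => ((D l).cocyc W W' W'' W'' (h'.trans h) h' le_rfl s).trans (add_comm _ _)]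
    congr 1
    induction z using TensorProduct.induction_on with
    | zero => simp
    | tmul s a =>
      rw [resT_tmul, resT_tmul, resT_tmul, resO_resO]
    | add z w hz hw => simp only [map_add, hz, hw]

theorem twLoc_ρ (D : Fin d → Cocyc (k := k) X) {W W' : X.affineOpens} (h : W'.1 ≤ W.1) (z : Ten A W) :
    (twLoc e hee he D).ρ h z = tw e hee W' (cocDer D h) (resT h z) := rfl

variable [Smooth (X ↘ Spec (CommRingCat.of k))]

/-- The class of a twisted trivial deformation. -/
def twCl (D : Fin d → Cocyc (k := k) X) : (defFunctor X (X ↘ Spec (CommRingCat.of k))).obj A :=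
  (twLoc e hee he D).toDef.cl

/-- Twisted deformations base change to twisted deformations. -/
theorem map_twCl (g : A ⟶ B) (D : Fin d → Cocyc (k := k) X) (hee' : ∀ i j, (fun l => g (e l)) i * (fun l => g (e l)) j = 0)
    (he' : ∀ l, B.res ((fun l => g (e l)) l) = 0) :
    (defFunctor X (X ↘ Spec (CommRingCat.of k))).map g (twCl e hee he D) = twCl (fun l => g (e l)) hee' he' D := by
  obtain ⟨c⟩ := Loc.exists_cart_ring g (twLoc e hee he D) (twLoc (fun l => g (e l)) hee' he' D)
    (fun W => Algebra.TensorProduct.map (AlgHom.id k _) g.toAlgHom) (fun W a => by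
      rw [Algebra.TensorProduct.map_tmul, AlgHom.id_apply]) (fun W z => by
      induction z using TensorProduct.induction_on with
      | zero => simp
      | tmul s a =>
        rw [Algebra.TensorProduct.map_tmul, AlgHom.id_apply, tenRed_tmul, tenRed_tmul]
        congr 2
        exact Art.res_app g a
      | add z w hz hw => simp only [map_add, hz, hw]) fun {W W'} h z => by
      induction z using TensorProduct.induction_on with
      | zero => simp
      | tmul s a =>
        simp only [twLoc_ρ, Algebra.TensorProduct.map_tmul, resT_tmul, tw_tmul, map_add, map_sum, AlgHom.id_apply,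
          map_mul]
      | add z w hz hw => simp only [map_add, hz, hw]
  exact Loc.cl_of_cart c

/-- Equal twisting gives equal classes. -/
theorem twCl_congr {d' : ℕ} (e' : Fin d' → A) (hee' : ∀ i j, e' i * e' j = 0) (he' : ∀ l, A.res (e' l) = 0)
    (D : Fin d → Cocyc (k := k) X) (D' : Fin d' → Cocyc (k := k) X)
    (h : ∀ {W W' : X.affineOpens} (hW : W'.1 ≤ W.1) (s : Γ(X, W'.1)),
      ∑ l, cocDer D hW l s ⊗ₜ[k] e l = ∑ l, cocDer D' hW l s ⊗ₜ[k] e' l) :
    twCl e hee he D = twCl e' hee' he' D' := by
  obtain ⟨c⟩ := Loc.exists_cart_ring (𝟙 A) (twLoc e hee he D) (twLoc e' hee' he' D')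
    (fun W => AlgHom.id k _) (fun W a => rfl) (fun W z => rfl) fun {W W'} hW z => by
      induction z using TensorProduct.induction_on with
      | zero => simp
      | tmul s a =>
        simp only [AlgHom.id_apply, twLoc_ρ, resT_tmul, tw_tmul]
        have := congrArg (· * ((1 : Γ(X, W'.1)) ⊗ₜ[k] a)) (h hW (resO X hW s))
        simp only [Finset.sum_mul, tmul_mul, mul_one] at this
        rw [this]
      | add z w hz hw => simp only [map_add, hz, hw]
  have := Loc.cl_of_cart c
  rwa [CategoryTheory.Functor.map_id] at this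

/-- Cohomologous cocycles give equal classes. -/
theorem twCl_cohom (D D' : Fin d → Cocyc (k := k) X)
    (E : Fin d → ∀ a : X.affineOpens, LocDer (X ↘ Spec (CommRingCat.of k)) (Coh.structureModule X) a.1)
    (hE : ∀ l (a b W : X.affineOpens) (ha : W.1 ≤ a.1) (hb : W.1 ≤ b.1) (s : Γ(X, W.1)),
      derOf ((D l).D a b) W (le_inf ha hb) s + derOf (E l a) W ha s =
        derOf ((D' l).D a b) W (le_inf ha hb) s + derOf (E l b) W hb s) :
    twCl e hee he D = twCl e hee he D' := by
  obtain ⟨c⟩ := Loc.exists_cart_ring (𝟙 A) (twLoc e hee he D') (twLoc e hee he D)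
    (fun W => tw e hee W fun l => derOf (E l W) W le_rfl) (fun W a => tw_base e hee W _ a)
    (fun W z => tenRed_tw e hee he W _ z) fun {W W'} h z => by
      rw [twLoc_ρ, twLoc_ρ, resT_tw e hee h _ (fun l => derOf (E l W) W' h) (fun l s => resO_derOf _ _ h s)]
      let F : Fin d → Derivation k Γ(X, W'.1) Γ(X, W'.1) := fun l => cocDer D h l + derOf (E l W) W' h
      exact (tw_tw e hee W' _ _ F (fun l s => rfl) _).trans (tw_tw e hee W' _ _ F (fun l s =>
        (hE l W W' W' h le_rfl s).trans (add_comm _ _)) _).symm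
  have := Loc.cl_of_cart c
  rw [CategoryTheory.Functor.map_id] at this
  exact this.symm

end Groth.Agent.DefLift
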