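import Groth.Agent.DefLift.TwistClass
import Mathlib

/-!
# Every first order deformation of a smooth scheme is twisted trivial
-/

set_option autoImplicit false
set_option linter.style.haveILetI false
set_option linter.unusedSectionVars false
set_option backward.isDefEq.respectTransparency false
set_option synthInstance.maxHeartbeats 400000
set_option maxHeartbeats 1600000
universe u

open CategoryTheory CategoryTheory.Limits AlgebraicGeometry Opposite TopologicalSpace TensorProduct Abelian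

noncomputable section

namespace Groth.Agent.DefLift

open Groth.Agent.QC Groth.Agent.CechShRes ArtFun ArtFun.Art Groth.Agent.DefFun Groth.Agent.ArtKit

variable {k : Type u} [Field k] {X : Scheme.{u}} [X.Over (Spec (CommRingCat.of k))]

attribute [local instance] algSec

/-- Smooth morphisms lift affine opens to square zero thickenings. -/
theorem exists_affine_section {T : Scheme.{u}} {i : X ⟶ T} [IsClosedImmersion i] (hsq : IsSqZero i)
    [Smooth (X ↘ Spec (CommRingCat.of k))] (a : T ⟶ Spec (CommRingCat.of k))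
    (hsqr : (X ↘ Spec (CommRingCat.of k)) = i ≫ a) (C : X.affineOpens) :
    ∃ b : (up hsq C.1).toScheme ⟶ X, b ≫ (X ↘ Spec (CommRingCat.of k)) = (up hsq C.1).ι ≫ a ∧
      (i ∣_ up hsq C.1) ≫ b = (i ⁻¹ᵁ up hsq C.1).ι ≫ 𝟙 X := by
  let x := X ↘ Spec (CommRingCat.of k)
  let W : T.affineOpens := ⟨up hsq C.1, isAffineOpen_up hsq C⟩
  have hW0 : IsAffineOpen (i ⁻¹ᵁ W.1) := W.2.preimage i
  have hle : C.1 ≤ x ⁻¹ᵁ ⊤ := le_top
  have hsm : letI := (x.appLE ⊤ C.1 hle).hom.toAlgebra
      Algebra.FormallySmooth Γ(Spec (CommRingCat.of k), ⊤) Γ(X, C.1) := by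
    letI := (x.appLE ⊤ C.1 hle).hom.toAlgebra
    have h : (x.appLE ⊤ C.1 hle).hom.Smooth :=
      HasRingHomProperty.appLE (P := @Smooth) x inferInstance ⟨⊤, isAffineOpen_top _⟩ C hle
    rw [RingHom.smooth_def] at h
    exact h.1
  obtain ⟨l, hl₀, hl⟩ := FSmoothLocal.exists_lift_affine (f := x) C.2 (isAffineOpen_top _) hle hsm (i.app W.1)
    (i.app_surjective W.1 W.2) (by
      rw [pow_two, eq_bot_iff, Ideal.mul_le]
      intro y hy z hz
      exact Ideal.mem_bot.2 (hsq W y z hy hz))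
    (hW0.fromSpec ≫ 𝟙 X) (W.2.fromSpec ≫ a) (by
      rw [Category.assoc, Category.id_comp, show x = i ≫ a from hsqr, ← Category.assoc, Scheme.Hom.app_eq_appLE,
        IsAffineOpen.SpecMap_appLE_fromSpec i W.2 hW0 le_rfl, Category.assoc]) (by
      rintro p ⟨t, rfl⟩
      rw [Category.comp_id]
      have ht : hW0.fromSpec t ∈ i ⁻¹ᵁ W.1 := by
        have : hW0.fromSpec t ∈ Set.range hW0.fromSpec := Set.mem_range_self t
        rwa [hW0.range_fromSpec] at this
      exact (preimage_up hsq C.1).le ht)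
  refine ⟨W.2.isoSpec.hom ≫ l, ?_, ?_⟩
  · rw [Category.assoc, hl, IsAffineOpen.isoSpec_hom, ← Category.assoc, IsAffineOpen.toSpecΓ_fromSpec]
  · have hn : (i ∣_ W.1) ≫ W.2.isoSpec.hom = hW0.isoSpec.hom ≫ Spec.map (i.app W.1) := by
      rw [← cancel_mono W.2.fromSpec, Category.assoc, Category.assoc, Scheme.Hom.app_eq_appLE,
        IsAffineOpen.SpecMap_appLE_fromSpec i W.2 hW0 le_rfl, IsAffineOpen.isoSpec_hom, IsAffineOpen.isoSpec_hom,
        IsAffineOpen.toSpecΓ_fromSpec, morphismRestrict_ι, ← Category.assoc, IsAffineOpen.toSpecΓ_fromSpec]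
    rw [← Category.assoc, hn, Category.assoc, hl₀, IsAffineOpen.isoSpec_hom, ← Category.assoc,
      IsAffineOpen.toSpecΓ_fromSpec]

theorem appLE_id_apply (W : X.Opens) (e : W ≤ 𝟙 X ⁻¹ᵁ W) (r : Γ(X, W)) : (𝟙 X : X ⟶ X).appLE W W e r = r := by
  rw [Scheme.Hom.appLE, Scheme.Hom.id_app]
  exact resO_self le_rfl r

theorem baseFun_str {η : DefSch X (X ↘ Spec (CommRingCat.of k)) (Art.dual k k)} (O : η.total.Opens) (c : k)
    (e : O ≤ (η.f ≫ Spec.map (CommRingCat.ofHom (algebraMap k (Art.dual k k)))) ⁻¹ᵁ ⊤) :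
    (η.f ≫ Spec.map (CommRingCat.ofHom (algebraMap k (Art.dual k k)))).appLE ⊤ O e
        ((Scheme.ΓSpecIso (CommRingCat.of k)).inv c) = baseFun η O (algebraMap k (Art.dual k k) c) := by
  let g := Spec.map (CommRingCat.ofHom (algebraMap k (Art.dual k k)))
  rw [← Scheme.Hom.appLE_comp_appLE η.f g ⊤ ⊤ O le_top le_top, CommRingCat.comp_apply,
    show g.appLE ⊤ ⊤ le_top = g.app ⊤ from (Scheme.Hom.app_eq_appLE _).symm]
  exact congrArg (η.f.appLE ⊤ O le_top)
    (congr($(Scheme.ΓSpecIso_inv_naturality (CommRingCat.ofHom (algebraMap k (Art.dual k k)))) c)).symm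

variable [Smooth (X ↘ Spec (CommRingCat.of k))] [IsSeparated (X ↘ Spec (CommRingCat.of k))]

/-- First order deformations come from cocycles. -/
theorem exists_clOf_eq (η : DefSch X (X ↘ Spec (CommRingCat.of k)) (Art.dual k k)) :
    ∃ c : cocHom k X, clOf c = η.cl := by
  let x := X ↘ Spec (CommRingCat.of k)
  let hs := isSqZero_defSch η dual_sqzero
  let a : η.total ⟶ Spec (CommRingCat.of k) := η.f ≫ Spec.map (CommRingCat.ofHom (algebraMap k (Art.dual k k)))
  have hsqr : x = η.i ≫ a := by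
    have e : CommRingCat.ofHom (algebraMap k (Art.dual k k)) ≫
        CommRingCat.ofHom (Art.dual k k).res.toRingHom = 𝟙 _ := by
      ext c
      exact (Art.dual k k : Art k k).res.commutes c
    rw [← Category.assoc, η.i_f, Category.assoc, ← Spec.map_comp, e, Spec.map_id]
    exact (Category.comp_id x).symm
  have hsqr' : 𝟙 X ≫ x = η.i ≫ a := by rw [Category.id_comp]; exact hsqr
  choose b hb₁ hb₂ using exists_affine_section hs a hsqr
  let U : X.affineOpens → η.total.Opens := fun C => up hs C.1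
  have hU : ∀ {C : X.Opens} {j : X.affineOpens}, C ≤ j.1 → C ≤ η.i ⁻¹ᵁ U j := fun h => h.trans (preimage_up hs _).ge
  -- the sections
  let σ : ∀ (W : X.affineOpens) (j : X.affineOpens), W.1 ≤ j.1 → (Γ(X, W.1) →+* Γ(η.total, up hs W.1)) :=
    fun W j hj => liftSec hs (𝟙 X) U b hb₂ W.1 (le_refl W.1) j (hU hj)
  have hσd : ∀ W j hj s, downVal hs W.1 (σ W j hj s) = s := fun W j hj s => by
    exact (downVal_liftSec hs (𝟙 X) U b hb₂ W.1 _ j _ s).trans (appLE_id_apply _ _ _)
  have hσr : ∀ {W W' : X.affineOpens} (h : W'.1 ≤ W.1) j hj s,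
      resO η.total (up_mono hs h) (σ W j hj s) = σ W' j (h.trans hj) (resO X h s) := fun {W W'} h j hj s => by
    refine (resO_liftSec hs (𝟙 X) U b hb₂ h W.1 _ j _ s).trans ?_
    exact (liftSec_res hs (𝟙 X) U b hb₂ h (le_refl W'.1) j _ s).symm
  have hσc : ∀ W j hj c, σ W j hj (str x W.1 c) = baseFun η _ (algebraMap k (Art.dual k k) c) := fun W j hj c =>
    (liftSec_base hs x a (𝟙 X) U b hb₁ hb₂ ⊤ W.1 le_top (le_refl W.1) j (hU hj) le_top _).trans
      (baseFun_str _ _ _)
  -- coordinates on the kernel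
  haveI := isIso_epsHom η
  let epsI : Coh.structureModule X ≅ Omega.conormal η.i := asIso (epsHom η)
  let co : ∀ C : X.Opens, Γ(Omega.conormal η.i, C) → Γ(X, C) := fun C m => epsI.inv.app C m
  have hco : ∀ C m, co C m • epsVal η C = m := fun C m => by
    refine (epsHom_app η C _).symm.trans ?_
    exact congr(($(epsI.inv_hom_id)).app C m)
  have hco' : ∀ C c, co C (c • epsVal η C) = c := fun C c => by
    simp only [co]
    rw [← epsHom_app η C c]
    exact congr(($(epsI.hom_inv_id)).app C c)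
  -- the cocycle
  have hdv : ∀ W (s : Γ(X, W)) j l hj hl, downVal hs W (liftSec hs (𝟙 X) U b hb₂ W (le_refl W) l hl s -
      liftSec hs (𝟙 X) U b hb₂ W (le_refl W) j hj s) = 0 := fun W s j l hj hl =>
    downVal_diff hs (𝟙 X) U b hb₂ W W (le_refl W) j l hj hl s
  let dv : ∀ (W : X.affineOpens) (j l : X.affineOpens), W.1 ≤ j.1 → W.1 ≤ l.1 → Γ(X, W.1) → Γ(X, W.1) :=
    fun W j l hj hl s => co W.1 (diffVal hs (𝟙 X) U b hb₂ W.1 W.1 (le_refl W.1) j l (hU hj) (hU hl) s)
  let Dl : ∀ a' b' : X.affineOpens, LocDer x (Coh.structureModule X) (a'.1 ⊓ b'.1) := fun a' b' =>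
    { app := fun W hW => AddMonoidHom.mk' (fun s => dv W b' a' (hW.trans inf_le_right) (hW.trans inf_le_left) s)
        fun s t => by
          simp only [dv, co]
          rw [diffVal_add, map_add]
      app_mul := fun W hW s t => by
        change co W.1 _ = s * co W.1 _ + t * co W.1 _
        rw [diffVal_mul, appLE_id_apply, appLE_id_apply]
        simp only [co]
        rw [map_add, Scheme.Modules.Hom.app_smul, Scheme.Modules.Hom.app_smul]
        rfl
      app_base := fun W hW V e c => by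
        change co W.1 _ = 0
        have h1 : x.appLE V.1 W.1 e c = resO X e (x.app V.1 c) := rfl
        rw [h1, diffVal_res hs (𝟙 X) U b hb₂ W.1 (x ⁻¹ᵁ V.1) (show W.1 ≤ 𝟙 X ⁻¹ᵁ (x ⁻¹ᵁ V.1) from e),
          diffVal_base hs x a (𝟙 X) U b hb₁ hb₂ V.1 W.1 _ hsqr']
        exact map_zero _
      res_app := fun W W' hW hle s => by
        change res (Coh.structureModule X) hle (epsI.inv.app W.1 _) = epsI.inv.app W'.1 _
        rw [app_res epsI.inv hle, res_diffVal, diffVal_res hs (𝟙 X) U b hb₂ W'.1 W.1 hle] }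
  let Dc : Cocyc (k := k) X :=
    { D := Dl
      cocyc := fun a' b' c' W ha hb hc s => by
        change co W.1 _ = co W.1 _ + co W.1 _
        exact ((congrArg (epsI.inv.app W.1) (diffVal_cocycle hs (𝟙 X) U b hb₂ W.1 W.1 (le_refl W.1) c' b' (hU hc)
          (hU hb) a' (hU ha) s)).trans (map_add _ _ _)).trans (add_comm _ _) }
  choose ψ hψ using fun a' b' => exists_locHom (f := x) ⟨⊤, isAffineOpen_top _⟩ le_top (Dl a' b')
  obtain ⟨c, hc⟩ := exists_hom_cech (affCov X) 1
    (fun a' => (ψ (a' 0) (a' 1)).restrict (le_inf (iInf_le _ 0) (iInf_le _ 1)))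
  have hcv : ∀ (a' : Fin 2 → X.affineOpens) (W : X.affineOpens) (hW : W.1 ≤ ⨅ i, (a' i).1) (s : Γ(X, W.1)),
      coordV c a' W hW s =
        derOf (Dc.D (a' 0) (a' 1)) W (le_inf (hW.trans (iInf_le _ 0)) (hW.trans (iInf_le _ 1))) s :=
    fun a' W hW s => (hc a' W hW _).trans (hψ _ _ W _ s)
  have hcd : c ≫ (affCech X).d 1 2 = 0 := hom_ext_coordV fun a' W hW s => by
    rw [coordV_d, coordV_zero, Fin.sum_univ_three, hcv, hcv, hcv]
    simp only [Fin.val_zero, Fin.val_one, Fin.val_two, pow_zero, pow_one, neg_one_sq, one_zsmul, neg_smul]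
    have p0 : W.1 ≤ (a' 0).1 := hW.trans (iInf_le _ 0)
    have p1 : W.1 ≤ (a' 1).1 := hW.trans (iInf_le _ 1)
    have p2 : W.1 ≤ (a' 2).1 := hW.trans (iInf_le _ 2)
    change derOf (Dc.D (a' 1) (a' 2)) W (le_inf p1 p2) s + -derOf (Dc.D (a' 0) (a' 2)) W (le_inf p0 p2) s +
      derOf (Dc.D (a' 0) (a' 1)) W (le_inf p0 p1) s = 0
    have hco3 : derOf (Dc.D (a' 0) (a' 2)) W (le_inf (hW.trans (iInf_le _ 0)) (hW.trans (iInf_le _ 2))) s =
        derOf (Dc.D (a' 0) (a' 1)) W (le_inf (hW.trans (iInf_le _ 0)) (hW.trans (iInf_le _ 1))) s +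
          derOf (Dc.D (a' 1) (a' 2)) W (le_inf (hW.trans (iInf_le _ 1)) (hW.trans (iInf_le _ 2))) s :=
      Dc.cocyc (a' 0) (a' 1) (a' 2) W p0 p1 p2 s
    rw [hco3]
    abel
  refine ⟨⟨c, hcd⟩, ?_⟩
  let cc : cocHom k X := ⟨c, hcd⟩
  let L := twLoc (fun _ : Fin 1 => eps (k := k)) eps_mul res_eps fun _ => cocOf cc
  have hD : ∀ {W W' : X.affineOpens} (h : W'.1 ≤ W.1) (s : Γ(X, W'.1)),
      cocDer (fun _ : Fin 1 => cocOf cc) h 0 s = dv W' W' W le_rfl h s := fun {W W'} h s =>
    hcv ![W, W'] W' (le_iInf_two (affCov X) h le_rfl) s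
  -- the charts
  let bf : ∀ W : X.affineOpens, (Art.dual k k) →+* Γ(η.total, up hs W.1) := fun W =>
    (η.f.appLE ⊤ (up hs W.1) le_top).hom.comp (Scheme.ΓSpecIso (CommRingCat.of (Art.dual k k))).inv.hom
  have hbf : ∀ W a', bf W a' = baseFun η (up hs W.1) a' := fun _ _ => rfl
  letI alg : ∀ W : X.affineOpens, Algebra k Γ(η.total, up hs W.1) := fun W =>
    ((bf W).comp (algebraMap k (Art.dual k k))).toAlgebra
  let σA : ∀ W : X.affineOpens, Γ(X, W.1) →ₐ[k] Γ(η.total, up hs W.1) := fun W =>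
    { σ W W le_rfl with commutes' := fun c' => hσc W W le_rfl c' }
  let bA : ∀ W : X.affineOpens, (Art.dual k k) →ₐ[k] Γ(η.total, up hs W.1) := fun W =>
    { bf W with commutes' := fun _ => rfl }
  let θ : ∀ W : X.affineOpens, Ten (Art.dual k k) W →ₐ[k] Γ(η.total, up hs W.1) := fun W =>
    Algebra.TensorProduct.lift (σA W) (bA W) fun _ _ => Commute.all _ _
  have hθ : ∀ W s a', θ W (s ⊗ₜ[k] a') = σ W W le_rfl s * baseFun η (up hs W.1) a' := fun W s a' =>
    Algebra.TensorProduct.lift_tmul _ _ _ s a'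
  have hb0 : ∀ C : X.Opens, downVal hs C (baseFun η (up hs C) eps) = 0 := fun C => downVal_baseFun η hs C _ rfl
  have hkv : ∀ (W : X.affineOpens) (c' : Γ(X, W.1)),
      kv hs W.1 (σ W W le_rfl c' * baseFun η (up hs W.1) eps) = c' • epsVal η W.1 := fun W c' => by
    rw [kv_mul hs _ (hb0 _), hσd W W le_rfl]
    rfl
  have hθd : ∀ W z, downVal hs W.1 (θ W z) = tenRed _ W z := fun W z => by
    induction z using TensorProduct.induction_on with
    | zero => simp
    | tmul s a' =>
      rw [hθ, map_mul, hσd W W le_rfl, tenRed_tmul, downVal_baseFun_res]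
      rfl
    | add z w hz hw => rw [map_add, map_add, map_add, hz, hw]
  have hθbij : ∀ W, Function.Bijective (θ W) := fun W => by
    have hsplit : ∀ z, θ W z = σ W W le_rfl (tenRed _ W z) +
        σ W W le_rfl (sndC W z) * baseFun η (up hs W.1) eps := fun z => by
      conv_lhs => rw [eq_red_add W z]
      rw [map_add, hθ, hθ, show baseFun η (up hs W.1) 1 = 1 from map_one (bf W), mul_one]
    refine ⟨(injective_iff_map_eq_zero _).2 fun z hz => ?_, fun r => ?_⟩
    · have h1 : tenRed _ W z = 0 := by rw [← hθd, hz, map_zero]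
      have h2 : σ W W le_rfl (sndC W z) * baseFun η (up hs W.1) eps = 0 := by
        have := hsplit z
        rwa [hz, h1, map_zero, zero_add, eq_comm] at this
      have h3 := congrArg (co W.1) (hkv W (sndC W z))
      rw [h2, kv_zero, hco'] at h3
      have h4 : co W.1 0 = 0 := map_zero (epsI.inv.app W.1).hom
      rw [h4] at h3
      rw [eq_red_add W z, h1, ← h3, zero_tmul, zero_tmul, add_zero]
    · let d' := downVal hs W.1 r
      have hd' : downVal hs W.1 (r - σ W W le_rfl d') = 0 := by rw [map_sub, hσd W W le_rfl, sub_self]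
      let c' := co W.1 (kv hs W.1 (r - σ W W le_rfl d'))
      have hz : downVal hs W.1 (σ W W le_rfl c' * baseFun η (up hs W.1) eps) = 0 := by rw [map_mul, hb0, mul_zero]
      have heq : r - σ W W le_rfl d' = σ W W le_rfl c' * baseFun η (up hs W.1) eps := by
        rw [← sub_eq_zero]
        refine kv_injective hs (by rw [map_sub, hd', hz, sub_zero]) ?_
        rw [kv_sub hs hd' hz, hkv, hco, sub_self]
      refine ⟨d' ⊗ₜ[k] 1 + c' ⊗ₜ[k] eps, ?_⟩
      rw [map_add, hθ, hθ, ← heq, show baseFun η (up hs W.1) 1 = 1 from map_one (bf W), mul_one, add_sub_cancel]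
  have hnat : ∀ {W W' : X.affineOpens} (h : W'.1 ≤ W.1) z,
      θ W' (L.ρ h z) = resO η.total (up_mono hs h) (θ W z) := fun {W W'} h z => by
    induction z using TensorProduct.induction_on with
    | zero => simp
    | tmul s a' =>
      rw [hθ, map_mul, hσr h W le_rfl, resO_baseFun, twLoc_ρ, resT_tmul, tw_tmul, Fin.sum_univ_one, map_add, hθ, hθ, hD]
      rw [show baseFun η (up hs W'.1) (eps * a') = baseFun η (up hs W'.1) eps * baseFun η (up hs W'.1) a' from
        map_mul (bf W') _ _, ← mul_assoc, ← add_mul]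
      congr 1
      let s' := resO X h s
      let r' := σ W' W h s' - σ W' W' le_rfl s'
      have hr' : downVal hs W'.1 r' = 0 := by simp only [r']; rw [map_sub, hσd W' W h, hσd W' W' le_rfl, sub_self]
      have hr2 : σ W' W' le_rfl (dv W' W' W le_rfl h s') * baseFun η (up hs W'.1) eps = r' := by
        have hz : downVal hs W'.1 (σ W' W' le_rfl (dv W' W' W le_rfl h s') * baseFun η (up hs W'.1) eps) = 0 := by
          rw [map_mul, hb0, mul_zero]
        rw [← sub_eq_zero]
        refine kv_injective hs (by rw [map_sub, hz, hr', sub_zero]) ?_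
        rw [kv_sub hs hz hr', hkv]
        simp only [dv]
        rw [hco]
        exact sub_self _
      rw [hr2, add_sub_cancel]
    | add z w hz hw => rw [map_add, map_add, map_add, map_add, hz, hw]
  let Θ : ∀ W : X.affineOpens, CommRingCat.of (Ten (Art.dual k k) W) ⟶ Γ(η.total, up hs W.1) := fun W =>
    CommRingCat.ofHom (θ W).toRingHom
  haveI : ∀ W, IsIso (Θ W) := fun W => (ConcreteCategory.isIso_iff_bijective _).2 (hθbij W)
  let ch : ∀ W : X.affineOpens, Spec (CommRingCat.of (Ten (Art.dual k k) W)) ⟶ η.total := fun W =>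
    Spec.map (inv (Θ W)) ≫ (isAffineOpen_up hs W).fromSpec
  suffices h : (∀ W, ch W ≫ η.f = tenToS (Art.dual k k) W ≫ specMap (𝟙 _)) ∧
      (∀ W : X.affineOpens, Spec.map (CommRingCat.ofHom (tenRed (Art.dual k k) W).toRingHom) ≫ ch W =
        W.2.fromSpec ≫ η.i) ∧
      ∀ {W W' : X.affineOpens} (hle : W'.1 ≤ W.1),
        Spec.map (CommRingCat.ofHom (L.ρ hle).toRingHom) ≫ ch W = ch W' by
    obtain ⟨m, -⟩ := Loc.exists_cart (𝟙 _) L η ch h.1 h.2.1 h.2.2
    have := Loc.cl_of_cart m
    rw [CategoryTheory.Functor.map_id] at this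
    exact this.symm
  refine ⟨fun W => ?_, fun W => ?_, fun {W W'} h => ?_⟩
  · rw [Category.assoc, show (isAffineOpen_up hs W).fromSpec ≫ η.f =
        Spec.map (CommRingCat.ofHom (bf W)) from ?_, ← Spec.map_comp, specMap_id, Category.comp_id]
    · congr 1
      rw [IsIso.comp_inv_eq]
      ext a'
      exact ((hθ W 1 a').trans (by rw [map_one, one_mul]; rfl)).symm
    · rw [← IsAffineOpen.SpecMap_appLE_fromSpec η.f (isAffineOpen_top _) (isAffineOpen_up hs W) le_top,
        IsAffineOpen.fromSpec_top]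
      simp [bf, Scheme.isoSpec_Spec, Spec.map_comp]
  · rw [← Category.assoc, ← Spec.map_comp,
      show inv (Θ W) ≫ CommRingCat.ofHom (tenRed (Art.dual k k) W).toRingHom = CommRingCat.ofHom (downVal hs W.1) from ?_]
    · exact IsAffineOpen.SpecMap_appLE_fromSpec η.i (isAffineOpen_up hs W) W.2 (preimage_up hs W.1).ge
    · rw [IsIso.inv_comp_eq]
      exact CommRingCat.hom_ext (RingHom.ext fun z => (hθd W z).symm)
  · simp only [ch]
    rw [← Category.assoc, ← Spec.map_comp, ← (isAffineOpen_up hs W).map_fromSpec (isAffineOpen_up hs W')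
      (homOfLE (up_mono hs h)).op, ← Category.assoc (Spec.map (inv (Θ W'))), ← Spec.map_comp]
    congr 2
    rw [IsIso.eq_comp_inv, Category.assoc, IsIso.inv_comp_eq]
    exact CommRingCat.hom_ext (RingHom.ext fun z => hnat h z)

end Groth.Agent.DefLift
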