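import Groth.Agent.DefLift.DefGen
import Groth.Agent.DefLift.Pieces
import Groth.Agent.DefLift.SystemGlue
import Groth.Agent.ThickProp.Deform
import Groth.Agent.DefFun.AutLift
import Mathlib

/-!
# Deformations glued from trivial deformations of affine opens
-/

set_option autoImplicit false
set_option linter.style.haveILetI false
set_option backward.isDefEq.respectTransparency false
universe u

open CategoryTheory CategoryTheory.Limits AlgebraicGeometry Opposite TopologicalSpace TensorProduct

noncomputable section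

namespace Groth.Agent.DefLift

open Groth.Agent.QC ArtFun ArtFun.Art Groth.Agent.DefFun

variable {k : Type u} [Field k] {X : Scheme.{u}} [X.Over (Spec (CommRingCat.of k))]

/-- The scalars on the functions on an open. -/
@[reducible] def algSec (V : X.Opens) : Algebra k Γ(X, V) := (str (X ↘ Spec (CommRingCat.of k)) V).toAlgebra

attribute [local instance] algSec

theorem algebraMap_algSec (V : X.Opens) (c : k) :
    algebraMap k Γ(X, V) c = str (X ↘ Spec (CommRingCat.of k)) V c := rfl

/-- Restriction of functions as a map of algebras. -/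
def resA {V V' : X.Opens} (h : V' ≤ V) : Γ(X, V) →ₐ[k] Γ(X, V') :=
  { (resO X h) with commutes' := fun c => str_res _ h c }

theorem resA_apply {V V' : X.Opens} (h : V' ≤ V) (s : Γ(X, V)) : resA (k := k) h s = resO X h s := rfl

/-- Functions on the trivial deformation of an affine open. -/
abbrev Ten (A : Art k k) (W : X.affineOpens) : Type u := Γ(X, W.1) ⊗[k] A

/-- Reduction to the closed fibre. -/
def tenRed (A : Art k k) (W : X.affineOpens) : Ten A W →ₐ[k] Γ(X, W.1) :=
  Algebra.TensorProduct.lift (AlgHom.id k _) ((Algebra.ofId k Γ(X, W.1)).comp A.res) fun _ _ => Commute.all _ _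

theorem tenRed_tmul (A : Art k k) (W : X.affineOpens) (s : Γ(X, W.1)) (a : A) :
    tenRed A W (s ⊗ₜ[k] a) = s * algebraMap k _ (A.res a) :=
  Algebra.TensorProduct.lift_tmul _ _ _ s a

theorem tenRed_inl (A : Art k k) (W : X.affineOpens) (s : Γ(X, W.1)) : tenRed A W (s ⊗ₜ[k] 1) = s := by
  rw [tenRed_tmul, map_one, map_one, mul_one]

theorem isNilpotent_sub_red (A : Art k k) (W : X.affineOpens) (z : Ten A W) :
    IsNilpotent (z - tenRed A W z ⊗ₜ[k] (1 : A)) := by
  induction z using TensorProduct.induction_on with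
  | zero => simp
  | tmul s a =>
    have e : s ⊗ₜ[k] a - (s * algebraMap k _ (A.res a)) ⊗ₜ[k] (1 : A) =
        s ⊗ₜ[k] (a - algebraMap k A (A.res a)) := by
      rw [tmul_sub, mul_comm, ← Algebra.smul_def, smul_tmul, Algebra.algebraMap_eq_smul_one]
    rw [tenRed_tmul, e, show s ⊗ₜ[k] (a - algebraMap k A (A.res a)) =
      (s ⊗ₜ[k] (1 : A)) * (1 ⊗ₜ[k] (a - algebraMap k A (A.res a))) by simp]
    refine (Commute.all _ _).isNilpotent_mul_left ?_
    refine IsNilpotent.map ?_ (Algebra.TensorProduct.includeRight (R := k) (A := Γ(X, W.1)) (B := A))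
    obtain ⟨n, hn⟩ := IsArtinianRing.isNilpotent_jacobson_bot (R := A)
    refine ⟨n, ?_⟩
    have hm : a - algebraMap k A (A.res a) ∈ Ideal.jacobson (⊥ : Ideal A) := by
      rw [IsLocalRing.jacobson_eq_maximalIdeal ⊥ bot_ne_top, A.mem_maximalIdeal_iff, map_sub, AlgHom.commutes]
      simp
    have := Ideal.pow_mem_pow hm n
    rwa [hn, Submodule.zero_eq_bot, Ideal.mem_bot] at this
  | add z w hz hw =>
    rw [map_add, add_tmul, add_sub_add_comm]
    exact (Commute.all _ _).isNilpotent_add hz hw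

theorem tenRed_surjective (A : Art k k) (W : X.affineOpens) : Function.Surjective (tenRed A W) :=
  fun s => ⟨s ⊗ₜ[k] 1, tenRed_inl A W s⟩

/-- The structure map of the trivial deformation of an affine open. -/
abbrev tenToS (A : Art k k) (W : X.affineOpens) : Spec (CommRingCat.of (Ten A W)) ⟶ spec A :=
  Spec.map (CommRingCat.ofHom (Algebra.TensorProduct.includeRight (R := k) (A := Γ(X, W.1)) (B := A)).toRingHom)

theorem isoSpec_specStr (W : X.affineOpens) :
    W.2.isoSpec.hom ≫ Spec.map (CommRingCat.ofHom (str (X ↘ Spec (CommRingCat.of k)) W.1)) =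
      W.1.ι ≫ (X ↘ Spec (CommRingCat.of k)) := by
  have h : Spec.map (CommRingCat.ofHom (str (X ↘ Spec (CommRingCat.of k)) W.1)) =
      W.2.fromSpec ≫ (X ↘ Spec (CommRingCat.of k)) := by
    rw [← IsAffineOpen.SpecMap_appLE_fromSpec (X ↘ Spec (CommRingCat.of k)) (isAffineOpen_top _) W.2
      (show W.1 ≤ (X ↘ Spec (CommRingCat.of k)) ⁻¹ᵁ ⊤ from le_top), IsAffineOpen.fromSpec_top]
    simp [str, Scheme.isoSpec_Spec, Spec.map_comp]
  rw [h, IsAffineOpen.isoSpec_hom, ← Category.assoc, IsAffineOpen.toSpecΓ_fromSpec]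

theorem isPullback_ten (A : Art k k) (W : X.affineOpens) :
    IsPullback (Spec.map (CommRingCat.ofHom
        (Algebra.TensorProduct.includeLeft (R := k) (S := k) (A := Γ(X, W.1)) (B := A)).toRingHom))
      (tenToS A W) (Spec.map (CommRingCat.ofHom (str (X ↘ Spec (CommRingCat.of k)) W.1)))
      (Spec.map (CommRingCat.ofHom (algebraMap k A))) :=
  isPullback_SpecMap_of_isPushout _ _ _ _ (CommRingCat.isPushout_tensorProduct k Γ(X, W.1) A)

theorem isPullback_tenRed (A : Art k k) (W : X.affineOpens) :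
    IsPullback (Spec.map (CommRingCat.ofHom (tenRed A W).toRingHom))
      (Spec.map (CommRingCat.ofHom (str (X ↘ Spec (CommRingCat.of k)) W.1))) (tenToS A W) (specRes A) := by
  refine IsPullback.of_right ?_ ?_ (isPullback_ten A W)
  · have e₁ : CommRingCat.ofHom (Algebra.TensorProduct.includeLeft (R := k) (S := k) (A := Γ(X, W.1))
        (B := A)).toRingHom ≫ CommRingCat.ofHom (tenRed A W).toRingHom = 𝟙 _ := by
      ext s
      exact tenRed_inl A W s
    have e₂ : CommRingCat.ofHom (algebraMap k A) ≫ CommRingCat.ofHom A.res.toRingHom = 𝟙 _ := by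
      ext c
      exact A.res.commutes c
    rw [← Spec.map_comp, e₁, ← Spec.map_comp, e₂, Spec.map_id, Spec.map_id]
    exact IsPullback.id_horiz _
  · rw [← Spec.map_comp, ← Spec.map_comp]
    congr 1
    ext a
    change tenRed A W (1 ⊗ₜ[k] a) = str _ _ (A.res a)
    rw [tenRed_tmul, one_mul]
    rfl

instance smooth_tenToS [Smooth (X ↘ Spec (CommRingCat.of k))] (A : Art k k) (W : X.affineOpens) :
    Smooth (tenToS A W) := by
  refine MorphismProperty.of_isPullback (isPullback_ten A W) ?_
  rw [← MorphismProperty.cancel_left_of_respectsIso @Smooth W.2.isoSpec.hom, isoSpec_specStr]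
  infer_instance

theorem isOpenImmersion_res {W W' : X.affineOpens} (h : W'.1 ≤ W.1) :
    IsOpenImmersion (Spec.map (CommRingCat.ofHom (resO X h))) := by
  haveI : IsOpenImmersion (Spec.map (X.presheaf.map (homOfLE h).op) ≫ W.2.fromSpec) := by
    rw [W.2.map_fromSpec W'.2]
    infer_instance
  exact IsOpenImmersion.of_comp _ W.2.fromSpec

/-- Glueing data for trivial deformations of the affine opens. -/
structure Loc (X : Scheme.{u}) [X.Over (Spec (CommRingCat.of k))] (A : Art k k) where
  ρ : ∀ {W W' : X.affineOpens}, W'.1 ≤ W.1 → (Ten A W →ₐ[k] Ten A W')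
  ρ_base : ∀ {W W' : X.affineOpens} (h : W'.1 ≤ W.1) (a : A), ρ h (1 ⊗ₜ[k] a) = 1 ⊗ₜ[k] a
  red_ρ : ∀ {W W' : X.affineOpens} (h : W'.1 ≤ W.1) (z : Ten A W), tenRed A W' (ρ h z) = resO X h (tenRed A W z)
  ρ_self : ∀ (W : X.affineOpens) (z : Ten A W), ρ (le_refl W.1) z = z
  ρ_trans : ∀ {W W' W'' : X.affineOpens} (h : W'.1 ≤ W.1) (h' : W''.1 ≤ W'.1) (z : Ten A W),
    ρ h' (ρ h z) = ρ (h'.trans h) z

namespace Loc

variable {A B : Art k k} [Smooth (X ↘ Spec (CommRingCat.of k))]

/-- The system of thickenings. -/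
def system (L : Loc X A) : ThickSystem (specRes A) (X ↘ Spec (CommRingCat.of k)) where
  J := Set.univ
  basis z O hz := by
    obtain ⟨W, hW, hle⟩ := KosExt.exists_affine_le (O := O) (x := z) hz
    exact ⟨W, trivial, hW, hle⟩
  R W := CommRingCat.of (Ten A W.1)
  ρ {W W'} h := CommRingCat.ofHom (L.ρ h).toRingHom
  ρ_self W := CommRingCat.hom_ext (RingHom.ext fun z => L.ρ_self W.1 z)
  ρ_trans {W W' W''} h h' := CommRingCat.hom_ext (RingHom.ext fun z => L.ρ_trans h h' z)
  red W := CommRingCat.ofHom (tenRed A W.1).toRingHom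
  red_surjective W := tenRed_surjective A W.1
  red_nil W z hz := by
    have hz' : tenRed A W.1 z = 0 := hz
    have := isNilpotent_sub_red A W.1 z
    rwa [hz', zero_tmul, sub_zero] at this
  ρ_red {W W'} h := CommRingCat.hom_ext (RingHom.ext fun z => L.red_ρ h z)
  isOpenImmersion {W W'} h := by
    have e : CommRingCat.ofHom (Algebra.TensorProduct.includeRight (R := k) (A := Γ(X, W.1.1)) (B := A)).toRingHom ≫
        CommRingCat.ofHom (L.ρ h).toRingHom = CommRingCat.ofHom
          (Algebra.TensorProduct.includeRight (R := k) (A := Γ(X, W'.1.1)) (B := A)).toRingHom := by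
      ext a
      exact L.ρ_base h a
    haveI := isOpenImmersion_res h
    haveI : Flat (Spec.map (CommRingCat.ofHom (L.ρ h).toRingHom) ≫ tenToS A W.1) := by
      rw [← Spec.map_comp, e]
      infer_instance
    refine ThickProp.isOpenImmersion_of_deform (iX := Spec.map (CommRingCat.ofHom (tenRed A W'.1).toRingHom))
      (iY := Spec.map (CommRingCat.ofHom (tenRed A W.1).toRingHom))
      (iS := specRes A) (f := Spec.map (CommRingCat.ofHom (resO X h)))
      (f' := Spec.map (CommRingCat.ofHom (L.ρ h).toRingHom))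
      (g := Spec.map (CommRingCat.ofHom (str (X ↘ Spec (CommRingCat.of k)) W.1.1))) (g' := tenToS A W.1)
      ?_ (isPullback_tenRed A W.1) ?_ ?_
    · have e' : CommRingCat.ofHom (str (X ↘ Spec (CommRingCat.of k)) W.1.1) ≫ CommRingCat.ofHom (resO X h) =
          CommRingCat.ofHom (str (X ↘ Spec (CommRingCat.of k)) W'.1.1) := by
        ext c
        exact str_res _ h c
      rw [← Spec.map_comp, ← Spec.map_comp, e, e']
      exact isPullback_tenRed A W'.1
    · rw [← Spec.map_comp, ← Spec.map_comp]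
      congr 1
      exact CommRingCat.hom_ext (RingHom.ext fun z => L.red_ρ h z)
    · obtain ⟨n, hn⟩ := IsArtinianRing.isNilpotent_jacobson_bot (R := A)
      exact isNilpotent_ker_specMap _ A.res_surjective ⟨n, by
        rw [Submodule.zero_eq_bot, eq_bot_iff, ← Submodule.zero_eq_bot, ← hn]
        refine Ideal.pow_right_mono (fun a ha => ?_) n
        rw [IsLocalRing.jacobson_eq_maximalIdeal ⊥ bot_ne_top, A.mem_maximalIdeal_iff]
        exact ha⟩
  toS W := tenToS A W.1
  toS_ρ {W W'} h := by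
    rw [← Spec.map_comp]
    congr 1
    ext a
    exact L.ρ_base h a
  smooth W := inferInstance
  cart W := by
    have := (IsPullback.of_horiz_isIso (⟨by rw [Category.comp_id, isoSpec_specStr]⟩ :
      CommSq W.1.2.isoSpec.hom (W.1.1.ι ≫ (X ↘ Spec (CommRingCat.of k)))
        (Spec.map (CommRingCat.ofHom (str (X ↘ Spec (CommRingCat.of k)) W.1.1))) (𝟙 _))).paste_horiz
      (isPullback_tenRed A W.1)
    simpa using this

/-- The glued deformation. -/
def toDef (L : Loc X A) : DefSch X (X ↘ Spec (CommRingCat.of k)) A :=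
  haveI := L.system.smooth_structHom
  { total := L.system.total
    f := L.system.structHom
    flat := inferInstance
    i := L.system.exists_reduction.choose
    isPullback := L.system.isPullback_reduction _ L.system.exists_reduction.choose_spec }

/-- The chart of an affine open. -/
abbrev chart (L : Loc X A) (W : X.affineOpens) : Spec (CommRingCat.of (Ten A W)) ⟶ L.toDef.total :=
  L.system.incl ⟨W, trivial⟩

theorem chart_f (L : Loc X A) (W : X.affineOpens) : L.chart W ≫ L.toDef.f = tenToS A W :=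
  L.system.incl_structHom _

theorem ι_i (L : Loc X A) (W : X.affineOpens) : W.1.ι ≫ L.toDef.i =
    (W.2.isoSpec.hom ≫ Spec.map (CommRingCat.ofHom (tenRed A W).toRingHom)) ≫ L.chart W :=
  L.system.exists_reduction.choose_spec ⟨W, trivial⟩

theorem fromSpec_i (L : Loc X A) (W : X.affineOpens) : W.2.fromSpec ≫ L.toDef.i =
    Spec.map (CommRingCat.ofHom (tenRed A W).toRingHom) ≫ L.chart W := by
  rw [← cancel_epi W.2.isoSpec.hom, ← Category.assoc, ← Category.assoc, IsAffineOpen.isoSpec_hom,
    IsAffineOpen.toSpecΓ_fromSpec, ← IsAffineOpen.isoSpec_hom]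
  exact L.ι_i W

theorem chart_res (L : Loc X A) {W W' : X.affineOpens} (h : W'.1 ≤ W.1) :
    Spec.map (CommRingCat.ofHom (L.ρ h).toRingHom) ≫ L.chart W = L.chart W' :=
  L.system.map_incl (W := ⟨W, trivial⟩) (W' := ⟨W', trivial⟩) h

theorem isNilpotent_ker_specRes (B : Art k k) : IsNilpotent (specRes B).ker := by
  obtain ⟨n, hn⟩ := IsArtinianRing.isNilpotent_jacobson_bot (R := B)
  exact isNilpotent_ker_specMap _ B.res_surjective ⟨n, by
    rw [Submodule.zero_eq_bot, eq_bot_iff, ← Submodule.zero_eq_bot, ← hn]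
    refine Ideal.pow_right_mono (fun a ha => ?_) n
    rw [IsLocalRing.jacobson_eq_maximalIdeal ⊥ bot_ne_top, B.mem_maximalIdeal_iff]
    exact ha⟩

omit [Smooth (X ↘ Spec (CommRingCat.of k))] in
/-- A map of deformations over a map of bases is cartesian. -/
theorem exists_cart_of_hom (g : A ⟶ B) {η : DefSch X (X ↘ Spec (CommRingCat.of k)) B}
    {ξ : DefSch X (X ↘ Spec (CommRingCat.of k)) A} (m : η.total ⟶ ξ.total) (hm : m ≫ ξ.f = η.f ≫ specMap g)
    (hi : η.i ≫ m = ξ.i) : ∃ c : Cart g η ξ, c.m = m := by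
  let φ : η.total ⟶ (ξ.baseChange g).total := pullback.lift m η.f hm
  have hφ : φ ≫ (ξ.baseChange g).f = η.f := pullback.lift_snd _ _ _
  have hw : η.i ≫ φ = (ξ.baseChange g).i := by
    refine pullback.hom_ext ?_ ?_
    · rw [Category.assoc, pullback.lift_fst, hi, DefSch.baseChange_i_fst]
    · rw [Category.assoc, pullback.lift_snd, η.i_f]
      exact (DefSch.baseChange_i_f ξ g).symm
  haveI : Flat (φ ≫ (ξ.baseChange g).f) := by rw [hφ]; exact η.flat
  haveI : Surjective (specRes B) := DefFun.surjective_specMap (toBase B)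
  haveI : IsIso φ := ThickProp.isIso_of_deform (iX := η.i) (iY := (ξ.baseChange g).i) (iS := specRes B)
    (f := 𝟙 X) (f' := φ) (g := X ↘ Spec (CommRingCat.of k)) (g' := (ξ.baseChange g).f)
    (by rw [Category.id_comp, hφ]; exact η.isPullback) (ξ.baseChange g).isPullback
    (by rw [Category.id_comp]; exact hw) (isNilpotent_ker_specRes B)
  refine ⟨⟨m, ?_, hi⟩, rfl⟩
  exact (IsPullback.of_hasPullback ξ.f (specMap g)).of_iso (asIso φ).symm (Iso.refl _) (Iso.refl _) (Iso.refl _)
    (by simp [φ]) (by simp [φ]) (by simp) (by simp)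

/-- Compatible maps of charts glue to a cartesian map. -/
theorem exists_cart (g : A ⟶ B) (L' : Loc X B) (ξ : DefSch X (X ↘ Spec (CommRingCat.of k)) A)
    (c : ∀ W : X.affineOpens, Spec (CommRingCat.of (Ten B W)) ⟶ ξ.total)
    (hcf : ∀ W, c W ≫ ξ.f = tenToS B W ≫ specMap g)
    (hci : ∀ W : X.affineOpens, Spec.map (CommRingCat.ofHom (tenRed B W).toRingHom) ≫ c W = W.2.fromSpec ≫ ξ.i)
    (hres : ∀ {W W' : X.affineOpens} (h : W'.1 ≤ W.1),
      Spec.map (CommRingCat.ofHom (L'.ρ h).toRingHom) ≫ c W = c W') :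
    ∃ m : Cart g L'.toDef ξ, ∀ W, L'.chart W ≫ m.m = c W := by
  let m : L'.toDef.total ⟶ ξ.total := colimit.desc L'.system.diagram (Cocone.mk ξ.total
    { app := fun W => c W.1
      naturality := fun W' W h => (hres (leOfHom h)).trans (Category.comp_id _).symm })
  have hmc : ∀ W, L'.chart W ≫ m = c W := fun W => colimit.ι_desc _ _
  suffices h : m ≫ ξ.f = L'.toDef.f ≫ specMap g ∧ L'.toDef.i ≫ m = ξ.i by
    obtain ⟨cm, hcm⟩ := exists_cart_of_hom g m h.1 h.2
    exact ⟨cm, fun W => by rw [hcm]; exact hmc W⟩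
  constructor
  · refine colimit.hom_ext fun W => ?_
    change L'.chart W.1 ≫ m ≫ ξ.f = L'.chart W.1 ≫ L'.toDef.f ≫ specMap g
    rw [← Category.assoc, hmc, hcf, ← Category.assoc, L'.chart_f]
  · refine Scheme.Cover.hom_ext (Scheme.openCoverOfIsOpenCover X (fun W : X.affineOpens => W.1)
      (iSup_affineOpens_eq_top X)) _ _ fun W => ?_
    change W.1.ι ≫ L'.toDef.i ≫ m = W.1.ι ≫ ξ.i
    rw [← Category.assoc, L'.ι_i, Category.assoc, hmc, Category.assoc, hci, ← Category.assoc,
      IsAffineOpen.isoSpec_hom, IsAffineOpen.toSpecΓ_fromSpec]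

/-- Compatible ring maps give a cartesian map of glued deformations. -/
theorem exists_cart_ring (g : A ⟶ B) (L : Loc X A) (L' : Loc X B) (θ : ∀ W : X.affineOpens, Ten A W →ₐ[k] Ten B W)
    (hbase : ∀ W a, θ W (1 ⊗ₜ[k] a) = 1 ⊗ₜ[k] g a) (hred : ∀ W z, tenRed B W (θ W z) = tenRed A W z)
    (hres : ∀ {W W' : X.affineOpens} (h : W'.1 ≤ W.1) z, L'.ρ h (θ W z) = θ W' (L.ρ h z)) :
    Nonempty (Cart g L'.toDef L.toDef) := by
  refine ⟨(exists_cart g L' L.toDef (fun W => Spec.map (CommRingCat.ofHom (θ W).toRingHom) ≫ L.chart W)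
    (fun W => ?_) (fun W => ?_) fun {W W'} h => ?_).choose⟩
  · rw [Category.assoc, L.chart_f, ← Spec.map_comp, ← Spec.map_comp]
    congr 1
    ext a
    exact hbase W a
  · have e : CommRingCat.ofHom (θ W).toRingHom ≫ CommRingCat.ofHom (tenRed B W).toRingHom =
        CommRingCat.ofHom (tenRed A W).toRingHom := by
      exact CommRingCat.hom_ext (RingHom.ext fun z => hred W z)
    rw [← Category.assoc, ← Spec.map_comp, e, L.fromSpec_i]
  · rw [← L.chart_res h, ← Category.assoc, ← Category.assoc, ← Spec.map_comp, ← Spec.map_comp]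
    congr 2
    exact CommRingCat.hom_ext (RingHom.ext fun z => hres h z)

omit [Smooth (X ↘ Spec (CommRingCat.of k))] in
/-- A cartesian map gives the class of the base change. -/
theorem cl_of_cart {g : A ⟶ B} {η : DefSch X (X ↘ Spec (CommRingCat.of k)) B}
    {ξ : DefSch X (X ↘ Spec (CommRingCat.of k)) A} (c : Cart g η ξ) :
    (defFunctor X (X ↘ Spec (CommRingCat.of k))).map g ξ.cl = η.cl := by
  obtain ⟨d, -⟩ := exists_iso_of_cart (cartBase g ξ) c (DefSch.Iso.refl ξ)
  exact Quotient.sound ⟨d⟩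

end Loc

end Groth.Agent.DefLift
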